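import Cfsg.Agent.SuzRecog.InvolFacts
import Cfsg.Agent.SuzType.Build
import Cfsg.Agent.Invol.Count

/-!
A finite group with this involution centraliser equals the image of the presented group.

With `K` the image, every involution of the group is fused into `K` either to `z` or to the image
of `u`, and fusion in `K` of the first class is that of the group.  This bounds first the centraliser
of the four group, then that of `u`, and finally puts every element into `K`.
-/

set_option autoImplicit false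

open Cfsg Cfsg.Agent.LargeExtra

namespace Cfsg.Agent.SuzRecog

section Count

variable {Y : Type*} [Group Y] [Finite Y]

omit [Finite Y] in
/-- A subgroup all of whose elements are inverted by one element is commutative. -/
theorem comm_of_inverted (D : Subgroup Y) (t : Y) (h : ∀ x ∈ D, t * x * t⁻¹ = x⁻¹) :
    ∀ x ∈ D, ∀ y ∈ D, x * y = y * x := fun x hx y hy => by
  have e := h _ (mul_mem hx hy)
  rw [show t * (x * y) * t⁻¹ = t * x * t⁻¹ * (t * y * t⁻¹) by group, h x hx, h y hy,
    ← mul_inv_rev] at e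
  exact (inv_injective e).symm

/-- A subgroup controlling the fusion of its involutions has, outside, an involution inverting in
an odd order subgroup as many elements as there are involutions inside. -/
theorem exists_inverting (L : Subgroup Y) (hL : L ≠ ⊤)
    (hse : ∀ i g : Y, orderOf i = 2 → i ∈ L → g * i * g⁻¹ ∈ L → g ∈ L)
    (hne : ∃ i ∈ L, orderOf i = 2) :
    ∃ (t : Y) (D : Subgroup Y), D ≤ L ∧ Odd (Nat.card D) ∧
      Nat.card {i : Y // orderOf i = 2 ∧ i ∈ L} ≤ Nat.card {x : Y // x ∈ D ∧ t * x * t⁻¹ = x⁻¹} := by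
  classical
  set m := Nat.card {i : Y // orderOf i = 2 ∧ i ∈ L} with hm
  have := Fintype.ofFinite Y
  have hcount : L.index * m ≤ (Finset.univ.filter fun i : Y => orderOf i = 2).card := by
    rw [hm, Subgroup.index, ← Nat.card_prod, ← Fintype.card_subtype, ← Nat.card_eq_fintype_card]
    refine Nat.card_le_card_of_injective (fun p : (Y ⧸ L) × {i : Y // orderOf i = 2 ∧ i ∈ L} =>
      (⟨p.1.out * p.2.1 * p.1.out⁻¹, by rw [Invol.orderOf_conj]; exact p.2.2.1⟩ :
        {i : Y // orderOf i = 2})) ?_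
    rintro ⟨q, ⟨i, hi, hiL⟩⟩ ⟨q', ⟨j, hj, hjL⟩⟩ h
    have h' : q.out * i * q.out⁻¹ = q'.out * j * q'.out⁻¹ := congrArg Subtype.val h
    have hg := hse i (q'.out⁻¹ * q.out) hi hiL (by
      rw [show q'.out⁻¹ * q.out * i * (q'.out⁻¹ * q.out)⁻¹ =
        q'.out⁻¹ * (q.out * i * q.out⁻¹) * q'.out by group, h']
      simpa [mul_assoc] using hjL)
    have hq : q = q' := by
      rw [← QuotientGroup.out_eq' q, ← QuotientGroup.out_eq' q']
      exact (QuotientGroup.eq.2 hg).symm
    subst hq
    have hij : i = j := mul_left_cancel (mul_right_cancel h')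
    subst hij
    rfl
  have hmpos : 0 < m := by
    obtain ⟨i, hiL, hi⟩ := hne
    exact Nat.card_pos_iff.2 ⟨⟨⟨i, hi, hiL⟩⟩, inferInstance⟩
  obtain ⟨t, ht, htL, hJ⟩ : ∃ t : Y, orderOf t = 2 ∧ t ∉ L ∧
      m ≤ Nat.card {i : Y // orderOf i = 2 ∧ i * t⁻¹ ∈ L} := by
    by_contra hno
    push Not at hno
    let r : Y → Quotient (QuotientGroup.rightRel L) := Quotient.mk''
    have := Fintype.ofFinite (Quotient (QuotientGroup.rightRel L))
    have hfib : ∀ q : Quotient (QuotientGroup.rightRel L),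
        ((Finset.univ.filter fun i : Y => orderOf i = 2).filter fun i => r i = q).card ≤ m ∧
        (q ≠ r 1 →
          ((Finset.univ.filter fun i : Y => orderOf i = 2).filter fun i => r i = q).card < m) := by
      intro q
      rcases ((Finset.univ.filter fun i : Y => orderOf i = 2).filter fun i => r i = q).eq_empty_or_nonempty
        with he | ⟨i, hi⟩
      · rw [he]; simp [hmpos]
      · simp only [Finset.mem_filter, Finset.mem_univ, true_and] at hi
        obtain ⟨hi2, rfl⟩ := hi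
        have heq : ∀ j, r j = r i ↔ j * i⁻¹ ∈ L := fun j => by
          rw [Quotient.eq'', QuotientGroup.rightRel_apply]
          rw [← inv_mem_iff, mul_inv_rev, inv_inv]
        have hc : ((Finset.univ.filter fun j : Y => orderOf j = 2).filter fun j => r j = r i).card =
            Nat.card {j : Y // orderOf j = 2 ∧ j * i⁻¹ ∈ L} := by
          rw [Nat.card_eq_fintype_card, Fintype.card_subtype]
          congr 1
          ext j
          simp [heq]
        by_cases hiL : i ∈ L
        · have hcard : Nat.card {j : Y // orderOf j = 2 ∧ j * i⁻¹ ∈ L} = m :=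
            Nat.card_congr (Equiv.subtypeEquivRight fun j =>
              and_congr_right fun _ => L.mul_mem_cancel_right (inv_mem hiL))
          exact ⟨by omega, fun hq => absurd
            ((heq 1).2 (by rw [one_mul]; exact inv_mem hiL)).symm hq⟩
        · have := hno i hi2 hiL
          exact ⟨by omega, fun _ => by omega⟩
    have hidx : 1 < L.index := by
      have h0 : L.index ≠ 0 := Subgroup.index_ne_zero_of_finite
      have h1 : L.index ≠ 1 := fun h => hL (Subgroup.index_eq_one.1 h)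
      omega
    have hq : Fintype.card (Quotient (QuotientGroup.rightRel L)) = L.index := by
      rw [← Nat.card_eq_fintype_card, Subgroup.index]
      exact Nat.card_congr (QuotientGroup.quotientRightRelEquivQuotientLeftRel L)
    obtain ⟨q₀, hq₀⟩ : ∃ q₀, q₀ ≠ r 1 := Fintype.exists_ne_of_one_lt_card (by omega) (r 1)
    have hlt : (∑ q, ((Finset.univ.filter fun i : Y => orderOf i = 2).filter fun i => r i = q).card) <
        ∑ _q : Quotient (QuotientGroup.rightRel L), m :=
      Finset.sum_lt_sum (fun q _ => (hfib q).1) ⟨q₀, Finset.mem_univ _, (hfib q₀).2 hq₀⟩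
    rw [← Finset.card_eq_sum_card_fiberwise (fun _ _ => Finset.mem_univ _), Finset.sum_const,
      Finset.card_univ, hq, smul_eq_mul] at hlt
    omega
  let D : Subgroup Y := L ⊓ L.comap (MulAut.conj t).toMonoidHom
  have htt := Invol.mul_self_eq_one ht
  have hti := Invol.inv_eq_self ht
  have hmemD : ∀ x, x ∈ D ↔ x ∈ L ∧ t * x * t⁻¹ ∈ L := fun x => Iff.rfl
  refine ⟨t, D, inf_le_left, ?_, hJ.trans ?_⟩
  · by_contra hev
    rw [Nat.not_odd_iff_even, even_iff_two_dvd] at hev
    obtain ⟨x, hx⟩ := exists_prime_orderOf_dvd_card' 2 hev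
    have hx' : orderOf (x : Y) = 2 := by rw [Subgroup.orderOf_coe]; exact hx
    exact htL (hse x t hx' ((hmemD _).1 x.2).1 ((hmemD _).1 x.2).2)
  · have hspec : ∀ i : {i : Y // orderOf i = 2 ∧ i * t⁻¹ ∈ L},
        (i : Y) * t⁻¹ ∈ D ∧ t * ((i : Y) * t⁻¹) * t⁻¹ = ((i : Y) * t⁻¹)⁻¹ := by
      rintro ⟨i, hi, hiL⟩
      have e : t * (i * t⁻¹) * t⁻¹ = (i * t⁻¹)⁻¹ := by
        rw [mul_inv_rev, inv_inv, Invol.inv_eq_self hi, hti, mul_assoc, mul_assoc i, htt, mul_one]
      exact ⟨(hmemD _).2 ⟨hiL, e ▸ inv_mem hiL⟩, e⟩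
    exact Nat.card_le_card_of_injective (fun i => ⟨(i : Y) * t⁻¹, hspec i⟩)
      fun a b e => Subtype.ext (mul_right_cancel (congrArg Subtype.val e))

/-- If a subgroup of odd order dividing `80640` has at least `315` elements inverted by one element,
then it has an element of order `35`. -/
theorem exists_order_thirtyfive {D : Subgroup Y} {t : Y} (hodd : Odd (Nat.card D))
    (hdvd : Nat.card D ∣ 80640) (h : 315 ≤ Nat.card {x : Y // x ∈ D ∧ t * x * t⁻¹ = x⁻¹}) :
    ∃ q ∈ D, orderOf q = 35 := by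
  have h315 : Nat.card D ∣ 315 :=
    (Nat.Coprime.pow_right 8 hodd.coprime_two_right).dvd_of_dvd_mul_left
      (by rw [show 2 ^ 8 * 315 = 80640 by norm_num]; exact hdvd)
  have hle : Nat.card {x : Y // x ∈ D ∧ t * x * t⁻¹ = x⁻¹} ≤ Nat.card D :=
    Nat.card_le_card_of_injective (fun x => (⟨x.1, x.2.1⟩ : D))
      fun a b e => Subtype.ext (by simpa using e)
  have hD : Nat.card D = 315 := le_antisymm (Nat.le_of_dvd (by norm_num) h315) (h.trans hle)
  have hall : ∀ x ∈ D, t * x * t⁻¹ = x⁻¹ := by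
    intro x hx
    obtain ⟨y, hy⟩ := ((Nat.bijective_iff_injective_and_card
      (fun y : {x : Y // x ∈ D ∧ t * x * t⁻¹ = x⁻¹} => (⟨y.1, y.2.1⟩ : D))).2
        ⟨fun a b e => Subtype.ext (by simpa using e), by omega⟩).2 ⟨x, hx⟩
    have hyx : (y : Y) = x := congrArg Subtype.val hy
    exact hyx ▸ y.2.2
  have hcom := comm_of_inverted D t hall
  have := Fact.mk Nat.prime_five
  have := Fact.mk (by norm_num : Nat.Prime 7)
  obtain ⟨a, ha⟩ := exists_prime_orderOf_dvd_card' (G := D) 5 (by rw [hD]; norm_num)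
  obtain ⟨b, hb⟩ := exists_prime_orderOf_dvd_card' (G := D) 7 (by rw [hD]; norm_num)
  have hc : Commute (a : Y) b := hcom _ a.2 _ b.2
  refine ⟨a * b, mul_mem a.2 b.2, ?_⟩
  rw [hc.orderOf_mul_eq_mul_orderOf_of_coprime (by
    rw [Subgroup.orderOf_coe, Subgroup.orderOf_coe, ha, hb]; norm_num),
    Subgroup.orderOf_coe, Subgroup.orderOf_coe, ha, hb]

/-- For two non-conjugate involutions `a`, `b` there is a central involution `c` of the group they
generate, and `a * c` is conjugate to `a` or to `b`. -/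
theorem exists_central_shift {a b : Y} (ha : orderOf a = 2) (hb : orderOf b = 2)
    (h : ¬ IsConj a b) :
    ∃ c d : Y, orderOf c = 2 ∧ Commute c a ∧ Commute c b ∧
      (d * a * d⁻¹ = a * c ∨ d * b * d⁻¹ = a * c) := by
  have heven : Even (orderOf (a * b)) := by
    by_contra hc
    exact h (Invol.isConj_of_odd ha hb (Nat.not_even_iff_odd.1 hc))
  set n := orderOf (a * b) / 2 with hn
  refine ⟨(a * b) ^ n, ?_⟩
  obtain ⟨k, hk⟩ | ⟨k, hk⟩ := Nat.even_or_odd n
  · obtain ⟨d, -, hd⟩ := Invol.exists_conj_eq ha hb (k : ℤ)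
    refine ⟨d, Invol.orderOf_central heven (orderOf_pos _), Invol.commute_central ha hb heven,
      Invol.commute_central' ha hb heven, Or.inl ?_⟩
    rw [hd, hk, ← zpow_natCast]
    congr 2
    push_cast
    ring
  · obtain ⟨d, -, hd⟩ := Invol.exists_conj_eq hb ha (-k : ℤ)
    refine ⟨d, Invol.orderOf_central heven (orderOf_pos _), Invol.commute_central ha hb heven,
      Invol.commute_central' ha hb heven, Or.inr ?_⟩
    have hba : b * a = (a * b)⁻¹ := by
      rw [mul_inv_rev, Invol.inv_eq_self ha, Invol.inv_eq_self hb]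
    rw [hd, hk, hba, inv_zpow, ← zpow_neg, pow_succ', ← mul_assoc, Invol.mul_mul_cancel_self ha,
      ← zpow_natCast]
    congr 2
    push_cast
    ring

end Count

variable {G : Type*} [Group G] [Finite G]

/-- The centraliser of the involution of the setting has order divisible by `2 ^ 13`. -/
theorem two_pow_dvd_centralizer {z : G} (S : SuzType.Suz z) :
    2 ^ 13 ∣ Nat.card ↥(Subgroup.centralizer ({z} : Set G)) := by
  set C := Subgroup.centralizer ({z} : Set G)
  have hCz : ∀ c : C, (c : G) * z = z * c := fun c => Subgroup.mem_centralizer_singleton_iff.1 c.2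
  let φ : ↥C →* SuzType.O :=
    MonoidHom.mk' (fun c => S.act (c : G)) fun a b => S.act_mul (hCz a) (hCz b)
  have hrange : Nat.card ↥φ.range = 25920 := by
    obtain ⟨-, hΩ, hmem⟩ := SuzType.omega_facts
    rw [← ThreeTrans.OrthCohom.qM_coe] at hΩ
    rw [← hΩ]
    refine Nat.card_congr ((Classical.Quad.oEquiv (ThreeTrans.OrthCohom.qM 2)).toEquiv.subtypeEquiv
      fun g => ?_).symm
    rw [hmem]
    exact ⟨fun h => by
      obtain ⟨c, hc, he⟩ := S.act_surj _ h
      exact ⟨⟨c, Subgroup.mem_centralizer_singleton_iff.2 hc⟩, he⟩,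
      fun ⟨c, he⟩ => he ▸ S.act_even _ (hCz c)⟩
  have hker : 2 ^ 7 ∣ Nat.card ↥φ.ker := by
    have hle : (oc z).subgroupOf C ≤ φ.ker := fun c hc => S.act_inner hc
    refine dvd_trans ?_ (Subgroup.card_dvd_of_le hle)
    rw [Nat.card_congr (Subgroup.subgroupOfEquivOfLe (oc_le z)).toEquiv, S.card]
  have h := φ.ker.card_mul_index
  rw [Subgroup.index_ker, hrange] at h
  rw [← h, show 2 ^ 13 = 2 ^ 7 * 2 ^ 6 by norm_num]
  exact mul_dvd_mul hker (by norm_num)

section Final

variable {z : G} {u v s s' : Spor.Suz} {θ : Spor.Suz →* G} {zM : Spor.Suz}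
  (S : SuzType.Suz z) (F : InvolFacts u v s s') (hθ : Function.Injective θ) (hz : θ zM = z)
  (hC : Subgroup.centralizer ({z} : Set G) ≤ θ.range)

include S F hθ hz hC

/-- The distinguished involution is of the class of `s`. -/
theorem isConj_zM : IsConj s zM := by
  have : Finite Spor.Suz := Finite.of_injective θ hθ
  have ho : orderOf zM = 2 := by rw [← orderOf_injective θ hθ zM, hz]; exact S.sett.ord
  refine (F.classes zM ho).resolve_left fun hu => ?_
  have hcard : Nat.card (Subgroup.centralizer ({zM} : Set Spor.Suz)) =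
      Nat.card (Subgroup.centralizer ({z} : Set G)) := by
    refine Nat.card_congr (Equiv.ofBijective (fun x => ⟨θ x.1,
      Subgroup.mem_centralizer_singleton_iff.2 (by
        rw [← hz, ← map_mul, ← map_mul, Subgroup.mem_centralizer_singleton_iff.1 x.2])⟩) ⟨?_, ?_⟩)
    · exact fun a b e => Subtype.ext (hθ (congrArg Subtype.val e))
    · rintro ⟨g, hg⟩
      obtain ⟨x, rfl⟩ := hC hg
      refine ⟨⟨x, Subgroup.mem_centralizer_singleton_iff.2 (hθ ?_)⟩, rfl⟩
      rw [map_mul, map_mul, hz]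
      exact Subgroup.mem_centralizer_singleton_iff.1 hg
  have h1 := Invol.card_isConj_mul_card_centralizer u
  have h2 := Invol.card_isConj_mul_card_centralizer zM
  have he : Nat.card {y : Spor.Suz // IsConj zM y} = Nat.card {y : Spor.Suz // IsConj u y} :=
    Nat.card_congr (Equiv.subtypeEquivRight fun y => ⟨hu.trans, hu.symm.trans⟩)
  rw [he, ← h1, hcard] at h2
  have hpos : 0 < Nat.card {y : Spor.Suz // IsConj u y} :=
    Nat.card_pos_iff.2 ⟨⟨⟨u, IsConj.refl u⟩⟩, inferInstance⟩
  have h3 := (two_pow_dvd_centralizer S).trans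
    (Nat.eq_of_mul_eq_mul_left hpos h2 ▸ F.card_dvd)
  norm_num at h3

/-- The image of `u` is not conjugate to `z`. -/
theorem not_conj_zu : ¬ IsConj z (θ u) := by
  intro hzu
  obtain ⟨a, b, ha, hb, hab, -⟩ := SuzType.Suz.two_classes (S := S)
  have key : ∀ x : G, orderOf x = 2 → IsConj z x := by
    intro x hx
    obtain ⟨g, hg⟩ := SuzType.Suz.exists_conj_comm (S := S) hx
    obtain ⟨i, hi⟩ := hC (Subgroup.mem_centralizer_singleton_iff.2 hg)
    have hxi : IsConj (θ i) x := hi ▸ (isConj_iff.2 ⟨g, rfl⟩ : IsConj x _).symm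
    have hi2 : orderOf i = 2 := by rw [← orderOf_injective θ hθ i, hi, Invol.orderOf_conj, hx]
    rcases F.classes i hi2 with h | h
    · exact (hzu.trans (θ.map_isConj h)).trans hxi
    · exact (hz ▸ θ.map_isConj ((isConj_zM S F hθ hz hC).symm.trans h)).trans hxi
  exact hab ((key a ha).symm.trans (key b hb))

theorem conj_z_of_s {a : Spor.Suz} (h : IsConj s a) : IsConj z (θ a) :=
  hz ▸ θ.map_isConj ((isConj_zM S F hθ hz hC).symm.trans h)

theorem not_conj_z_of_u {a : Spor.Suz} (h : IsConj u a) : ¬ IsConj z (θ a) := fun h' =>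
  not_conj_zu S F hθ hz hC (h'.trans (θ.map_isConj h).symm)

theorem s_of_conj_z {a : Spor.Suz} (h : IsConj z (θ a)) : IsConj s a := by
  have ho : orderOf a = 2 := by
    rw [← orderOf_injective θ hθ a]
    exact Invol.orderOf_eq_two_of_isConj h S.sett.ord
  exact (F.classes a ho).resolve_left fun hu => not_conj_z_of_u S F hθ hz hC hu h

/-- An element moving an involution of the class of `z` inside the image lies in the image. -/
theorem mem_of_move {i g : G} (hiz : IsConj z i) (hi : i ∈ θ.range)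
    (hg : g * i * g⁻¹ ∈ θ.range) : g ∈ θ.range := by
  obtain ⟨a, rfl⟩ := hi
  obtain ⟨b, hb⟩ := hg
  have hbz : IsConj z (θ b) := hb ▸ hiz.trans (isConj_iff.2 ⟨g, rfl⟩)
  obtain ⟨p, hp⟩ := isConj_iff.1
    ((isConj_zM S F hθ hz hC).symm.trans (s_of_conj_z S F hθ hz hC hiz))
  obtain ⟨q, hq⟩ := isConj_iff.1
    ((isConj_zM S F hθ hz hC).symm.trans (s_of_conj_z S F hθ hz hC hbz))
  rw [← hp, ← hq] at hb
  simp only [map_mul, map_inv, hz] at hb
  have hm : (θ q)⁻¹ * g * θ p ∈ θ.range := by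
    refine hC (Subgroup.mem_centralizer_singleton_iff.2 ?_)
    calc (θ q)⁻¹ * g * θ p * z = (θ q)⁻¹ * (g * (θ p * z * (θ p)⁻¹) * g⁻¹) * g * θ p := by group
      _ = (θ q)⁻¹ * (θ q * z * (θ q)⁻¹) * g * θ p := by rw [← hb]
      _ = z * ((θ q)⁻¹ * g * θ p) := by group
  have := mul_mem (mul_mem (⟨q, rfl⟩ : θ q ∈ θ.range) hm) (inv_mem (⟨p, rfl⟩ : θ p ∈ θ.range))
  simpa [mul_assoc] using this

/-- The centraliser of the four group lies in the image. -/
theorem centralizer_four_le {g : G} (hgu : g * θ u = θ u * g) (hgv : g * θ v = θ v * g) :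
    g ∈ θ.range := by
  have : Finite Spor.Suz := Finite.of_injective θ hθ
  by_contra hgK
  have huu := Invol.mul_self_eq_one F.ou
  have hvv := Invol.mul_self_eq_one F.ov
  set U := θ u with hU
  set W := θ v with hW
  set Y : Subgroup G := Subgroup.centralizer ({U, W} : Set G) with hY
  have memY : ∀ x : G, x ∈ Y ↔ x * U = U * x ∧ x * W = W * x := by
    intro x
    simp [hY, Subgroup.mem_centralizer_iff, eq_comm]
  have hvu : v * u = u * v := F.uv.symm
  have hvux : ∀ x, v * (u * x) = u * (v * x) := fun x => by rw [← mul_assoc, hvu, mul_assoc]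
  have huux : ∀ x, u * (u * x) = x := fun x => by rw [← mul_assoc, huu, one_mul]
  have hvvx : ∀ x, v * (v * x) = x := fun x => by rw [← mul_assoc, hvv, one_mul]
  let four : Subgroup Spor.Suz :=
    { carrier := {x | x = 1 ∨ x = u ∨ x = v ∨ x = u * v}
      one_mem' := Or.inl rfl
      mul_mem' := fun {a b} ha hb => by
        rcases ha with rfl | rfl | rfl | rfl <;> rcases hb with rfl | rfl | rfl | rfl <;>
          simp [mul_assoc, huu, hvv, hvu, hvux, huux]
      inv_mem' := fun {a} ha => by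
        rcases ha with rfl | rfl | rfl | rfl <;>
          simp [mul_inv_rev, Invol.inv_eq_self F.ou, Invol.inv_eq_self F.ov, hvu] }
  let N : Subgroup ↥Y := (four.map θ).subgroupOf Y
  have hNc : N ≤ Subgroup.center ↥Y := by
    rintro ⟨x, hx⟩ ⟨a, ha, hax⟩
    refine Subgroup.mem_center_iff.2 fun y => Subtype.ext ?_
    obtain ⟨hy1, hy2⟩ := (memY y).1 y.2
    show (y : G) * x = x * y
    change θ a = x at hax
    rw [← hax]
    rcases ha with rfl | rfl | rfl | rfl
    · rw [map_one, mul_one, one_mul]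
    · exact hy1
    · exact hy2
    · rw [map_mul]; exact Commute.mul_right hy1 hy2
  have : N.Normal := ⟨fun n hn y => by rw [Subgroup.mem_center_iff.1 (hNc hn) y, mul_inv_cancel_right]; exact hn⟩
  have hfourK : four.map θ ≤ θ.range := fun x hx => by
    obtain ⟨a, -, rfl⟩ := hx; exact ⟨a, rfl⟩
  let π : ↥Y →* ↥Y ⧸ N := QuotientGroup.mk' N
  let L : Subgroup (↥Y ⧸ N) := (θ.range.subgroupOf Y).map π
  have memL : ∀ y : Y, π y ∈ L ↔ (y : G) ∈ θ.range := by
    intro y
    refine ⟨?_, fun h => ⟨y, h, rfl⟩⟩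
    rintro ⟨y', hy', e⟩
    obtain ⟨n, hn, e'⟩ := (QuotientGroup.mk'_eq_mk' N).1 e
    rw [← e']
    exact mul_mem hy' (hfourK hn)
  have hL : L ≠ ⊤ := fun h =>
    hgK ((memL ⟨g, (memY g).2 ⟨hgu, hgv⟩⟩).1 (h ▸ Subgroup.mem_top _))
  have hse : ∀ i g : ↥Y ⧸ N, orderOf i = 2 → i ∈ L → g * i * g⁻¹ ∈ L → g ∈ L := by
    intro i g' hi hiL hgL
    obtain ⟨y, rfl⟩ := QuotientGroup.mk'_surjective N i
    obtain ⟨h, rfl⟩ := QuotientGroup.mk'_surjective N g'
    obtain ⟨a, ha⟩ := (memL y).1 hiL
    rw [← map_mul, ← map_inv, ← map_mul] at hgL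
    have hh : (h : G) * y * (h : G)⁻¹ ∈ θ.range := (memL _).1 hgL
    obtain ⟨hyu, hyv⟩ := (memY y).1 y.2
    obtain ⟨hhu, hhv⟩ := (memY h).1 h.2
    have hau : a * u = u * a := hθ (by rw [map_mul, map_mul, ha]; exact hyu)
    have hav : a * v = v * a := hθ (by rw [map_mul, map_mul, ha]; exact hyv)
    have hsq : a * a ∈ four := by
      have h1 : π (y * y) = 1 := by rw [map_mul]; exact Invol.mul_self_eq_one hi
      obtain ⟨b, hb, hbe⟩ := (QuotientGroup.eq_one_iff _).1 h1
      have : θ b = θ (a * a) := by rw [map_mul, ha]; exact hbe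
      exact hθ this ▸ hb
    have hnot : a ∉ four := fun h1 => Invol.ne_one hi
      ((QuotientGroup.eq_one_iff _).2 ⟨a, h1, ha⟩)
    obtain ⟨e, he, hse'⟩ := F.coset a hau hav hsq hnot
    have heY : (h : G) * θ e = θ e * h := by
      rcases he with rfl | rfl | rfl | rfl
      · rw [map_one, mul_one, one_mul]
      · exact hhu
      · exact hhv
      · rw [map_mul]; exact Commute.mul_right hhu hhv
    refine (memL h).2 (mem_of_move S F hθ hz hC (conj_z_of_s S F hθ hz hC hse') ⟨_, rfl⟩ ?_)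
    rw [map_mul, ha, show (h : G) * (y * θ e) * (h : G)⁻¹ =
      (h : G) * y * (h : G)⁻¹ * ((h : G) * θ e * (h : G)⁻¹) by group,
      mul_inv_eq_iff_eq_mul.2 heY]
    exact mul_mem hh ⟨e, rfl⟩
  obtain ⟨f, hf, hfinj⟩ := F.many
  let fY : Fin 315 → ↥Y := fun i => ⟨θ (f i), (memY _).2
    ⟨by rw [hU, ← map_mul, ← map_mul, (hf i).1], by rw [hW, ← map_mul, ← map_mul, (hf i).2.1]⟩⟩
  have hfs : ∀ i, orderOf (π (fY i)) = 2 := by
    intro i
    have hfo := Invol.orderOf_eq_two_of_isConj (hf i).2.2 F.os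
    refine Invol.orderOf_eq_two_iff.2 ⟨fun e => ?_, ?_⟩
    · obtain ⟨b, hb, hbe⟩ := (QuotientGroup.eq_one_iff _).1 e
      have hb' : b = f i := hθ hbe
      rw [hb'] at hb
      rcases hb with h1 | h1 | h1 | h1
      · exact Invol.ne_one hfo h1
      · exact F.not_conj ((h1 ▸ (hf i).2.2).symm)
      · exact F.not_conj (F.conj_v.trans (h1 ▸ (hf i).2.2).symm)
      · exact F.not_conj (F.conj_uv.trans (h1 ▸ (hf i).2.2).symm)
    · rw [← map_mul]
      refine (QuotientGroup.eq_one_iff _).2 ⟨1, Or.inl rfl, ?_⟩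
      show θ 1 = θ (f i) * θ (f i)
      rw [← map_mul, Invol.mul_self_eq_one hfo]
  have hmany : 315 ≤ Nat.card {i : ↥Y ⧸ N // orderOf i = 2 ∧ i ∈ L} := by
    refine le_trans (le_of_eq (Nat.card_fin 315).symm) (Nat.card_le_card_of_injective
      (fun i => ⟨π (fY i), hfs i, (memL _).2 ⟨f i, rfl⟩⟩) fun i j e => hfinj i j ?_)
    obtain ⟨b, hb, hbe⟩ := QuotientGroup.eq.1 (congrArg Subtype.val e)
    have hb' : b = (f i)⁻¹ * f j := hθ (by
      rw [map_mul, map_inv]; exact hbe)
    exact hb' ▸ hb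
  obtain ⟨t, D, hDL, hodd, hle⟩ := exists_inverting L hL hse
    ⟨π (fY 0), (memL _).2 ⟨f 0, rfl⟩, hfs 0⟩
  have hLdvd : Nat.card L ∣ 80640 := by
    refine ((Subgroup.card_map_dvd _ π).trans (dvd_of_eq ?_)).trans F.card_four
    symm
    refine Nat.card_congr (Equiv.ofBijective
      (fun x : ↥(Subgroup.centralizer ({u, v} : Set Spor.Suz)) =>
        (⟨⟨θ x.1, (memY _).2 ?_⟩, ⟨x.1, rfl⟩⟩ : ↥(θ.range.subgroupOf Y))) ⟨?_, ?_⟩)
    · have h1 := Subgroup.mem_centralizer_iff.1 x.2
      constructor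
      · rw [hU, ← map_mul, ← map_mul, h1 u (by simp)]
      · rw [hW, ← map_mul, ← map_mul, h1 v (by simp)]
    · exact fun a b e => Subtype.ext (hθ (congrArg Subtype.val (congrArg Subtype.val e)))
    · rintro ⟨⟨y, hy⟩, a, ha⟩
      change θ a = y at ha
      subst ha
      obtain ⟨hy1, hy2⟩ := (memY _).1 hy
      refine ⟨⟨a, Subgroup.mem_centralizer_iff.2 fun w hw => ?_⟩, rfl⟩
      rcases hw with rfl | rfl
      · exact hθ (by rw [map_mul, map_mul]; exact hy1.symm)
      · exact hθ (by rw [map_mul, map_mul]; exact hy2.symm)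
  obtain ⟨q, hqD, hq⟩ := exists_order_thirtyfive hodd
    ((Subgroup.card_dvd_of_le hDL).trans hLdvd) (hmany.trans hle)
  obtain ⟨y, ⟨a, ha⟩, rfl⟩ := hDL hqD
  have h35 : 35 ∣ orderOf a := by
    rw [← hq, ← orderOf_injective θ hθ a, ha]
    exact (orderOf_map_dvd π y).trans (dvd_of_eq (Subgroup.orderOf_coe y).symm)
  obtain ⟨k, hk⟩ := h35
  have hk0 : k ≠ 0 := fun h => (orderOf_pos a).ne' (by rw [hk, h, mul_zero])
  refine F.no35 (a ^ (7 * k)) (a ^ (5 * k)) ?_ ?_ ((Commute.refl a).pow_pow _ _).eq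
  · rw [orderOf_pow_of_dvd (by omega) ⟨5, by rw [hk]; ring⟩, hk]
    exact Nat.div_eq_of_eq_mul_left (by omega) (by ring)
  · rw [orderOf_pow_of_dvd (by omega) ⟨7, by rw [hk]; ring⟩, hk]
    exact Nat.div_eq_of_eq_mul_left (by omega) (by ring)

/-- An element centralising `u` and moving `v` into the image lies in it. -/
theorem mem_of_move_v {g : G} (hgu : g * θ u = θ u * g) (hg : g * θ v * g⁻¹ ∈ θ.range) :
    g ∈ θ.range ∧ (g * θ v * g⁻¹ = θ v ∨ g * θ v * g⁻¹ = θ (u * v)) := by
  obtain ⟨x, hx⟩ := hg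
  have hxu : x * u = u * x := hθ (by
    rw [map_mul, map_mul, hx]
    have hUW : Commute (θ u) (θ v) := by
      show θ u * θ v = θ v * θ u
      rw [← map_mul, ← map_mul, F.uv]
    exact (((show Commute g (θ u) from hgu).mul_left hUW.symm).mul_left
      (show Commute g (θ u) from hgu).inv_left).eq)
  have hxx : x * x = 1 := hθ (by
    rw [map_mul, hx, map_one, show g * θ v * g⁻¹ * (g * θ v * g⁻¹) = g * (θ v * θ v) * g⁻¹ by group,
      ← map_mul, Invol.mul_self_eq_one F.ov, map_one]
    group)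
  obtain ⟨t, ht, htu, htx⟩ := F.exists_comm x hxu hxx
  have hT1 : g⁻¹ * θ t * g * θ u = θ u * (g⁻¹ * θ t * g) := by
    have h1 : Commute g (θ u) := hgu
    have h2 : Commute (θ t) (θ u) := by
      show θ t * θ u = θ u * θ t
      rw [← map_mul, ← map_mul, htu]
    exact ((h1.inv_left.mul_left h2).mul_left h1).eq
  have hT2 : g⁻¹ * θ t * g * θ v = θ v * (g⁻¹ * θ t * g) := by
    calc g⁻¹ * θ t * g * θ v = g⁻¹ * (θ t * (g * θ v * g⁻¹)) * g := by group
      _ = g⁻¹ * (θ x * θ t) * g := by rw [← hx, ← map_mul, htx, map_mul]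
      _ = θ v * (g⁻¹ * θ t * g) := by rw [hx]; group
  have hmem := centralizer_four_le S F hθ hz hC hT1 hT2
  have hgK : g ∈ θ.range := inv_mem_iff.1 (mem_of_move S F hθ hz hC
    (conj_z_of_s S F hθ hz hC ht) ⟨t, rfl⟩ (by rwa [inv_inv]))
  refine ⟨hgK, ?_⟩
  obtain ⟨h, rfl⟩ := hgK
  have hhu : h * u = u * h := hθ (by rw [map_mul, map_mul]; exact hgu)
  rcases F.four_norm h hhu with e | e
  · exact Or.inl (by rw [← map_inv, ← map_mul, ← map_mul, e])
  · exact Or.inr (by rw [← map_inv, ← map_mul, ← map_mul, e])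

/-- The step of the proof that `C(u)` lies in the image, for one of the elements `s`, `s'`. -/
theorem pull_back {r : Spor.Suz} (hr : IsConj s r) (hru : r * u = u * r)
    (hprod : ∀ t : Spor.Suz, t * u = u * t → t * r = r * t → t ≠ r → IsConj s t → IsConj s (r * t))
    {g : G} (hgu : g * θ u = θ u * g) (hgK : g ∉ θ.range) :
    g⁻¹ * θ (r * v) * g ∈ θ.range := by
  have huu := Invol.mul_self_eq_one F.ou
  have hvv := Invol.mul_self_eq_one F.ov
  have hro : orderOf r = 2 := Invol.orderOf_eq_two_of_isConj hr F.os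
  have hrr := Invol.mul_self_eq_one hro
  have hrne : r ≠ u := fun e => F.not_conj (e ▸ hr).symm
  have hruo : orderOf (r * u) = 2 := by
    refine Invol.orderOf_eq_two_iff.2 ⟨fun e => hrne ?_, ?_⟩
    · rw [mul_eq_one_iff_eq_inv.1 e, Invol.inv_eq_self F.ou]
    · rw [show r * u * (r * u) = r * (u * r) * u by group, ← hru,
        show r * (r * u) * u = (r * r) * (u * u) by group, hrr, huu, one_mul]
  have hruc : ¬ IsConj s (r * u) := fun hc => by
    have h := hprod (r * u) (by rw [mul_assoc, huu, ← mul_assoc, ← hru, mul_assoc, huu])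
      (by rw [mul_assoc, ← hru]) (fun e => Invol.ne_one F.ou (mul_eq_left.1 e)) hc
    rw [← mul_assoc, hrr, one_mul] at h
    exact F.not_conj h.symm
  set U := θ u with hU
  set R := θ r with hR
  set W := θ v with hW
  set W' := g * W * g⁻¹ with hW'
  have hUU : U * U = 1 := by rw [hU, ← map_mul, huu, map_one]
  have hgU : Commute g U := hgu
  have hRU : Commute R U := by
    show θ r * θ u = θ u * θ r
    rw [← map_mul, ← map_mul, hru]
  have hWU : Commute W U := by
    show θ v * θ u = θ u * θ v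
    rw [← map_mul, ← map_mul, F.uv]
  have hW'U : Commute W' U := (hgU.mul_left hWU).mul_left hgU.inv_left
  have hW'K : W' ∉ θ.range := fun h => hgK (mem_of_move_v S F hθ hz hC hgu h).1
  have hUK : U ∈ θ.range := ⟨u, rfl⟩
  set X : Subgroup G := Subgroup.centralizer ({U} : Set G) with hX
  let N : Subgroup ↥X :=
    { carrier := {x | (x : G) = 1 ∨ (x : G) = U}
      one_mem' := Or.inl rfl
      mul_mem' := fun {a b} ha hb => by
        show ((a * b : ↥X) : G) = 1 ∨ ((a * b : ↥X) : G) = U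
        rw [Subgroup.coe_mul]
        rcases ha with ha | ha <;> rcases hb with hb | hb <;> rw [ha, hb] <;> simp [hUU]
      inv_mem' := fun {a} ha => by
        rcases ha with ha | ha
        · exact Or.inl (by rw [Subgroup.coe_inv, ha, inv_one])
        · exact Or.inr (by rw [Subgroup.coe_inv, ha, inv_eq_of_mul_eq_one_right hUU]) }
  have : N.Normal := ⟨fun x hx y => by
    have hc : y * x = x * y := Subtype.ext (by
      show (y : G) * x = x * y
      rcases (show (x : G) = 1 ∨ (x : G) = U from hx) with h | h <;> rw [h]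
      · rw [mul_one, one_mul]
      · exact Subgroup.mem_centralizer_singleton_iff.1 y.2)
    rw [hc, mul_inv_cancel_right]
    exact hx⟩
  let π : ↥X →* ↥X ⧸ N := QuotientGroup.mk' N
  have hcoset : ∀ x y : ↥X, π x = π y → (y : G) = x ∨ (y : G) = x * U := fun x y e => by
    rcases QuotientGroup.eq.1 e with h | h
    · exact Or.inl (inv_mul_eq_one.1 (show (x : G)⁻¹ * y = 1 from h)).symm
    · exact Or.inr (inv_mul_eq_iff_eq_mul.1 (show (x : G)⁻¹ * y = U from h))
  let a : ↥X := ⟨R, Subgroup.mem_centralizer_singleton_iff.2 hRU.eq⟩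
  let b : ↥X := ⟨W', Subgroup.mem_centralizer_singleton_iff.2 hW'U.eq⟩
  have ha : orderOf (π a) = 2 := Invol.orderOf_eq_two_iff.2 ⟨fun e => by
      rcases (QuotientGroup.eq_one_iff _).1 e with h | h
      · exact Invol.ne_one hro (hθ ((show θ r = 1 from h).trans (map_one θ).symm))
      · exact hrne (hθ h), by
      rw [← map_mul]
      exact (QuotientGroup.eq_one_iff _).2 (Or.inl (show θ r * θ r = 1 by rw [← map_mul, hrr, map_one]))⟩
  have hb : orderOf (π b) = 2 := Invol.orderOf_eq_two_iff.2 ⟨fun e => by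
      rcases (QuotientGroup.eq_one_iff _).1 e with h | h
      · exact hW'K ((show W' = 1 from h) ▸ one_mem _)
      · exact hW'K ((show W' = U from h) ▸ hUK), by
      rw [← map_mul]
      refine (QuotientGroup.eq_one_iff _).2 (Or.inl ?_)
      show W' * W' = 1
      rw [hW', show g * W * g⁻¹ * (g * W * g⁻¹) = g * (W * W) * g⁻¹ by group, hW, ← map_mul, hvv,
        map_one]
      group⟩
  have hzR : IsConj z R := conj_z_of_s S F hθ hz hC hr
  have hzW : ¬ IsConj z W' := fun h => not_conj_z_of_u S F hθ hz hC F.conj_v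
    (h.trans (isConj_iff.2 ⟨g, rfl⟩ : IsConj W W').symm)
  have hzWU : ¬ IsConj z (W' * U) := fun h => not_conj_z_of_u S F hθ hz hC F.conj_uv
    (h.trans (isConj_iff.2 ⟨g, by
      rw [map_mul, ← hU, ← hW, ← hWU.eq, hW', mul_assoc (g * W), hgU.inv_left.eq]
      group⟩ : IsConj (θ (u * v)) (W' * U)).symm)
  have hnc : ¬ IsConj (π a) (π b) := fun hc => by
    obtain ⟨c, hc⟩ := isConj_iff.1 hc
    obtain ⟨h, rfl⟩ := QuotientGroup.mk'_surjective N c
    rw [← map_inv, ← map_mul, ← map_mul] at hc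
    rcases hcoset _ _ hc.symm with e | e
    · exact hzW (hzR.trans (isConj_iff.2 ⟨h, e⟩))
    · exact hzWU (hzR.trans (isConj_iff.2 ⟨h, e⟩))
  obtain ⟨c, d, hc, hca, hcb, hd⟩ := exists_central_shift ha hb hnc
  obtain ⟨w, rfl⟩ := QuotientGroup.mk'_surjective N c
  obtain ⟨d', rfl⟩ := QuotientGroup.mk'_surjective N d
  have hwU : Commute (w : G) U := Subgroup.mem_centralizer_singleton_iff.1 w.2
  have hwR : Commute (w : G) R := by
    have e : π (w * a * w⁻¹) = π a := by
      rw [map_mul, map_mul, map_inv, hca.eq, mul_inv_cancel_right]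
    rcases hcoset _ _ e.symm with e' | e'
    · exact mul_inv_eq_iff_eq_mul.1 (show (w : G) * R * (w : G)⁻¹ = R from e')
    · exact absurd (hzR.trans (isConj_iff.2 ⟨w, (show (w : G) * R * (w : G)⁻¹ = θ (r * u) by
        rw [map_mul]; exact e')⟩)) fun h => hruc (s_of_conj_z S F hθ hz hC h)
  have hwK : (w : G) ∈ θ.range :=
    mem_of_move S F hθ hz hC hzR ⟨r, rfl⟩ (by rw [hwR.eq, mul_inv_cancel_right]; exact ⟨r, rfl⟩)
  have hgwg : g⁻¹ * (w : G) * g ∈ θ.range := by
    have e : π (w * b * w⁻¹) = π b := by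
      rw [map_mul, map_mul, map_inv, hcb.eq, mul_inv_cancel_right]
    refine (mem_of_move_v S F hθ hz hC ((hgU.inv_left.mul_left hwU).mul_left hgU).eq ?_).1
    rw [show g⁻¹ * (w : G) * g * θ v * (g⁻¹ * (w : G) * g)⁻¹ = g⁻¹ * ((w : G) * W' * (w : G)⁻¹) * g by
      rw [hW', hW]; group]
    rcases hcoset _ _ e.symm with e' | e'
    · rw [show (w : G) * W' * (w : G)⁻¹ = W' from e', hW',
        show g⁻¹ * (g * W * g⁻¹) * g = W by group]
      exact ⟨v, rfl⟩
    · rw [show (w : G) * W' * (w : G)⁻¹ = W' * U from e', hW',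
        show g⁻¹ * (g * W * g⁻¹ * U) * g = W * (g⁻¹ * (U * g)) by group, ← hgU.eq,
        inv_mul_cancel_left]
      exact mul_mem ⟨v, rfl⟩ hUK
  have hconjU : g⁻¹ * U * g = U := by rw [mul_assoc, ← hgU.eq, inv_mul_cancel_left]
  rw [← map_mul] at hd
  rcases hd with hd | hd
  · exfalso
    rw [← map_inv, ← map_mul, ← map_mul] at hd
    obtain ⟨e, he, hde⟩ : ∃ e : G, (e = 1 ∨ e = U) ∧ (d' : G) * R * (d' : G)⁻¹ = R * w * e := by
      rcases hcoset _ _ hd.symm with h | h
      · exact ⟨1, Or.inl rfl, by rw [mul_one]; exact h⟩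
      · exact ⟨U, Or.inr rfl, h⟩
    have heK : e ∈ θ.range := by rcases he with rfl | rfl; exacts [one_mem _, hUK]
    obtain ⟨t, ht⟩ : R * (w : G) * e ∈ θ.range := mul_mem (mul_mem ⟨r, rfl⟩ hwK) heK
    have hts : IsConj s t :=
      s_of_conj_z S F hθ hz hC (ht ▸ hzR.trans (isConj_iff.2 ⟨_, hde⟩))
    have hcU : Commute (R * (w : G) * e) U := by
      refine (hRU.mul_left hwU).mul_left ?_
      rcases he with rfl | rfl
      exacts [Commute.one_left _, Commute.refl _]
    have hcR : Commute (R * (w : G) * e) R := by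
      refine ((Commute.refl R).mul_left hwR).mul_left ?_
      rcases he with rfl | rfl
      exacts [Commute.one_left _, hRU.symm]
    have htu : t * u = u * t := hθ (by rw [map_mul, map_mul, ht]; exact hcU.eq)
    have htr : t * r = r * t := hθ (by rw [map_mul, map_mul, ht]; exact hcR.eq)
    have htne : t ≠ r := by
      intro h
      rw [h] at ht
      have hwe : (w : G) * e = 1 := by
        rw [show θ r = R from rfl] at ht
        rw [mul_assoc] at ht
        exact mul_eq_left.1 ht.symm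
      refine Invol.ne_one hc ((QuotientGroup.eq_one_iff _).2 ?_)
      rcases he with rfl | rfl
      · exact Or.inl (by simpa using hwe)
      · exact Or.inr ((mul_eq_one_iff_eq_inv.1 hwe).trans (inv_eq_of_mul_eq_one_right hUU))
    have hRR : R * R = 1 := by rw [hR, ← map_mul, hrr, map_one]
    have hwez : IsConj z ((w : G) * e) := by
      have := conj_z_of_s S F hθ hz hC (hprod t htu htr htne hts)
      rwa [map_mul, ht, ← hR, ← mul_assoc, ← mul_assoc, hRR, one_mul] at this
    refine hgK (inv_mem_iff.1 (mem_of_move S F hθ hz hC hwez (mul_mem hwK heK) ?_))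
    rw [inv_inv, show g⁻¹ * ((w : G) * e) * g = g⁻¹ * w * g * (g⁻¹ * e * g) by group]
    refine mul_mem hgwg ?_
    rcases he with rfl | rfl
    · rw [mul_one, inv_mul_cancel]; exact one_mem _
    · rw [hconjU]; exact hUK
  · rw [← map_inv, ← map_mul, ← map_mul] at hd
    obtain ⟨e, he, hde⟩ : ∃ e : G, (e = 1 ∨ e = U) ∧ (d' : G) * W' * (d' : G)⁻¹ = R * w * e := by
      rcases hcoset _ _ hd.symm with h | h
      · exact ⟨1, Or.inl rfl, by rw [mul_one]; exact h⟩
      · exact ⟨U, Or.inr rfl, h⟩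
    have heK : e ∈ θ.range := by rcases he with rfl | rfl; exacts [one_mem _, hUK]
    have hd'U : Commute (d' : G) U := Subgroup.mem_centralizer_singleton_iff.1 d'.2
    have hdg : (d' : G) * g * W * ((d' : G) * g)⁻¹ = R * w * e := by
      rw [← hde, hW']; group
    obtain ⟨-, hcase⟩ := mem_of_move_v S F hθ hz hC (g := (d' : G) * g) (hd'U.mul_left hgU).eq
      (by rw [← hW, hdg]; exact mul_mem (mul_mem ⟨r, rfl⟩ hwK) heK)
    rw [← hW, hdg, map_mul, ← hU, ← hW] at hcase
    have hRR : R * R = 1 := by rw [hR, ← map_mul, hrr, map_one]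
    have hwform : ∀ x : G, R * w * e = x → R * x * e = w := fun x hx => by
      rw [← hx, show R * (R * (w : G) * e) * e = R * R * w * (e * e) by group, hRR, one_mul]
      rcases he with rfl | rfl
      · simp
      · rw [hUU, mul_one]
    rw [map_mul, ← hR, ← hW]
    have hcancel : ∀ f : G, (f = 1 ∨ f = U) → R * W * f = w → g⁻¹ * (R * W) * g ∈ θ.range := by
      intro f hf hfe
      have h2 : R * W = w * f := by
        rw [← hfe, mul_assoc (R * W)]
        rcases hf with rfl | rfl
        · simp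
        · rw [hUU, mul_one]
      rw [h2, show g⁻¹ * ((w : G) * f) * g = g⁻¹ * w * g * (g⁻¹ * f * g) by group]
      refine mul_mem hgwg ?_
      rcases hf with rfl | rfl
      · rw [mul_one, inv_mul_cancel]; exact one_mem _
      · rw [hconjU]; exact hUK
    rcases hcase with h | h
    · exact hcancel e he (hwform _ h)
    · refine hcancel (U * e) ?_ ?_
      · rcases he with rfl | rfl
        · exact Or.inr (mul_one _)
        · exact Or.inl hUU
      · rw [← hwform _ h, ← hWU.eq]; group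

/-- The centraliser of the image of `u` lies in the image. -/
theorem centralizer_u_le {g : G} (hgu : g * θ u = θ u * g) : g ∈ θ.range := by
  by_contra hgK
  have h1 := pull_back S F hθ hz hC (IsConj.refl s) F.su F.prod hgu hgK
  have h2 := pull_back S F hθ hz hC F.s'_conj F.s'_u F.prod' hgu hgK
  have h3 := mul_mem h1 h2
  have e : s * v * (s' * v) = s * s' := by
    rw [show s * v * (s' * v) = s * (v * s') * v by group, ← F.s'_v,
      show s * (s' * v) * v = s * s' * (v * v) by group, Invol.mul_self_eq_one F.ov, mul_one]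
  rw [show g⁻¹ * θ (s * v) * g * (g⁻¹ * θ (s' * v) * g) = g⁻¹ * (θ (s * v) * θ (s' * v)) * g by group,
    ← map_mul, e] at h3
  exact hgK (inv_mem_iff.1 (mem_of_move S F hθ hz hC
    (conj_z_of_s S F hθ hz hC (F.prod s' F.s'_u F.s'_s F.s'_ne F.s'_conj)) ⟨_, rfl⟩
    (by rwa [inv_inv])))

/-- The centraliser of each involution of the image lies in the image. -/
theorem centralizer_invol_le {i g : G} (hi : orderOf i = 2) (hiK : i ∈ θ.range)
    (hg : g * i = i * g) : g ∈ θ.range := by
  obtain ⟨a, rfl⟩ := hiK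
  rcases F.classes a (by rw [← orderOf_injective θ hθ a]; exact hi) with h | h
  · obtain ⟨p, hp⟩ := isConj_iff.1 h
    have hm : (θ p)⁻¹ * g * θ p ∈ θ.range := by
      refine centralizer_u_le S F hθ hz hC ?_
      rw [← hp, map_mul, map_mul, map_inv] at hg
      calc (θ p)⁻¹ * g * θ p * θ u = (θ p)⁻¹ * (g * (θ p * θ u * (θ p)⁻¹)) * θ p := by group
        _ = (θ p)⁻¹ * (θ p * θ u * (θ p)⁻¹ * g) * θ p := by rw [hg]
        _ = θ u * ((θ p)⁻¹ * g * θ p) := by group
    have := mul_mem (mul_mem (⟨p, rfl⟩ : θ p ∈ θ.range) hm) (inv_mem (⟨p, rfl⟩ : θ p ∈ θ.range))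
    simpa [mul_assoc] using this
  · exact mem_of_move S F hθ hz hC (conj_z_of_s S F hθ hz hC h) ⟨a, rfl⟩
      (by rw [hg, mul_inv_cancel_right]; exact ⟨a, rfl⟩)

end Final

/-- The group is the image of the presented group. -/
theorem range_eq_top {z : G} (S : SuzType.Suz z) {u v s s' : Spor.Suz} (F : InvolFacts u v s s')
    (θ : Spor.Suz →* G) (hθ : Function.Injective θ) (zM : Spor.Suz) (hz : θ zM = z)
    (hC : Subgroup.centralizer ({z} : Set G) ≤ θ.range) : θ.range = ⊤ := by
  refine eq_top_iff.2 fun g _ => ?_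
  have hzo : orderOf z = 2 := S.sett.ord
  have hUo : orderOf (θ u) = 2 := by rw [orderOf_injective θ hθ, F.ou]
  have hnc : ¬ IsConj z (g * θ u * g⁻¹) := fun h => not_conj_zu S F hθ hz hC
    (h.trans (isConj_iff.2 ⟨g, rfl⟩ : IsConj (θ u) _).symm)
  obtain ⟨-, w, hw, hwz, hwg, -⟩ := Invol.exists_central_of_not_isConj hzo
    ((Invol.orderOf_conj g (θ u)).trans hUo) hnc
  have hwK : w ∈ θ.range := hC (Subgroup.mem_centralizer_singleton_iff.2 hwz.eq)
  obtain ⟨b, hb⟩ := centralizer_invol_le S F hθ hz hC hw hwK hwg.symm.eq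
  have hbo : orderOf b = 2 := by
    rw [← orderOf_injective θ hθ b, hb, Invol.orderOf_conj, hUo]
  have hbu : IsConj u b := (F.classes b hbo).resolve_right fun h =>
    hnc (hb ▸ conj_z_of_s S F hθ hz hC h)
  obtain ⟨q, hq⟩ := isConj_iff.1 hbu
  rw [← hq, map_mul, map_mul, map_inv] at hb
  have hm : (θ q)⁻¹ * g ∈ θ.range := by
    refine centralizer_u_le S F hθ hz hC ?_
    calc (θ q)⁻¹ * g * θ u = (θ q)⁻¹ * (g * θ u * g⁻¹) * g := by group
      _ = (θ q)⁻¹ * (θ q * θ u * (θ q)⁻¹) * g := by rw [hb]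
      _ = θ u * ((θ q)⁻¹ * g) := by group
  have := mul_mem (⟨q, rfl⟩ : θ q ∈ θ.range) hm
  rwa [mul_inv_cancel_left] at this

end Cfsg.Agent.SuzRecog
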