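import Cfsg.Agent.SuzRecog.CentIso
import Cfsg.Agent.CoSection.SuzShape
import Cfsg.Agent.CoSection.SuzQuot

/-!
The centraliser of the involution is that of a 2-central involution of the presented group.
-/

set_option autoImplicit false

open Cfsg Cfsg.Agent.LargeExtra Cfsg.Agent.SuzType

namespace Cfsg.Agent.SuzRecog

/-- The setting in the section of the Conway group. -/
theorem exists_model_section :
    ∃ zM : CoSection.Suz3.QS, Nonempty (SuzType.Suz zM) := by
  have := Leech.finite_co0
  obtain ⟨z, hz, Q, hQn, hF, hQ, hc, ⟨e⟩, hn⟩ := CoSection.Suz3.large_extraspecial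
  exact ⟨z, exists_suz z hz Q hF hQ hc e hn⟩

/-- The centraliser of the involution is isomorphic to one in the presented group. -/
theorem exists_centIso {G : Type*} [Group G] [Finite G] {z : G} (S : SuzType.Suz z) :
    ∃ zM : Spor.Suz, ∃ e : ↥(Subgroup.centralizer ({zM} : Set Spor.Suz)) ≃*
        ↥(Subgroup.centralizer ({z} : Set G)),
      orderOf zM = 2 ∧
      (e ⟨zM, Subgroup.mem_centralizer_singleton_iff.2 rfl⟩ : G) = z := by
  have := Leech.finite_co0
  obtain ⟨zM, ⟨SM⟩⟩ := exists_model_section
  obtain ⟨φ⟩ := CoSection.Suz3.exists_equiv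
  obtain ⟨e, he, -⟩ := centIso SM S
  set y := φ.symm zM
  have hy : φ y = zM := φ.apply_symm_apply zM
  have hmap : (Subgroup.centralizer ({y} : Set Spor.Suz)).map φ.toMonoidHom =
      Subgroup.centralizer ({zM} : Set CoSection.Suz3.QS) := by
    ext a
    rw [Subgroup.mem_centralizer_singleton_iff]
    constructor
    · rintro ⟨b, hb, rfl⟩
      rw [← hy, MulEquiv.coe_toMonoidHom, ← map_mul, ← map_mul]
      exact congrArg φ (Subgroup.mem_centralizer_singleton_iff.1 hb)
    · intro ha
      refine ⟨φ.symm a, Subgroup.mem_centralizer_singleton_iff.2 ?_, φ.apply_symm_apply a⟩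
      show φ.symm a * φ.symm zM = φ.symm zM * φ.symm a
      rw [← map_mul, ← map_mul, ha]
  let e₁ : ↥(Subgroup.centralizer ({y} : Set Spor.Suz)) ≃*
      ↥(Subgroup.centralizer ({zM} : Set CoSection.Suz3.QS)) :=
    ((Subgroup.centralizer ({y} : Set Spor.Suz)).equivMapOfInjective φ.toMonoidHom φ.injective).trans
      (MulEquiv.subgroupCongr hmap)
  refine ⟨y, e₁.trans e, ?_, ?_⟩
  · rw [show orderOf y = orderOf zM from φ.symm.orderOf_eq zM]
    exact SM.sett.ord
  · exact he _ hy

end Cfsg.Agent.SuzRecog
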