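import Cfsg.Prelude.Def_Spor_Suz
import Mathlib.GroupTheory.OrderOfElement
import Mathlib.GroupTheory.Perm.Basic

/-!
What is needed about the second class of involutions of the presented group.

`u` is an involution of the second class, `V = {1, u, v, u * v}`, `s` is an involution of the class of
the central involutions in the centraliser of `V`, and `s'` a commuting conjugate of it there.
-/

set_option autoImplicit false

namespace Cfsg.Agent.SuzRecog

open Cfsg

/-- The facts about the centraliser of an involution of the second class. -/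
structure InvolFacts (u v s s' : Spor.Suz) : Prop where
  ou : orderOf u = 2
  ov : orderOf v = 2
  os : orderOf s = 2
  v_ne : v ≠ u
  uv : u * v = v * u
  su : s * u = u * s
  sv : s * v = v * s
  classes : ∀ i : Spor.Suz, orderOf i = 2 → IsConj u i ∨ IsConj s i
  not_conj : ¬ IsConj u s
  conj_v : IsConj u v
  conj_uv : IsConj u (u * v)
  conj_su : IsConj u (s * u)
  four_norm : ∀ h : Spor.Suz, h * u = u * h → h * v * h⁻¹ = v ∨ h * v * h⁻¹ = u * v
  outer : ∃ o : Spor.Suz, o * u = u * o ∧ o * v * o⁻¹ = u * v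
  card_dvd : Nat.card (Subgroup.centralizer ({u} : Set Spor.Suz)) ∣ 161280
  card_four : Nat.card (Subgroup.centralizer ({u, v} : Set Spor.Suz)) ∣ 80640
  exists_comm : ∀ x : Spor.Suz, x * u = u * x → x * x = 1 →
    ∃ t : Spor.Suz, IsConj s t ∧ t * u = u * t ∧ t * x = x * t
  coset : ∀ x : Spor.Suz, x * u = u * x → x * v = v * x →
    (x * x = 1 ∨ x * x = u ∨ x * x = v ∨ x * x = u * v) →
    ¬ (x = 1 ∨ x = u ∨ x = v ∨ x = u * v) →
    ∃ e : Spor.Suz, (e = 1 ∨ e = u ∨ e = v ∨ e = u * v) ∧ IsConj s (x * e)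
  many : ∃ f : Fin 315 → Spor.Suz,
    (∀ i, f i * u = u * f i ∧ f i * v = v * f i ∧ IsConj s (f i)) ∧
    ∀ i j, ((f i)⁻¹ * f j = 1 ∨ (f i)⁻¹ * f j = u ∨ (f i)⁻¹ * f j = v ∨ (f i)⁻¹ * f j = u * v) → i = j
  prod : ∀ t : Spor.Suz, t * u = u * t → t * s = s * t → t ≠ s → IsConj s t → IsConj s (s * t)
  prod' : ∀ t : Spor.Suz, t * u = u * t → t * s' = s' * t → t ≠ s' → IsConj s t → IsConj s (s' * t)
  s'_conj : IsConj s s'
  s'_ne : s' ≠ s
  s'_u : s' * u = u * s'
  s'_v : s' * v = v * s'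
  s'_s : s' * s = s * s'
  no35 : ∀ x y : Spor.Suz, orderOf x = 5 → orderOf y = 7 → x * y ≠ y * x

end Cfsg.Agent.SuzRecog
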