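import Cfsg.Agent.SuzType.Build
import Cfsg.Agent.SuzInvol.Facts
import Cfsg.Agent.SuzRecog.Final
import Cfsg.Agent.CoOneThree.Hyp

/-!
The identification of a group with the hypothesis from the existence of the map out of the model.
-/

set_option autoImplicit false

open Cfsg Cfsg.Agent.LargeExtra

namespace Cfsg.Agent.SuzRecog

universe u

/-- Every setting receives the model with the centraliser. -/
def HasTheta (G : Type u) [Group G] : Prop :=
  ∀ [Finite G], ∀ z : G, ∀ _ : SuzType.Suz z, ∃ (zM : Spor.Suz) (θ : Spor.Suz →* G),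
    Function.Injective θ ∧ θ zM = z ∧ Subgroup.centralizer ({z} : Set G) ≤ θ.range

/-- The uniqueness from the maps. -/
theorem uniq_of_theta {G : Type u} [Group G] [Finite G] (hθ : HasTheta G) : CoOneThree.Uniq G := by
  intro z hz Q _ hF hQ hcard e hnwc
  obtain ⟨S⟩ := SuzType.exists_suz z hz Q hF hQ hcard e hnwc
  obtain ⟨zM, θ, hinj, hzM, hC⟩ := hθ z S
  obtain ⟨u, v, s, s', F⟩ := SuzInvol.exists_involFacts
  have htop := range_eq_top S F θ hinj zM hzM hC
  exact ⟨(MulEquiv.ofBijective θ ⟨hinj, MonoidHom.range_eq_top.mp htop⟩).symm⟩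

end Cfsg.Agent.SuzRecog
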