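import Cfsg.Agent.SuzRecog.ThetaRel
import Cfsg.Agent.SuzRecog.Enum.Cert

/-!
The map out of the model into every group with the setting.
-/

set_option autoImplicit false
set_option maxRecDepth 100000

namespace Cfsg.Agent.SuzRecog

open Cfsg Cfsg.Agent.Compute Cfsg.Agent.StemCert
open MS

/-- The base points. -/
noncomputable def bs : List ℕ := [8, 0, 2, 4, 14]

theorem tab_base : Enum.tab.base = DCoset.pk16 Enum.tab.k fun l => bs.getD l 0 := by
  decide +kernel

theorem base_lt : allB (fun p => Nat.blt p 1782) bs = true := by decide +kernel

theorem act_ok : allBelow Enum.tab.nL (actB Enum.tab id) = true := by decide +kernel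

theorem chain_prod : ((List.range Enum.tab.k).map (Enum.cover.chain 0).size).prod = 3317760 := by
  decide +kernel

theorem rules_ok : rulesB Enum.tab Enum.rules = true := by decide +kernel

theorem rels_ok : allBelow Enum.rules.nRel (sameRow MS.RelData.rows Enum.rules) = true := by
  decide +kernel

universe u

/-- Every group with the setting receives the model with the centraliser. -/
theorem hasTheta (G : Type u) [Group G] : HasTheta G :=
  haveI := SuzOut.finite_suz
  hasTheta_of bs Enum.tab_act_lt tab_base base_lt act_ok (by decide +kernel) chain_prod
    Enum.steps_ok Enum.node_src Enum.valid Enum.idx_sum rules_ok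
    (transferred_of_rows rels_ok) G

end Cfsg.Agent.SuzRecog
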