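import Cfsg.Agent.SuzRecog.Side

/-!
Linear functionals on the part of `oc u` centralising `z` are given by conjugation; its centre.
-/

set_option autoImplicit false

open Cfsg Cfsg.Agent.ThreeTrans.OrthCohom Cfsg.Agent.Classical.Quad QuadraticMap Cfsg.Agent.LargeExtra
  Cfsg.Agent.SuzType Cfsg.Agent.SuzType.Suz

namespace Cfsg.Agent.SuzRecog

variable {G : Type*} [Group G] [Finite G] {z u : G} {S : Suz z}

/-- Coordinates at `u`: a conjugation of `z` to `u` and the image of `z` under its inverse. -/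
theorem exists_pull (F : S.Fr u) : ∃ g p : G, g * z * g⁻¹ = u ∧ g * p * g⁻¹ = z ∧ p ∈ oc z ∧
    S.pr p ≠ 0 ∧
    (∀ a ∈ oc z, Bp (S.pr a) (S.pr p) = 0 → g * a * g⁻¹ ∈ oc u ∧ g * a * g⁻¹ * z = z * (g * a * g⁻¹)) ∧
    ∀ h ∈ oc u, h * z = z * h → g⁻¹ * h * g ∈ oc z ∧ Bp (S.pr (g⁻¹ * h * g)) (S.pr p) = 0 := by
  obtain ⟨g, hg, hm, h0, htr⟩ := transport F
  refine ⟨g, g⁻¹ * z * g, hg, by group, hm, h0, fun a ha hB => htr a ha ((S.commute_iff ha hm).2 hB),
    fun h hh hhz => ?_⟩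
  have h1 := conj_mem_oc (g := g⁻¹) hh
  rw [show g⁻¹ * u * g⁻¹⁻¹ = z by rw [← hg]; group, inv_inv] at h1
  refine ⟨h1, (S.commute_iff h1 hm).1 ?_⟩
  calc g⁻¹ * h * g * (g⁻¹ * z * g) = g⁻¹ * (h * z) * g := by group
    _ = g⁻¹ * z * g * (g⁻¹ * h * g) := by rw [hhz]; group

theorem Bp_comm (x y : V) : Bp x y = Bp y x := polar_comm _ _ _

theorem Bp_smul_left (a : ZMod 2) (x y : V) : Bp (a • x) y = a * Bp x y := by
  rw [Bp, polar_smul_left, smul_eq_mul]

theorem exists_dual {p : V} (h : p ≠ 0) : ∃ s, Bp s p = 1 := by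
  by_contra hcon
  push Not at hcon
  exact h (eq_zero_of_polar nondegM2 fun y =>
    (polar_comm _ _ _).trans ((zmod_cases _).resolve_right (hcon y)))

/-- The centre of the part of `oc u` centralising `z`. -/
theorem side_center (F : S.Fr u) {c : G} (hc : c ∈ oc u) (hcz : c * z = z * c)
    (h : ∀ k ∈ oc u, k * z = z * k → c * k = k * c) : c = 1 ∨ c = u ∨ c = z ∨ c = z * u := by
  obtain ⟨g, p, hg, hgp, hp, hp0, hpush, hpull⟩ := exists_pull F
  obtain ⟨hc', hcP⟩ := hpull c hc hcz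
  set c' := g⁻¹ * c * g with hc'd
  obtain ⟨s, hs⟩ := exists_dual hp0
  have hperp : ∀ v, Bp v (S.pr p) = 0 → Bp (S.pr c') v = 0 := by
    intro v hv
    obtain ⟨a, ha, rfl⟩ := S.pr_surj v
    obtain ⟨h1, h2⟩ := hpush a ha hv
    have e := h _ h1 h2
    refine (S.commute_iff hc' ha).1 ?_
    calc g⁻¹ * c * g * a = g⁻¹ * (c * (g * a * g⁻¹)) * g := by group
      _ = a * (g⁻¹ * c * g) := by rw [e]; group
  have hz0 : S.pr c' + Bp (S.pr c') s • S.pr p = 0 := by
    refine eq_zero_of_polar nondegM2 fun y => ?_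
    show Bp (S.pr c' + Bp (S.pr c') s • S.pr p) y = 0
    have e1 := hperp (y + Bp y (S.pr p) • s) (by
      rw [Bp_add_left, Bp_smul_left, hs, mul_one, zmod_add_self])
    have e2 : Bp (S.pr c') (y + Bp y (S.pr p) • s) = Bp (S.pr c') y + Bp y (S.pr p) * Bp (S.pr c') s := by
      rw [Bp_comm, Bp_add_left, Bp_smul_left, Bp_comm y (S.pr c'), Bp_comm s]
    rw [Bp_add_left, Bp_smul_left, Bp_comm (S.pr p) y, mul_comm, ← e2, e1]
  rcases zmod_cases (Bp (S.pr c') s) with e | e <;> rw [e] at hz0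
  · rw [zero_smul, add_zero] at hz0
    rcases S.pr_ker c' hc' hz0 with e' | e'
    · exact Or.inl (by calc c = g * c' * g⁻¹ := by rw [hc'd]; group
                            _ = 1 := by rw [e']; group)
    · exact Or.inr (Or.inl (by calc c = g * c' * g⁻¹ := by rw [hc'd]; group
                                    _ = u := by rw [e', hg]))
  · rw [one_smul] at hz0
    rcases S.pr_eq hp hc' (v_eq_of_add hz0).symm with e' | e'
    · exact Or.inr (Or.inr (Or.inl (by calc c = g * c' * g⁻¹ := by rw [hc'd]; group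
                                            _ = z := by rw [e', hgp])))
    · exact Or.inr (Or.inr (Or.inr (by calc c = g * c' * g⁻¹ := by rw [hc'd]; group
                                            _ = g * p * g⁻¹ * (g * z * g⁻¹) := by rw [e']; group
                                            _ = z * u := by rw [hgp, hg])))

/-- An additive function trivial at `u` and at `z` is a commutator with some element. -/
theorem exists_adjust (F : S.Fr u) (μ : G → ZMod 2)
    (hadd : ∀ a b, a ∈ oc u ∧ a * z = z * a → b ∈ oc u ∧ b * z = z * b → μ (a * b) = μ a + μ b)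
    (hu : μ u = 0) (hzμ : μ z = 0) :
    ∃ r, r ∈ oc u ∧ r * z = z * r ∧ ∀ h ∈ oc u, h * z = z * h → r * h * r⁻¹ = h * zp u (μ h) := by
  classical
  obtain ⟨g, p, hg, hgp, hp, hp0, hpush, hpull⟩ := exists_pull F
  obtain ⟨s, hs⟩ := exists_dual hp0
  choose lift hlift hpr using S.pr_surj
  let π : V → V := fun v => v + Bp v (S.pr p) • s
  have hπ : ∀ v, Bp (π v) (S.pr p) = 0 := fun v => by
    simp only [π]
    rw [Bp_add_left, Bp_smul_left, hs, mul_one, zmod_add_self]
  let L : V → ZMod 2 := fun v => μ (g * lift (π v) * g⁻¹)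
  have hcoset : ∀ {a b}, a ∈ oc z → b ∈ oc z → S.pr a = S.pr b → Bp (S.pr a) (S.pr p) = 0 →
      μ (g * b * g⁻¹) = μ (g * a * g⁻¹) := by
    intro a b ha hb e hB
    rcases S.pr_eq ha hb e with rfl | rfl
    · rfl
    · obtain ⟨h1, h2⟩ := hpush a ha hB
      rw [show g * (a * z) * g⁻¹ = g * a * g⁻¹ * (g * z * g⁻¹) by group, hg,
        hadd _ _ ⟨h1, h2⟩ ⟨mem_oc_self (wset F).ord, S.comm F.mem⟩, hu, add_zero]
  have hLadd : ∀ v v', L (v + v') = L v + L v' := by
    intro v v'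
    have hp1 : Bp (S.pr (lift (π v))) (S.pr p) = 0 := by rw [hpr]; exact hπ v
    have hp2 : Bp (S.pr (lift (π v'))) (S.pr p) = 0 := by rw [hpr]; exact hπ v'
    obtain ⟨a1, a2⟩ := hpush _ (hlift _) hp1
    obtain ⟨b1, b2⟩ := hpush _ (hlift _) hp2
    show μ (g * lift (π (v + v')) * g⁻¹) = μ (g * lift (π v) * g⁻¹) + μ (g * lift (π v') * g⁻¹)
    rw [← hadd _ _ ⟨a1, a2⟩ ⟨b1, b2⟩,
      show g * lift (π v) * g⁻¹ * (g * lift (π v') * g⁻¹) = g * (lift (π v) * lift (π v')) * g⁻¹ by group]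
    refine (hcoset (mul_mem (hlift _) (hlift _)) (hlift _) ?_ ?_)
    · rw [S.pr_mul _ (hlift _) _ (hlift _), hpr, hpr, hpr]
      simp only [π]
      rw [show Bp (v + v') (S.pr p) = Bp v (S.pr p) + Bp v' (S.pr p) from Bp_add_left _ _ _, add_smul]
      abel
    · rw [S.pr_mul _ (hlift _) _ (hlift _), Bp_add_left, hp1, hp2, add_zero]
  have hL0 : L 0 = 0 := by
    have e := hLadd 0 0
    rw [add_zero] at e
    exact add_eq_left.1 e.symm
  let b : ℕ → Bool := fun k => decide (L (dc k) = 1)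
  obtain ⟨r₀, w1, w2, w4, w8, w16, w32⟩ := six_functional (b 1) (b 2) (b 4) (b 8) (b 16) (b 32)
  have hrep : ∀ a ∈ oc z, L (S.pr a) = Bp (dc r₀.val) (S.pr a) := by
    intro a ha
    refine oc_induct S (P := fun a => L (S.pr a) = Bp (dc r₀.val) (S.pr a)) ?_ ?_ ?_ ?_ ha
    · rw [S.pr_one, hL0]; exact (polar_zero_right _ _).symm
    · rw [S.pr_z, hL0]; exact (polar_zero_right _ _).symm
    · intro a ha c hc ea ec
      rw [S.pr_mul a ha c hc, hLadd, ea, ec]
      exact (polar_add_right _ _ _ _).symm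
    · intro k hk
      refine ⟨lift (dc k), hlift _, hpr _, ?_⟩
      have hk64 : k < 64 := by revert k; decide
      have hbz : L (dc k) = bz (b k) := by
        rcases zmod_cases (L (dc k)) with e | e <;> simp [b, e, bz]
      rw [hpr, hbz, Bp_dc r₀.isLt hk64]
      simp only [List.mem_cons, List.not_mem_nil, or_false] at hk
      rcases hk with rfl | rfl | rfl | rfl | rfl | rfl
      exacts [by rw [w1], by rw [w2], by rw [w4], by rw [w8], by rw [w16], by rw [w32]]
  have hμ : ∀ h ∈ oc u, h * z = z * h → μ h = L (S.pr (g⁻¹ * h * g)) := by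
    intro h hh hhz
    obtain ⟨h1, h2⟩ := hpull h hh hhz
    show μ h = μ (g * lift (π (S.pr (g⁻¹ * h * g))) * g⁻¹)
    rw [hcoset h1 (hlift _) (by rw [hpr]; simp only [π]; rw [h2, zero_smul, add_zero]) h2,
      show g * (g⁻¹ * h * g) * g⁻¹ = h by group]
  have hr₀ : Bp (dc r₀.val) (S.pr p) = 0 := by
    rw [← hrep p hp, show p = g⁻¹ * z * g by rw [← hgp]; group,
      ← hμ z (zmem_oc F) rfl, hzμ]
  obtain ⟨q1, q2⟩ := hpush (lift (dc r₀.val)) (hlift _) (by rw [hpr]; exact hr₀)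
  refine ⟨_, q1, q2, fun h hh hhz => ?_⟩
  obtain ⟨h1, h2⟩ := hpull h hh hhz
  have e := S.commutator_eq (hlift (dc r₀.val)) h1
  rw [hpr, ← hrep _ h1, ← hμ h hh hhz] at e
  calc g * lift (dc r₀.val) * g⁻¹ * h * (g * lift (dc r₀.val) * g⁻¹)⁻¹
      = g * (lift (dc r₀.val) * (g⁻¹ * h * g) * (lift (dc r₀.val))⁻¹ * (g⁻¹ * h * g)⁻¹) *
          (g⁻¹ * h * g) * g⁻¹ := by group
    _ = g * (zp z (μ h) * (g⁻¹ * h * g)) * g⁻¹ := by rw [e]; group
    _ = h * (g * zp z (μ h) * g⁻¹) := by rw [← S.comm_zp (S.comm h1)]; group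
    _ = h * zp u (μ h) := by
      rcases zmod_cases (μ h) with e' | e' <;> rw [e']
      · rw [zp_zero, zp_zero]; group
      · rw [zp_one, zp_one, hg]

end Cfsg.Agent.SuzRecog
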