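import Cfsg.Agent.SuzRecog.Cent
import Cfsg.Agent.SuzType.Invol
import Cfsg.Agent.SuzRecog.InvolFacts
import Cfsg.Agent.Core.PCore
import Cfsg.Agent.Invol.Count

/-!
Transport of settings along isomorphisms, and settings at a given involution with a given frame.
-/

set_option autoImplicit false

open Cfsg Cfsg.Agent.ThreeTrans.OrthCohom Cfsg.Agent.Classical.Quad QuadraticMap Cfsg.Agent.LargeExtra
  Cfsg.Agent.SuzType Cfsg.Agent.SuzType.Suz

namespace Cfsg.Agent.SuzRecog

variable {G : Type*} [Group G] [Finite G] {H : Type*} [Group H] [Finite H]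

omit [Finite G] [Finite H] in
theorem map_centralizer_singleton (φ : G ≃* H) (z : G) :
    (Subgroup.centralizer ({z} : Set G)).map φ.toMonoidHom = Subgroup.centralizer ({φ z} : Set H) := by
  ext a
  rw [Subgroup.mem_centralizer_singleton_iff]
  constructor
  · rintro ⟨b, hb, rfl⟩
    rw [MulEquiv.coe_toMonoidHom, ← map_mul, ← map_mul]
    exact congrArg φ (Subgroup.mem_centralizer_singleton_iff.1 hb)
  · intro ha
    refine ⟨φ.symm a, Subgroup.mem_centralizer_singleton_iff.2 (φ.injective ?_), φ.apply_symm_apply a⟩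
    rw [map_mul, map_mul, φ.apply_symm_apply, ha]

omit [Finite G] [Finite H] in
theorem oc_map_equiv (φ : G ≃* H) (z : G) : (oc z).map φ.toMonoidHom = oc (φ z) := by
  refine le_antisymm ?_ ?_
  · rintro _ ⟨c, ⟨⟨d, hd⟩, hd', rfl⟩, rfl⟩
    let e : ↥(Subgroup.centralizer ({z} : Set G)) ≃* ↥(Subgroup.centralizer ({φ z} : Set H)) :=
      (φ.subgroupMap _).trans (MulEquiv.subgroupCongr (map_centralizer_singleton φ z))
    refine ⟨e ⟨d, hd⟩, ?_, rfl⟩
    rw [← Core.map_pCore (p := 2) e]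
    exact ⟨_, hd', rfl⟩
  · rintro c ⟨⟨d, hd⟩, hd', rfl⟩
    let e : ↥(Subgroup.centralizer ({z} : Set G)) ≃* ↥(Subgroup.centralizer ({φ z} : Set H)) :=
      (φ.subgroupMap _).trans (MulEquiv.subgroupCongr (map_centralizer_singleton φ z))
    rw [← Core.map_pCore (p := 2) e] at hd'
    obtain ⟨b, hb, hbe⟩ := hd'
    exact ⟨b, ⟨b, hb, rfl⟩, congrArg Subtype.val hbe⟩

theorem mem_oc_map (φ : G ≃* H) {z a : G} : φ a ∈ oc (φ z) ↔ a ∈ oc z := by
  rw [← oc_map_equiv]
  exact ⟨fun ⟨b, hb, he⟩ => φ.injective he ▸ hb, fun h => ⟨a, h, rfl⟩⟩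

/-- A setting is carried along an isomorphism. -/
noncomputable def Suz.mapEquiv {z : G} (S : SuzType.Suz z) (φ : G ≃* H) : SuzType.Suz (φ z) where
  sett :=
    { ord := (φ.orderOf_eq z).trans S.sett.ord
      es := by
        rw [← oc_map_equiv]
        exact extraspecial_congr ((oc z).equivMapOfInjective _ φ.injective) S.sett.es
      cent := fun c hc => by
        obtain ⟨b, rfl⟩ := φ.surjective c
        refine (mem_oc_map φ).2 (S.sett.cent (Subgroup.mem_centralizer_iff.2 fun q hq => φ.injective ?_))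
        rw [map_mul, map_mul]
        exact Subgroup.mem_centralizer_iff.1 hc _ ((mem_oc_map φ).2 hq) }
  card := by
    rw [← oc_map_equiv, ← Nat.card_congr ((oc z).equivMapOfInjective _ φ.injective).toEquiv, S.card]
  pr a := S.pr (φ.symm a)
  pr_mul a ha b hb := by
    obtain ⟨a, rfl⟩ := φ.surjective a
    obtain ⟨b, rfl⟩ := φ.surjective b
    rw [map_mul, φ.symm_apply_apply, φ.symm_apply_apply]
    exact S.pr_mul a ((mem_oc_map φ).1 ha) b ((mem_oc_map φ).1 hb)
  pr_ker a ha h := by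
    obtain ⟨a, rfl⟩ := φ.surjective a
    rw [φ.symm_apply_apply] at h
    rcases S.pr_ker a ((mem_oc_map φ).1 ha) h with e | e
    · exact Or.inl (by rw [e, map_one])
    · exact Or.inr (by rw [e])
  pr_z := by rw [φ.symm_apply_apply]; exact S.pr_z
  pr_surj v := by
    obtain ⟨a, ha, hv⟩ := S.pr_surj v
    exact ⟨φ a, (mem_oc_map φ).2 ha, by rw [φ.symm_apply_apply, hv]⟩
  pr_sq a ha := by
    obtain ⟨a, rfl⟩ := φ.surjective a
    rw [φ.symm_apply_apply, ← map_mul, S.pr_sq a ((mem_oc_map φ).1 ha)]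
    simp only [zp]
    split <;> simp
  act a := S.act (φ.symm a)
  act_spec c hc a ha := by
    obtain ⟨a, rfl⟩ := φ.surjective a
    obtain ⟨c, rfl⟩ := φ.surjective c
    rw [← map_mul, ← map_mul] at hc
    simp only [map_mul, map_inv, φ.symm_apply_apply]
    exact S.act_spec c (φ.injective hc) a ((mem_oc_map φ).1 ha)
  act_even c hc := by
    obtain ⟨c, rfl⟩ := φ.surjective c
    rw [← map_mul, ← map_mul] at hc
    rw [φ.symm_apply_apply]
    exact S.act_even c (φ.injective hc)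
  act_surj g hg := by
    obtain ⟨c, hc, he⟩ := S.act_surj g hg
    exact ⟨φ c, by rw [← map_mul, ← map_mul, hc], by rw [φ.symm_apply_apply, he]⟩
  act_ker c hc h := by
    obtain ⟨c, rfl⟩ := φ.surjective c
    rw [← map_mul, ← map_mul] at hc
    rw [φ.symm_apply_apply] at h
    exact (mem_oc_map φ).2 (S.act_ker c (φ.injective hc) h)
  nwc := by
    obtain ⟨g, hg, hne⟩ := S.nwc
    refine ⟨φ g, ?_, ?_⟩
    · rw [← map_inv, ← map_mul, ← map_mul]; exact (mem_oc_map φ).2 hg
    · rw [← map_inv, ← map_mul, ← map_mul]; exact fun e => hne (φ.injective e)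

/-- A frame is carried along an isomorphism. -/
theorem Suz.fr_mapEquiv {z w : G} (S : SuzType.Suz z) (φ : G ≃* H) (F : S.Fr w) :
    (Suz.mapEquiv S φ).Fr (φ w) := by
  refine ⟨(mem_oc_map φ).2 F.mem, ?_, ?_⟩
  · obtain ⟨g, hg⟩ := F.conj
    exact ⟨φ g, by rw [← map_inv, ← map_mul, ← map_mul, hg]⟩
  · show S.pr (φ.symm (φ w)) = _
    rw [φ.symm_apply_apply]; exact F.pr_eq

/-- The centraliser of the involution of a setting has order `2 ^ 7 * 25920`. -/
theorem card_centralizer {z : G} (S : SuzType.Suz z) :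
    Nat.card ↥(Subgroup.centralizer ({z} : Set G)) = 3317760 := by
  set C := Subgroup.centralizer ({z} : Set G)
  have hCz : ∀ c : C, (c : G) * z = z * c := fun c => Subgroup.mem_centralizer_singleton_iff.1 c.2
  let f : ↥C →* SuzType.O :=
    MonoidHom.mk' (fun c => S.act (c : G)) fun a b => S.act_mul (hCz a) (hCz b)
  have hrange : Nat.card ↥f.range = 25920 := by
    obtain ⟨-, hΩ, hmem⟩ := SuzType.omega_facts
    rw [← ThreeTrans.OrthCohom.qM_coe] at hΩ
    rw [← hΩ]
    refine Nat.card_congr ((Classical.Quad.oEquiv (ThreeTrans.OrthCohom.qM 2)).toEquiv.subtypeEquiv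
      fun g => ?_).symm
    rw [hmem]
    exact ⟨fun h => by
      obtain ⟨c, hc, he⟩ := S.act_surj _ h
      exact ⟨⟨c, Subgroup.mem_centralizer_singleton_iff.2 hc⟩, he⟩,
      fun ⟨c, he⟩ => he ▸ S.act_even _ (hCz c)⟩
  have hker : f.ker = (oc z).subgroupOf C :=
    le_antisymm (fun c hc => S.act_ker _ (hCz c) hc) fun c hc => S.act_inner hc
  have h := f.ker.card_mul_index
  rw [Subgroup.index_ker, hrange, hker, Nat.card_congr (Subgroup.subgroupOfEquivOfLe (oc_le z)).toEquiv,
    S.card] at h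
  rw [← h]
  norm_num

/-- A 2-subgroup of order `2 ^ 7` normalised by the centraliser is `oc`. -/
theorem oc_eq_of_normalised {z : G} (S : SuzType.Suz z) (N : Subgroup G)
    (hle : N ≤ Subgroup.centralizer ({z} : Set G)) (hcard : Nat.card N = 2 ^ 7)
    (hn : ∀ c, c * z = z * c → ∀ a ∈ N, c * a * c⁻¹ ∈ N) : oc z = N := by
  have : (N.subgroupOf (Subgroup.centralizer ({z} : Set G))).Normal :=
    ⟨fun a ha c => hn _ (Subgroup.mem_centralizer_singleton_iff.1 c.2) _ ha⟩
  have hp : IsPGroup 2 ↥(N.subgroupOf (Subgroup.centralizer ({z} : Set G))) :=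
    IsPGroup.of_card (n := 7) (by rw [Nat.card_congr (Subgroup.subgroupOfEquivOfLe hle).toEquiv, hcard])
  refine (Subgroup.eq_of_le_of_card_ge (fun a ha => ?_) (le_of_eq (by rw [S.card, hcard]))).symm
  exact ⟨⟨a, hle ha⟩, Core.le_pCore hp ha, rfl⟩

/-- A setting whose frame is a given element, when the candidates are all conjugate to it. -/
theorem exists_setting_frame {z w : G} (S : SuzType.Suz z)
    (h : ∀ a ∈ oc z, a * a = 1 → a ≠ 1 → a ≠ z → ∃ c, c * z = z * c ∧ c * a * c⁻¹ = w) :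
    ∃ S' : SuzType.Suz z, S'.Fr w := by
  obtain ⟨w₀, F⟩ := S.exists_fr
  obtain ⟨c, hc, hcw⟩ := h w₀ F.mem (ww F) (wne F) (w_ne_z F)
  have hz : MulAut.conj c z = z := by
    rw [MulAut.conj_apply, hc, mul_inv_cancel_right]
  have key : ∀ (y : G), y = z → ∀ T : SuzType.Suz y, T.Fr w → ∃ S' : SuzType.Suz z, S'.Fr w := by
    rintro y rfl T hT
    exact ⟨T, hT⟩
  exact key _ hz (Suz.mapEquiv S (MulAut.conj c)) (hcw ▸ Suz.fr_mapEquiv S (MulAut.conj c) F)

/-- The presented group has a setting. -/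
theorem exists_model_suz : ∃ zM : Spor.Suz, Nonempty (SuzType.Suz zM) := by
  have := Leech.finite_co0
  obtain ⟨zM, ⟨S⟩⟩ := exists_model_section
  obtain ⟨φ⟩ := CoSection.Suz3.exists_equiv
  have : Finite Spor.Suz := Finite.of_equiv _ φ.toEquiv.symm
  exact ⟨_, ⟨Suz.mapEquiv S φ.symm⟩⟩

/-- Every involution of the presented group of the class of `s` has a setting. -/
theorem exists_setting_of_conj {u v s s' z : Spor.Suz} (F : InvolFacts u v s s') (hz : IsConj s z) :
    Finite Spor.Suz ∧ Nonempty (SuzType.Suz z) := by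
  have := Leech.finite_co0
  obtain ⟨φ⟩ := CoSection.Suz3.exists_equiv
  have hfin : Finite Spor.Suz := Finite.of_equiv _ φ.toEquiv.symm
  obtain ⟨zM, ⟨S⟩⟩ := exists_model_suz
  refine ⟨hfin, ?_⟩
  rcases F.classes zM S.sett.ord with hu | hs
  · obtain ⟨g, hg⟩ := isConj_iff.1 hu.symm
    have h := card_centralizer (Suz.mapEquiv S (MulAut.conj g))
    rw [MulAut.conj_apply, hg] at h
    have h1 := F.card_dvd
    rw [h] at h1
    exact absurd (Nat.le_of_dvd (by norm_num) h1) (by norm_num)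
  · obtain ⟨g, hg⟩ := isConj_iff.1 (hs.symm.trans hz)
    exact ⟨(by rw [← hg]; exact Suz.mapEquiv S (MulAut.conj g) : SuzType.Suz z)⟩

end Cfsg.Agent.SuzRecog
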