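import Cfsg.Agent.SuzRecog.Track
import Cfsg.Agent.SuzRecog.Transport

/-!
A group with a linked copy of the centraliser and of the swapper receives the model, when the
relations of a certificate bound the order of every group they generate.
-/

set_option autoImplicit false

open Cfsg Cfsg.Agent.LargeExtra Cfsg.Agent.SuzType Cfsg.Agent.SuzType.Suz

namespace Cfsg.Agent.SuzRecog

/-- The data of an amalgam of a subgroup with one involution. -/
structure AData (R : Type*) [Group R] (C : Subgroup R) where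
  /-- the involution -/
  t : R
  /-- number of conjugated letters -/
  nU : ℕ
  /-- a conjugated letter -/
  u : ℕ → C
  /-- its conjugate -/
  v : ℕ → C
  /-- number of relators -/
  nRel : ℕ
  /-- the word of a relator -/
  word : ℕ → List C
  /-- its value -/
  tl : ℕ → C

variable {R : Type*} [Group R] {C : Subgroup R}

/-- A word in the subgroup, each letter followed by the involution. -/
def pWord {H : Type*} [Group H] (Φ : C →* H) (s : H) : List C → H
  | [] => 1
  | c :: l => Φ c * s * pWord Φ s l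

theorem pWord_map {H K : Type*} [Group H] [Group K] (Φ : C →* H) (s : H) (f : H →* K) :
    ∀ l, f (pWord Φ s l) = pWord (f.comp Φ) (f s) l
  | [] => map_one f
  | c :: l => by simp only [pWord, map_mul, pWord_map Φ s f l, MonoidHom.comp_apply]

/-- The relations of the amalgam. -/
structure AData.Rel (D : AData R C) {H : Type*} [Group H] (Φ : C →* H) (s : H) : Prop where
  sq : s * s = 1
  rot : ∀ l < D.nU, s * Φ (D.u l) * s = Φ (D.v l)
  rel : ∀ r < D.nRel, pWord Φ s (D.word r) = Φ (D.tl r)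

/-- The model satisfies the relations and is generated. -/
structure AData.Valid (D : AData R C) : Prop where
  relR : D.Rel C.subtype D.t
  gen : Subgroup.closure ((C : Set R) ∪ {D.t}) = ⊤
  simple : IsSimpleGroup R

universe v

/-- Every finite group generated with the relations has at most the order of the model. -/
def AData.Bound (D : AData R C) : Prop :=
  ∀ (H : Type v) [Group H] [Finite H] (Φ : C →* H) (s : H), D.Rel Φ s →
    Subgroup.closure (Set.range Φ ∪ {s}) = ⊤ → Nat.card H ≤ Nat.card R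

variable {R : Type} [Group R] [Finite R] {C : Subgroup R}

/-- What is generated with the relations is the model, with the same subgroup and involution. -/
theorem AData.exists_hom {D : AData R C} (hD : D.Valid) (hB : AData.Bound.{v, 0} D) {G : Type v}
    [Group G] [Finite G] {Φ : C →* G} {s : G} (h : D.Rel Φ s) (hne : ∃ x, Φ x ≠ 1) :
    ∃ θ : R →* G, Function.Injective θ ∧ (∀ x : C, θ x = Φ x) ∧ θ D.t = s := by
  classical
  have := hD.simple
  let Ψ : C →* G × R := Φ.prod C.subtype
  let Δ : Subgroup (G × R) := Subgroup.closure (Set.range Ψ ∪ {(s, D.t)})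
  have hΨ : ∀ x, Ψ x ∈ Δ := fun x => Subgroup.subset_closure (Or.inl ⟨x, rfl⟩)
  let Ψ' : C →* Δ := Ψ.codRestrict Δ hΨ
  let s' : Δ := ⟨(s, D.t), Subgroup.subset_closure (Or.inr rfl)⟩
  have hR := hD.relR
  let π₁ : Δ →* G := (MonoidHom.fst G R).comp Δ.subtype
  let π₂ : Δ →* R := (MonoidHom.snd G R).comp Δ.subtype
  have hext : ∀ a b : Δ, π₁ a = π₁ b → π₂ a = π₂ b → a = b := fun a b h1 h2 =>
    Subtype.ext (Prod.ext h1 h2)
  have hrel : D.Rel Ψ' s' := by
    refine ⟨hext _ _ h.sq hR.sq, fun l hl => hext _ _ (h.rot l hl) (hR.rot l hl),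
      fun r hr => hext _ _ ?_ ?_⟩
    · rw [pWord_map]; exact h.rel r hr
    · rw [pWord_map]; exact hR.rel r hr
  have hgen : Subgroup.closure (Set.range Ψ' ∪ {s'}) = ⊤ := by
    apply Subgroup.map_injective Δ.subtype_injective
    rw [MonoidHom.map_closure, ← MonoidHom.range_eq_map, Subgroup.range_subtype, Set.image_union,
      Set.image_singleton, ← Set.range_comp]
    rfl
  have hle := hB Δ Ψ' s' hrel hgen
  have h2s : Function.Surjective π₂ := by
    rw [← MonoidHom.range_eq_top, eq_top_iff, ← hD.gen, Subgroup.closure_le]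
    rintro x (hx | rfl)
    · exact ⟨Ψ' ⟨x, hx⟩, rfl⟩
    · exact ⟨s', rfl⟩
  have hb : Function.Bijective π₂ :=
    (Nat.bijective_iff_surjective_and_card _).mpr
      ⟨h2s, le_antisymm hle (Nat.card_le_card_of_surjective _ h2s)⟩
  let e : Δ ≃* R := MulEquiv.ofBijective π₂ hb
  let θ : R →* G := π₁.comp e.symm.toMonoidHom
  have hc : ∀ x : C, θ x = Φ x := fun x => by
    show π₁ (e.symm (x : R)) = _
    rw [show e.symm (x : R) = Ψ' x from e.symm_apply_eq.mpr rfl]
    rfl
  have hs : θ D.t = s := by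
    show π₁ (e.symm D.t) = _
    rw [show e.symm D.t = s' from e.symm_apply_eq.mpr rfl]
    rfl
  refine ⟨θ, ?_, hc, hs⟩
  refine (MonoidHom.ker_eq_bot_iff θ).mp ((θ.normal_ker.eq_bot_or_eq_top).resolve_right fun htop => ?_)
  obtain ⟨a, ha⟩ := hne
  exact ha (by rw [← hc]; exact MonoidHom.mem_ker.mp (htop ▸ Subgroup.mem_top _))

variable {z₁ w₁ : R} {S₁ : Suz z₁} {G₂ : Type v} [Group G₂] [Finite G₂] {z₂ : G₂} {S₂ : Suz z₂}
  {E : R → G₂} {E' : G₂ → R} {t₂ : G₂}

omit [Finite R] in
theorem mem_comm (hC : C = Subgroup.centralizer ({z₁} : Set R)) (c : C) :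
    (c : R) * z₁ = z₁ * c :=
  Subgroup.mem_centralizer_singleton_iff.1 (hC ▸ c.2)

/-- The identification on the centraliser as a homomorphism. -/
def linkHom (hE : Comp S₁ S₂ E) (hC : C = Subgroup.centralizer ({z₁} : Set R)) : C →* G₂ :=
  MonoidHom.mk' (fun c => E c) fun a b => hE.map_mul a b (mem_comm hC a) (mem_comm hC b)

omit [Finite R] [Finite G₂] in
theorem pWord_link (hE : Comp S₁ S₂ E) (hC : C = Subgroup.centralizer ({z₁} : Set R)) (s : G₂) :
    ∀ l : List C, pWord (linkHom hE hC) s l = gWord E s (l.map Subtype.val)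
  | [] => rfl
  | c :: l => by
    simp only [pWord, List.map_cons, gWord, pWord_link hE hC s l]
    rfl

omit [Finite R] in
theorem pWord_subtype (t : R) : ∀ l : List C, pWord C.subtype t l = mWord t (l.map Subtype.val)
  | [] => rfl
  | c :: l => by
    simp only [pWord, List.map_cons, mWord, pWord_subtype t l]
    rfl

/-- What is needed in the model to transfer a relator along a link. -/
def Transfers (z w t : R) (l : List R) (n : ℕ) : Prop :=
  ∃ X : Set R, z ∈ X ∧ (∀ x ∈ X, Tracked z w t (List.replicate n l).flatten x) ∧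
    ∀ k, k * z = z * k → (∀ x ∈ X, k * x = x * k) →
      Tracked z w t l k ∧ (mWord t l * k = k * mWord t l → k = 1)

/-- A link gives the relations. -/
theorem rel_of_link {D : AData R C} (hD : D.Valid) (L : Link S₁ S₂ E E' w₁ D.t t₂)
    (hC : C = Subgroup.centralizer ({z₁} : Set R))
    (hu : ∀ l < D.nU, (D.u l : R) * w₁ = w₁ * D.u l)
    (hrel : ∀ r < D.nRel, gWord E t₂ ((D.word r).map Subtype.val) = E (D.tl r)) :
    D.Rel (linkHom L.comp hC) t₂ := by
  have ht2 : t₂ * t₂ = 1 := by rw [L.sq, hD.relR.sq, L.comp.map_one]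
  have htt : D.t⁻¹ = D.t := inv_eq_of_mul_eq_one_right hD.relR.sq
  refine ⟨ht2, fun l hl => ?_, fun r hr => ?_⟩
  · have h := L.conj (D.u l) (mem_comm hC _) (hu l hl)
    rw [inv_eq_of_mul_eq_one_right ht2, htt] at h
    show t₂ * E (D.u l) * t₂ = E (D.v l)
    rw [h]
    exact congrArg E (hD.relR.rot l hl)
  · rw [pWord_link]; exact hrel r hr

/-- A power relator transfers along a link. -/
theorem gWord_of_transfers {t : R} (L : Link S₁ S₂ E E' w₁ t t₂) {l : List R} {n : ℕ}
    (hl : ∀ c ∈ l, c * z₁ = z₁ * c) (hn : mWord t l ^ n = 1) (hT : Transfers z₁ w₁ t l n) :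
    gWord E t₂ (List.replicate n l).flatten = E 1 := by
  obtain ⟨X, hzX, hX, hfix⟩ := hT
  rw [gWord_pow, L.comp.map_one]
  exact rel_pow L l hl n hn X hzX hX hfix

/-- The theta map: every group with a setting contains the model with the centraliser. -/
theorem exists_theta {D : AData R C} (hD : D.Valid) (hB : AData.Bound.{v, 0} D) (S₁ : Suz z₁)
    (F : S₁.Fr w₁) (ht : D.t ∈ oc (w₁ * z₁)) (htz : D.t * z₁ * D.t⁻¹ = w₁)
    (hC : C = Subgroup.centralizer ({z₁} : Set R))
    (hu : ∀ l < D.nU, (D.u l : R) * w₁ = w₁ * D.u l)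
    {G : Type v} [Group G] [Finite G] {z : G} (S : Suz z)
    (hrel : ∀ (E : R → G) (E' : G → R) (t₂ : G), Link S₁ S E E' w₁ D.t t₂ →
      ∀ r < D.nRel, gWord E t₂ ((D.word r).map Subtype.val) = E (D.tl r)) :
    ∃ θ : R →* G, Function.Injective θ ∧ θ z₁ = z ∧
      Subgroup.centralizer ({z} : Set G) ≤ θ.range := by
  obtain ⟨E, E', t₂, L⟩ := exists_link S₁ S F ht htz
  have hzC : z₁ ∈ C := hC ▸ Subgroup.mem_centralizer_singleton_iff.2 rfl
  obtain ⟨θ, hinj, hc, -⟩ := AData.exists_hom hD hB (rel_of_link hD L hC hu (hrel E E' t₂ L))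
    ⟨⟨z₁, hzC⟩, by
      show E z₁ ≠ 1
      rw [L.comp.map_z]; exact S.zne⟩
  refine ⟨θ, hinj, ?_, fun g hg => ?_⟩
  · exact (hc ⟨z₁, hzC⟩).trans L.comp.map_z
  · have hg' := Subgroup.mem_centralizer_singleton_iff.1 hg
    have hk : E' g ∈ C := hC ▸ Subgroup.mem_centralizer_singleton_iff.2 (L.comp'.comm g hg')
    exact ⟨E' g, (hc ⟨E' g, hk⟩).trans (L.right_inv g hg')⟩

end Cfsg.Agent.SuzRecog
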