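import Cfsg.Agent.SuzRecog.Amalgam
import Cfsg.Agent.DCoset.Cover
import Cfsg.Agent.DCoset.Emit

/-!
The bound on amalgams from a double coset certificate with one extra letter.
-/

set_option autoImplicit false

namespace Cfsg.Agent.SuzRecog

open Cfsg Cfsg.Agent.DCoset

universe v

variable {R : Type*} [Group R] {C : Subgroup R}

/-- The amalgam of a rule table. -/
noncomputable def certData (P : QModel C) (L : Rules) (t : R) : AData R C where
  t := t
  nU := L.nRule
  u r := if L.rS r = 1 then P.el (L.rV r) else 1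
  v r := if L.rS r = 1 then P.el (L.rU r) else 1
  nRel := L.nRel
  word r := 1 :: (List.range (L.relLen r)).map fun m => P.el (L.relW r m)
  tl r := P.el (L.relTl r)

/-- The shape of a rule table with one involution as extra letter, decidable. -/
structure Shape (M : Tab) (L : Rules) : Prop where
  two : L.nT = 2
  inv : L.invT 0 = 0 ∧ L.invT 1 = 1
  mul : ∀ a < 2, ∀ b < 2, L.mulT a b = 0 ∨ L.mulT a b = (a + b) % 2 + 1
  rule : ∀ r < L.nRule, M.okWord (L.rU r) = true ∧ M.okWord (L.rV r) = true ∧ L.rD r = L.rS r ∧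
    (L.rS r = 1 ∨ (L.rS r = 0 ∧ L.rU r = L.rV r))
  rel : ∀ r < L.nRel, L.relHd r = 1 ∧ M.okWord (L.relTl r) = true ∧
    ∀ m < L.relLen r, L.relT r m = 1 ∧ M.okWord (L.relW r m) = true

theorem pWord_map_eq {H : Type*} [Group H] (Φ : C →* H) (s : H) {α : Type*} (f : α → C) :
    ∀ l : List α, pWord Φ s (l.map f) = (l.map fun m => Φ (f m) * s).prod
  | [] => rfl
  | a :: l => by simp only [List.map_cons, pWord, List.prod_cons, pWord_map_eq Φ s f l]

/-- The extra letters. -/
def tFun {H : Type*} [Group H] (s : H) (τ : ℕ) : H := if τ = 1 then s else 1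

theorem sound_of_rel {P : QModel C} {L : Rules} {t : R} (hs : Shape P.toTab L) {H : Type*} [Group H]
    {Φ : C →* H} {s : H} (h : (certData P L t).Rel Φ s) : L.Sound (P.toModel Φ) (tFun s) := by
  constructor
  · rfl
  · intro τ hτ
    rw [hs.two] at hτ ⊢
    interval_cases τ
    · exact ⟨by rw [hs.inv.1]; norm_num, by rw [hs.inv.1]; simp [tFun]⟩
    · exact ⟨by rw [hs.inv.2]; norm_num, by rw [hs.inv.2]; exact h.sq⟩
  · intro σ τ hσ hτ hne
    rw [hs.two] at hσ hτ ⊢
    have e := (hs.mul σ hσ τ hτ).resolve_left hne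
    refine ⟨by omega, ?_⟩
    rw [e]
    interval_cases σ <;> interval_cases τ <;> simp [tFun, h.sq]
  · intro r hr
    obtain ⟨hU, hV, hD, hcase⟩ := hs.rule r hr
    rw [hs.two, hD, P.el_val, P.el_val]
    rcases hcase with hS | ⟨hS, hUV⟩
    · rw [hS]
      refine ⟨by norm_num, by norm_num, hU, hV, ?_⟩
      have e := h.rot r hr
      simp only [certData, hS, if_true] at e
      show s * Φ _ = Φ _ * s
      rw [← e, mul_assoc, h.sq, mul_one]
    · rw [hS, hUV]
      exact ⟨by norm_num, by norm_num, hUV ▸ hU, hV, by simp [tFun]⟩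
  · intro r hr
    obtain ⟨hhd, htl, hm⟩ := hs.rel r hr
    rw [hs.two, hhd]
    refine ⟨by norm_num, htl, fun m hm' => ⟨by rw [(hm m hm').1]; norm_num, (hm m hm').2⟩, ?_⟩
    have e := h.rel r hr
    simp only [certData, pWord, map_one, one_mul, pWord_map_eq] at e
    rw [P.el_val, ← e]
    show s * _ = s * _
    congr 2
    refine List.map_congr_left fun m hm' => ?_
    rw [P.el_val, (hm m (List.mem_range.1 hm')).1]
    rfl

/-- The certificate bounds every group generated with the relations. -/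
theorem bound_of_cert [Finite R] {P : QModel C} {L : Rules} {t : R} {D : Steps} {K : Cover}
    {NC N : ℕ} (hs : Shape P.toTab L) (hC : Nat.card C = NC)
    (hgen : Subgroup.closure {x | ∃ g, g < P.nL ∧ x = P.q g} = ⊤)
    (hok : ∀ s, s < D.len → Steps.check D L P.toTab s = true)
    (hsrc : ∀ j, 1 ≤ j → j < D.nNode → D.nodeSrc j < j)
    (hV : K.Valid D L P.toTab NC) (hsum : ((List.range K.nLive).map K.idx).sum = N)
    (hR : NC * N ≤ Nat.card R) : AData.Bound.{v} (certData P L t) := by
  intro H _ _ Φ s h hg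
  have hgenG : Subgroup.closure (Set.range Φ ∪ {x | ∃ τ, τ < L.nT ∧ x = tFun s τ}) = ⊤ := by
    rw [eq_top_iff, ← hg]
    refine Subgroup.closure_mono (Set.union_subset_union_right _ ?_)
    rintro x rfl
    exact ⟨1, by rw [hs.two]; norm_num, by simp [tFun]⟩
  have hL := sound_of_rel hs h
  have hF := DCoset.Steps.holds (D := D) (Hs := Φ.range) hL (fun g _ => ⟨P.q g, rfl⟩) hsrc (by rw [hs.two]; norm_num) hok
  obtain ⟨-, hle⟩ := DCoset.Cover.index_le (C := K) (P := P) Φ (tFun s) hC.le hgen hgenG hL hV hF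
  rw [hsum] at hle
  have h1 : Nat.card Φ.range ≤ NC :=
    hC ▸ Nat.card_le_card_of_surjective _ (MonoidHom.rangeRestrict_surjective Φ)
  rw [← Subgroup.card_mul_index Φ.range]
  exact le_trans (Nat.mul_le_mul h1 hle) hR

end Cfsg.Agent.SuzRecog
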