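import Cfsg.Agent.SuzRecog.ModelSetting
import Cfsg.Agent.SuzRecog.Bound
import Cfsg.Agent.DCoset.PermModel

/-!
The centraliser as a permutation model, for a table whose letters are letters of the model.
-/

set_option autoImplicit false
set_option maxRecDepth 100000

namespace Cfsg.Agent.SuzRecog.MS

open Cfsg Cfsg.Agent.Compute Cfsg.Agent.StemCert
open Cfsg.Agent.DCoset (Tab QModel Acts pk16)

theorem cWords_ok : allBelow Data.nC (fun s =>
    allB (fun x => Nat.blt x 5) (Data.cWords.getD s []) && eqW [s] (Data.cWords.getD s [])) = true := by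
  decide +kernel

/-- The centraliser. -/
noncomputable def CM : Subgroup Spor.Suz := Subgroup.centralizer ({zE} : Set Spor.Suz)

theorem CM_eq [Finite Spor.Suz] : Subgroup.closure cs = CM := model_setting.2.2.2.2.1

theorem gen_mem_CM [Finite Spor.Suz] {s : ℕ} (h : s < Data.nC) : gen s ∈ CM :=
  CM_eq ▸ Subgroup.subset_closure ⟨s, h, rfl⟩

theorem card_CM [Finite Spor.Suz] : Nat.card CM = 3317760 := by
  obtain ⟨⟨S, -⟩, -⟩ := model_setting
  exact SuzRecog.card_centralizer S

/-- The first five letters generate. -/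
theorem closure_five [Finite Spor.Suz] : Subgroup.closure (gen '' {s | s < 5}) = CM := by
  refine le_antisymm ((Subgroup.closure_le _).2 ?_) ?_
  · rintro _ ⟨s, hs, rfl⟩
    exact gen_mem_CM (Nat.lt_of_lt_of_le hs (show 5 ≤ Data.nC by decide +kernel))
  · rw [← CM_eq, Subgroup.closure_le]
    rintro _ ⟨s, hs, rfl⟩
    have h := allBelow_eq_true.mp cWords_ok s hs
    simp only [Bool.and_eq_true] at h
    rw [← ev_one s, eq_of_eqW h.2]
    exact list_prod_mem fun y hy => by
      obtain ⟨x, hx, rfl⟩ := List.mem_map.mp hy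
      exact Subgroup.subset_closure ⟨x, Nat.blt_eq.mp (allB_spec h.1 x hx), rfl⟩

/-- The value of a letter of the table. -/
noncomputable def cq [Finite Spor.Suz] (lm : ℕ → ℕ) (g : ℕ) : CM :=
  if h : lm g < Data.nC then ⟨gen (lm g), gen_mem_CM h⟩ else 1

theorem cq_coe [Finite Spor.Suz] {lm : ℕ → ℕ} {g : ℕ} (h : lm g < Data.nC) :
    (cq lm g : Spor.Suz) = gen (lm g) := by rw [cq, dif_pos h]

/-- A letter moves the image of a point back to it. -/
noncomputable def actB (M : Tab) (lm : ℕ → ℕ) (g : ℕ) : Bool :=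
  forceN (lm g) fun s => Nat.blt s Data.nC && forceN (Data.codes.getD s 0) fun c =>
    allBelow 1782 fun p => Nat.blt (M.act g p) 1782 && Nat.beq (getField 11 c (M.act g p)) p

/-- A point of the base. -/
noncomputable def bpt (bs : List ℕ) (l : ℕ) : Fin 1782 :=
  if h : bs.getD l 0 < 1782 then ⟨bs.getD l 0, h⟩ else ⟨0, by norm_num⟩

theorem acts [Finite Spor.Suz] {M : Tab} {lm : ℕ → ℕ} {bs : List ℕ}
    (hact : allBelow M.nL (actB M lm) = true) (hlt : ∀ g p, M.act g p < 65536)
    (hbase : M.base = pk16 M.k fun l => bs.getD l 0) (hbs : ∀ l, bs.getD l 0 < 1782) :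
    Acts (SuzOut.ι.comp CM.subtype) M (cq lm) (bpt bs) where
  small := by norm_num
  act_lt := hlt
  base_eq := by
    rw [hbase]
    refine DCoset.pk16_congr _ fun l _ => ?_
    rw [bpt, dif_pos (hbs l)]
  act_eq g hg p := by
    have h := allBelow_eq_true.mp hact g hg
    rw [actB, forceN_eq, forceN_eq] at h
    simp only [Bool.and_eq_true, Nat.blt_eq] at h
    have hp := allBelow_eq_true.mp h.2 p.val p.isLt
    simp only [Bool.and_eq_true, Nat.blt_eq, Nat.beq_eq] at hp
    have e : SuzOut.ι (gen (lm g)) ⟨M.act g p.val, hp.1⟩ = p :=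
      Fin.ext ((coded (lm g) (Nat.lt_of_lt_of_le h.1 small_ok.2.2.2.2.2.2.2.2.2.2.1) _).trans hp.2)
    show M.act g p.val = ((SuzOut.ι (cq lm g : Spor.Suz))⁻¹ p).val
    rw [cq_coe h.1]
    conv_rhs => rw [← e, Equiv.Perm.inv_def, Equiv.symm_apply_apply]

/-- The letters generate the centraliser when their images cover the first five. -/
theorem gen_top [Finite Spor.Suz] {lm : ℕ → ℕ} {n : ℕ} (h : ∀ s < 5, ∃ g < n, lm g = s) :
    Subgroup.closure {x | ∃ g, g < n ∧ x = cq lm g} = ⊤ := by
  apply Subgroup.map_injective CM.subtype_injective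
  rw [MonoidHom.map_closure, ← MonoidHom.range_eq_map, Subgroup.range_subtype]
  refine le_antisymm ((Subgroup.closure_le _).2 ?_) ?_
  · rintro _ ⟨x, -, rfl⟩
    exact x.2
  · refine closure_five.ge.trans (Subgroup.closure_mono ?_)
    rintro _ ⟨s, hs, rfl⟩
    obtain ⟨g, hg, rfl⟩ := h s hs
    refine ⟨cq lm g, ⟨g, hg, rfl⟩, cq_coe ?_⟩
    exact Nat.lt_of_lt_of_le hs (show 5 ≤ Data.nC by decide +kernel)

/-- The model of the centraliser from a table and a chain. -/
noncomputable def cModel [Finite Spor.Suz] {M : Tab} {lm : ℕ → ℕ} {bs : List ℕ}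
    (A : Acts (SuzOut.ι.comp CM.subtype) M (cq lm) (bpt bs)) (K : QModel.Chain)
    (hK : ((List.range M.k).map K.size).prod = 3317760)
    (hg : ∀ l a, l < M.k → a < K.nGen l → QModel.checkGen M K l a = true)
    (hp : ∀ l m, l < M.k → m < K.size l → QModel.checkPt M K l m = true) : QModel CM :=
  A.toQModel (A.faithful K card_CM.le hK hg hp)

theorem cModel_tab [Finite Spor.Suz] {M : Tab} {lm : ℕ → ℕ} {bs : List ℕ}
    (A : Acts (SuzOut.ι.comp CM.subtype) M (cq lm) (bpt bs)) (K : QModel.Chain)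
    (hK : ((List.range M.k).map K.size).prod = 3317760)
    (hg : ∀ l a, l < M.k → a < K.nGen l → QModel.checkGen M K l a = true)
    (hp : ∀ l m, l < M.k → m < K.size l → QModel.checkPt M K l m = true) :
    (cModel A K hK hg hp).toTab = M ∧ (cModel A K hK hg hp).q = cq lm := ⟨rfl, rfl⟩

end Cfsg.Agent.SuzRecog.MS
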