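import Cfsg.Agent.SuzRecog.Sylow

/-!
The centralisers of the involutions of two settings are isomorphic.
-/

set_option autoImplicit false

open Cfsg Cfsg.Agent.ThreeTrans.OrthCohom Cfsg.Agent.Classical.Quad QuadraticMap Cfsg.Agent.LargeExtra
  Cfsg.Agent.SuzType Cfsg.Agent.SuzType.Suz

namespace Cfsg.Agent.SuzRecog

variable {G₁ : Type*} [Group G₁] [Finite G₁] {G₂ : Type*} [Group G₂] [Finite G₂]
  {z₁ : G₁} {z₂ : G₂}

/-- The isomorphism of the centralisers, compatible with the actions on the spaces. -/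
theorem centIso (S₁ : Suz z₁) (S₂ : Suz z₂) :
    ∃ e : ↥(Subgroup.centralizer ({z₁} : Set G₁)) ≃* ↥(Subgroup.centralizer ({z₂} : Set G₂)),
      (∀ c : ↥(Subgroup.centralizer ({z₁} : Set G₁)), (c : G₁) = z₁ → (e c : G₂) = z₂) ∧
      (∀ c : ↥(Subgroup.centralizer ({z₁} : Set G₁)), S₂.act (e c : G₂) = S₁.act (c : G₁)) ∧
      (∀ c : ↥(Subgroup.centralizer ({z₁} : Set G₁)), (c : G₁) ∈ oc z₁ ↔ (e c : G₂) ∈ oc z₂) ∧
      ∀ c : ↥(Subgroup.centralizer ({z₁} : Set G₁)), (c : G₁) ∈ oc z₁ →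
        S₂.pr (e c : G₂) = S₁.pr (c : G₁) := by
  classical
  obtain ⟨ψ⟩ := exists_match S₁ S₂
  obtain ⟨T, hεT, hT⟩ := ψ.exists_split
  set T' : Subgroup ↥ψ.pairs := T.comap (QuotientGroup.mk' ψ.graph)
  have hgraph : ∀ (q : G₁) (hq : q ∈ oc z₁), (⟨(q, ψ.f q), ψ.graph_mem hq⟩ : ↥ψ.pairs) ∈ T' :=
    fun q hq => by
      show (QuotientGroup.mk (⟨(q, ψ.f q), ψ.graph_mem hq⟩ : ↥ψ.pairs) : ψ.Ext) ∈ T
      rw [(QuotientGroup.eq_one_iff (N := ψ.graph) _).2 ⟨hq, rfl⟩]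
      exact one_mem T
  have hsmall : ∀ d ∈ T', S₁.act d.1.1 = 1 → d.1.2 = ψ.f d.1.1 ∧ d.1.1 ∈ oc z₁ := by
    intro d hd h
    rcases ψ.proj_ker (x := QuotientGroup.mk d) h with e | e
    · obtain ⟨h1, h2⟩ := (QuotientGroup.eq_one_iff _).1 e
      exact ⟨h2, h1⟩
    · exact absurd (e ▸ (show (QuotientGroup.mk d : ψ.Ext) ∈ T from hd)) hεT
  have hex : ∀ g : O, dsign g = 1 → ∃ d ∈ T', S₁.act d.1.1 = g := by
    intro g hg
    obtain ⟨x, rfl⟩ := ψ.proj_surj hg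
    rcases hT x with h | h
    · obtain ⟨d, rfl⟩ := QuotientGroup.mk_surjective x
      exact ⟨d, h, rfl⟩
    · obtain ⟨d, hd⟩ := QuotientGroup.mk_surjective (ψ.eps * x)
      refine ⟨d, show (QuotientGroup.mk d : ψ.Ext) ∈ T from hd ▸ h, ?_⟩
      rw [← ψ.proj_mk d, hd, _root_.map_mul ψ.proj, ψ.proj_eps, one_mul]
  let p : ↥T' →* ↥(Subgroup.centralizer ({z₁} : Set G₁)) :=
    MonoidHom.mk' (fun d => ⟨d.1.1.1, Subgroup.mem_centralizer_singleton_iff.2 d.1.2.1⟩) fun _ _ => rfl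
  let r : ↥T' →* ↥(Subgroup.centralizer ({z₂} : Set G₂)) :=
    MonoidHom.mk' (fun d => ⟨d.1.1.2, Subgroup.mem_centralizer_singleton_iff.2 d.1.2.2.1⟩) fun _ _ => rfl
  have hp : Function.Bijective p := by
    refine ⟨(injective_iff_map_eq_one p).2 fun d hd => ?_, fun c => ?_⟩
    · have h1 : d.1.1.1 = 1 := congrArg Subtype.val hd
      obtain ⟨h2, -⟩ := hsmall d.1 d.2 (by rw [h1, S₁.act_one])
      rw [h1, ψ.map_one] at h2
      exact Subtype.ext (Subtype.ext (Prod.ext h1 h2))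
    · have hc := Subgroup.mem_centralizer_singleton_iff.1 c.2
      obtain ⟨d, hd, hda⟩ := hex _ (S₁.act_even _ hc)
      have hq : d.1.1⁻¹ * c.1 ∈ oc z₁ := S₁.act_ker _ (Commute.mul_left (Commute.inv_left d.2.1) hc).eq
        (by rw [S₁.act_mul (Commute.inv_left d.2.1).eq hc, S₁.act_inv d.2.1, hda, inv_mul_cancel])
      exact ⟨⟨d * ⟨_, ψ.graph_mem hq⟩, mul_mem hd (hgraph _ hq)⟩,
        Subtype.ext (mul_inv_cancel_left _ _)⟩
  have hr : Function.Bijective r := by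
    refine ⟨(injective_iff_map_eq_one r).2 fun d hd => ?_, fun c => ?_⟩
    · have h1 : d.1.1.2 = 1 := congrArg Subtype.val hd
      obtain ⟨h2, h3⟩ := hsmall d.1 d.2 (by rw [← ψ.act_eq d.1.2, h1, S₂.act_one])
      rw [h1] at h2
      exact Subtype.ext (Subtype.ext (Prod.ext (ψ.eq_one h3 h2.symm) h1))
    · have hc := Subgroup.mem_centralizer_singleton_iff.1 c.2
      obtain ⟨d, hd, hda⟩ := hex _ (S₂.act_even _ hc)
      have hq : d.1.2⁻¹ * c.1 ∈ oc z₂ := S₂.act_ker _ (Commute.mul_left (Commute.inv_left d.2.2.1) hc).eq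
        (by rw [S₂.act_mul (Commute.inv_left d.2.2.1).eq hc, S₂.act_inv d.2.2.1, ψ.act_eq d.2, hda,
          inv_mul_cancel])
      obtain ⟨a, ha, hae⟩ := ψ.surj hq
      refine ⟨⟨d * ⟨_, ψ.graph_mem ha⟩, mul_mem hd (hgraph _ ha)⟩, Subtype.ext ?_⟩
      show d.1.2 * ψ.f a = c.1
      rw [hae, mul_inv_cancel_left]
  set e := (MulEquiv.ofBijective p hp).symm.trans (MulEquiv.ofBijective r hr)
  have he : ∀ d : ↥T', e (p d) = r d := fun d => by
    show r ((MulEquiv.ofBijective p hp).symm (MulEquiv.ofBijective p hp d)) = r d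
    rw [MulEquiv.symm_apply_apply]
  refine ⟨e, fun c hc => ?_, fun c => ?_, fun c => ?_, fun c hc => ?_⟩
  · have h := he ⟨_, hgraph z₁ S₁.zmem⟩
    rw [show c = p ⟨_, hgraph z₁ S₁.zmem⟩ from Subtype.ext hc, h]
    exact ψ.map_z
  · obtain ⟨d, rfl⟩ := hp.2 c
    rw [he]
    exact ψ.act_eq d.1.2
  · obtain ⟨d, rfl⟩ := hp.2 c
    rw [he]
    constructor
    · intro h
      obtain ⟨h2, -⟩ := hsmall d.1 d.2 (S₁.act_inner h)
      show d.1.1.2 ∈ oc z₂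
      rw [h2]; exact ψ.mem _ h
    · intro h
      exact (hsmall d.1 d.2 (by rw [← ψ.act_eq d.1.2]; exact S₂.act_inner h)).2
  · obtain ⟨d, rfl⟩ := hp.2 c
    rw [he]
    show S₂.pr d.1.1.2 = S₁.pr d.1.1.1
    rw [(hsmall d.1 d.2 (S₁.act_inner hc)).1]
    exact ψ.map_pr _ hc

end Cfsg.Agent.SuzRecog
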