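import Cfsg.Agent.SuzType.Setting

/-!
An isomorphism of the extraspecial groups of two settings over the identity of the space: the
graph is a maximal subgroup of the fibre product avoiding `(1, z₂)`.
-/

set_option autoImplicit false

open Cfsg Cfsg.Agent.ThreeTrans.OrthCohom Cfsg.Agent.Classical.Quad QuadraticMap Cfsg.Agent.LargeExtra
  Cfsg.Agent.SuzType

namespace Cfsg.Agent.SuzRecog

variable {G₁ : Type*} [Group G₁] [Finite G₁] {G₂ : Type*} [Group G₂] [Finite G₂]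
  {z₁ : G₁} {z₂ : G₂}

/-- A matching of the extraspecial groups. -/
structure Match (S₁ : Suz z₁) (S₂ : Suz z₂) where
  f : G₁ → G₂
  mem : ∀ a ∈ oc z₁, f a ∈ oc z₂
  map_mul : ∀ a ∈ oc z₁, ∀ b ∈ oc z₁, f (a * b) = f a * f b
  map_pr : ∀ a ∈ oc z₁, S₂.pr (f a) = S₁.pr a
  map_z : f z₁ = z₂

namespace Match

variable {S₁ : Suz z₁} {S₂ : Suz z₂} (ψ : Match S₁ S₂)

theorem map_one : ψ.f 1 = 1 :=
  mul_eq_left.1 ((ψ.map_mul 1 (one_mem _) 1 (one_mem _)).symm.trans (by rw [one_mul]))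

theorem map_inv {a : G₁} (ha : a ∈ oc z₁) : ψ.f a⁻¹ = (ψ.f a)⁻¹ :=
  eq_inv_of_mul_eq_one_right (by rw [← ψ.map_mul a ha _ (inv_mem ha), mul_inv_cancel, ψ.map_one])

theorem map_zp (e : ZMod 2) : ψ.f (zp z₁ e) = zp z₂ e := by
  rcases zmod_cases e with rfl | rfl <;> simp [zp_zero, zp_one, ψ.map_one, ψ.map_z]

theorem surj {b : G₂} (hb : b ∈ oc z₂) : ∃ a ∈ oc z₁, ψ.f a = b := by
  obtain ⟨a, ha, hab⟩ := S₁.pr_surj (S₂.pr b)
  rcases S₂.pr_eq (ψ.mem a ha) hb ((ψ.map_pr a ha).trans hab) with e | e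
  · exact ⟨a, ha, e.symm⟩
  · exact ⟨a * z₁, mul_mem ha S₁.zmem, by rw [ψ.map_mul a ha _ S₁.zmem, ψ.map_z, e]⟩

theorem eq_one {a : G₁} (ha : a ∈ oc z₁) (h : ψ.f a = 1) : a = 1 := by
  rcases S₁.pr_ker a ha (by rw [← ψ.map_pr a ha, h, S₂.pr_one]) with e | e
  · exact e
  · rw [e, ψ.map_z] at h; exact absurd h S₂.zne

end Match

variable (S₁ : Suz z₁) (S₂ : Suz z₂)

/-- The fibre product. -/
def fibre : Subgroup (G₁ × G₂) where
  carrier := {p | p.1 ∈ oc z₁ ∧ p.2 ∈ oc z₂ ∧ S₁.pr p.1 = S₂.pr p.2}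
  one_mem' := ⟨one_mem _, one_mem _, S₁.pr_one.trans S₂.pr_one.symm⟩
  mul_mem' := fun {p q} hp hq => ⟨mul_mem hp.1 hq.1, mul_mem hp.2.1 hq.2.1, by
    show S₁.pr (p.1 * q.1) = S₂.pr (p.2 * q.2)
    rw [S₁.pr_mul _ hp.1 _ hq.1, S₂.pr_mul _ hp.2.1 _ hq.2.1, hp.2.2, hq.2.2]⟩
  inv_mem' := fun {p} hp => ⟨inv_mem hp.1, inv_mem hp.2.1, by
    show S₁.pr p.1⁻¹ = S₂.pr p.2⁻¹
    rw [S₁.pr_inv hp.1, S₂.pr_inv hp.2.1, hp.2.2]⟩

theorem zp_pair (e : ZMod 2) : ((zp z₁ e, zp z₂ e) : G₁ × G₂) = zp (z₁, z₂) e := by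
  rcases zmod_cases e with rfl | rfl
  · simp [zp_zero]
  · simp [zp_one]

theorem exists_match : Nonempty (Match S₁ S₂) := by
  classical
  set P := fibre S₁ S₂
  set ζ : G₁ × G₂ := (z₁, z₂)
  set ε : G₁ × G₂ := (1, z₂)
  have hζ : ζ * ζ = 1 := Prod.ext S₁.zz S₂.zz
  have hζP : ζ ∈ P := ⟨S₁.zmem, S₂.zmem, S₁.pr_z.trans S₂.pr_z.symm⟩
  have hεP : ε ∈ P := ⟨one_mem _, S₂.zmem, S₁.pr_one.trans S₂.pr_z.symm⟩
  let good : Set (Subgroup (G₁ × G₂)) := {T | T ≤ P ∧ ζ ∈ T ∧ ε ∉ T}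
  have h0 : Subgroup.zpowers ζ ∈ good := by
    refine ⟨Subgroup.zpowers_le.2 hζP, Subgroup.mem_zpowers _, fun h => ?_⟩
    obtain ⟨k, hk⟩ := h
    have h2 : ζ ^ (2 : ℤ) = 1 := by rw [zpow_two, hζ]
    rcases Int.even_or_odd k with ⟨m, rfl⟩ | ⟨m, rfl⟩
    · have : ζ ^ (m + m) = 1 := by rw [← two_mul, zpow_mul, h2, one_zpow]
      exact S₂.zne (congrArg Prod.snd (hk.symm.trans this))
    · have : ζ ^ (2 * m + 1) = ζ := by rw [zpow_add, zpow_mul, h2, one_zpow, one_mul, zpow_one]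
      exact S₁.zne (congrArg Prod.fst (this.symm.trans hk))
  obtain ⟨T, -, hT⟩ := (Set.toFinite good).exists_le_maximal h0
  obtain ⟨hTP, hζT, hεT⟩ := hT.1
  have hzp : ∀ e, zp ζ e ∈ T := fun e => by
    rcases zmod_cases e with rfl | rfl
    · rw [zp_zero]; exact one_mem _
    · rw [zp_one]; exact hζT
  have hsq : ∀ p ∈ P, p * p ∈ T := fun p hp => by
    rw [show p * p = zp ζ (qM 2 (S₁.pr p.1)) by
      rw [← zp_pair]
      exact Prod.ext (S₁.pr_sq _ hp.1) (by rw [hp.2.2]; exact S₂.pr_sq _ hp.2.1)]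
    exact hzp _
  have hcomm : ∀ p ∈ P, ∀ q ∈ P, p * q * p⁻¹ * q⁻¹ ∈ T := fun p hp q hq => by
    rw [show p * q * p⁻¹ * q⁻¹ = zp ζ (Bp (S₁.pr p.1) (S₁.pr q.1)) by
      rw [← zp_pair]
      exact Prod.ext (S₁.commutator_eq hp.1 hq.1)
        (by rw [hp.2.2, hq.2.2]; exact S₂.commutator_eq hp.2.1 hq.2.1)]
    exact hzp _
  have hall : ∀ x ∈ P, x ∈ T ∨ x * ε ∈ T := by
    intro x hx
    by_cases hxT : x ∈ T
    · exact Or.inl hxT
    have hcj : ∀ h ∈ T, ∀ y ∈ P, y * h * y⁻¹ ∈ T := fun h hh y hy => by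
      rw [show y * h * y⁻¹ = y * h * y⁻¹ * h⁻¹ * h by group]
      exact mul_mem (hcomm y hy h (hTP hh)) hh
    let K : Subgroup (G₁ × G₂) :=
      { carrier := {g | g ∈ T ∨ g * x ∈ T}
        one_mem' := Or.inl (one_mem T)
        mul_mem' := by
          rintro g h (hg | hg) (hh | hh)
          · exact Or.inl (mul_mem hg hh)
          · exact Or.inr (by rw [mul_assoc]; exact mul_mem hg hh)
          · refine Or.inr ?_
            rw [show g * h * x = g * x * (x⁻¹ * h * x⁻¹⁻¹) by group]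
            exact mul_mem hg (hcj h hh _ (inv_mem hx))
          · refine Or.inl ?_
            rw [show g * h = g * x * (x⁻¹ * (h * x) * x⁻¹⁻¹ * (x * x)⁻¹) by group]
            exact mul_mem hg (mul_mem (hcj _ hh _ (inv_mem hx)) (inv_mem (hsq x hx)))
        inv_mem' := by
          rintro g (hg | hg)
          · exact Or.inl (inv_mem hg)
          · refine Or.inr ?_
            rw [show g⁻¹ * x = x * (g * x)⁻¹ * x⁻¹ * (x * x) by group]
            exact mul_mem (hcj _ (inv_mem hg) x hx) (hsq x hx) }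
    have hTK : T ≤ K := fun g hg => Or.inl hg
    have hxK : x ∈ K := Or.inr (hsq x hx)
    have hKP : K ≤ P := by
      rintro g (hg | hg)
      · exact hTP hg
      · have := mul_mem (hTP hg) (inv_mem hx)
        rwa [mul_inv_cancel_right] at this
    have hεK : ε ∈ K := by
      by_contra hn
      exact hxT (hT.2 ⟨hKP, hTK hζT, hn⟩ hTK hxK)
    rcases hεK with h | h
    · exact absurd h hεT
    · refine Or.inr ?_
      have e : x * ε = ε * x := Prod.ext (by simp [ε]) (S₂.comm hx.2.1)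
      rwa [e]
  have hfun : ∀ a ∈ oc z₁, ∃ b, ((a, b) : G₁ × G₂) ∈ T := fun a ha => by
    obtain ⟨b, hb, hab⟩ := S₂.pr_surj (S₁.pr a)
    rcases hall (a, b) ⟨ha, hb, hab.symm⟩ with h | h
    · exact ⟨b, h⟩
    · exact ⟨b * z₂, by simpa [ε] using h⟩
  choose! f hf using hfun
  have huniq : ∀ {a : G₁} {b : G₂}, ((a, b) : G₁ × G₂) ∈ T → a ∈ oc z₁ → b = f a := by
    intro a b hb ha
    have h := mul_mem (inv_mem (hf a ha)) hb
    have e : ((a, f a) : G₁ × G₂)⁻¹ * (a, b) = (1, (f a)⁻¹ * b) :=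
      Prod.ext (inv_mul_cancel a) rfl
    rw [e] at h
    obtain ⟨-, h2, h3⟩ := hTP h
    rcases S₂.pr_ker _ h2 (h3.symm.trans S₁.pr_one) with e' | e'
    · exact (inv_mul_eq_one.1 e').symm
    · refine absurd h ?_
      change (f a)⁻¹ * b = z₂ at e'
      rw [e']
      exact hεT
  exact ⟨{
    f := f
    mem := fun a ha => (hTP (hf a ha)).2.1
    map_mul := fun a ha b hb => (huniq (mul_mem (hf a ha) (hf b hb)) (mul_mem ha hb)).symm
    map_pr := fun a ha => (hTP (hf a ha)).2.2.symm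
    map_z := (huniq hζT S₁.zmem).symm }⟩

end Cfsg.Agent.SuzRecog
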