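import Cfsg.Agent.SuzRecog.Twist
import Cfsg.Agent.SuzRecog.Match

/-!
Pairs of elements of two centralisers inducing the same automorphism on the matched extraspecial
groups: modulo the graph of the matching they form a central extension of the orthogonal group by a
group of order two, in which the lifts of the non-singular Siegel map are involutions.
-/

set_option autoImplicit false

open Cfsg Cfsg.Agent.ThreeTrans.OrthCohom Cfsg.Agent.Classical.Quad QuadraticMap Cfsg.Agent.LargeExtra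
  Cfsg.Agent.SuzType Cfsg.Agent.SuzType.Suz

namespace Cfsg.Agent.SuzRecog

theorem six_functional_code : ∀ n : Fin 64, ∃ w : Fin 64,
    ([1, 2, 4, 8, 16, 32].map fun k => Bn w.val k) = (List.range 6).map fun i => n.val.testBit i := by
  decide +kernel

theorem six_code : ∀ s₁ s₂ s₄ s₈ s₁₆ s₃₂ : Bool, ∃ n : Fin 64,
    (List.range 6).map (fun i => n.val.testBit i) = [s₁, s₂, s₄, s₈, s₁₆, s₃₂] := by
  decide +kernel

theorem six_functional (s₁ s₂ s₄ s₈ s₁₆ s₃₂ : Bool) : ∃ w : Fin 64, Bn w.val 1 = s₁ ∧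
    Bn w.val 2 = s₂ ∧ Bn w.val 4 = s₄ ∧ Bn w.val 8 = s₈ ∧ Bn w.val 16 = s₁₆ ∧ Bn w.val 32 = s₃₂ := by
  obtain ⟨n, hn⟩ := six_code s₁ s₂ s₄ s₈ s₁₆ s₃₂
  obtain ⟨w, hw⟩ := six_functional_code n
  rw [hn] at hw
  simp only [List.map_cons, List.map_nil, List.cons.injEq] at hw
  exact ⟨w, hw.1, hw.2.1, hw.2.2.1, hw.2.2.2.1, hw.2.2.2.2.1, hw.2.2.2.2.2.1⟩

/-- A property closed under products holds on `oc z` once it holds on a set of generators. -/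
theorem oc_induct {G : Type*} [Group G] [Finite G] {z : G} (S : Suz z) {P : G → Prop}
    (h1 : P 1) (hz : P z) (hmul : ∀ a ∈ oc z, ∀ b ∈ oc z, P a → P b → P (a * b))
    (hgen : ∀ k ∈ [1, 2, 4, 8, 16, 32], ∃ a ∈ oc z, S.pr a = dc k ∧ P a) {a : G} (ha : a ∈ oc z) :
    P a := by
  set v := cd (S.pr a) with hv
  have hP : ∀ k ∈ [1, 2, 4, 8, 16, 32], v.val &&& k < 64 ∧
      ∃ t, t ∈ oc z ∧ S.pr t = dc (v.val &&& k) ∧ P t := fun k hk => by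
    refine ⟨lt_of_le_of_lt Nat.and_le_left v.isLt, ?_⟩
    rcases part_cases v k hk with e | e <;> rw [e]
    · exact ⟨1, one_mem _, by rw [S.pr_one, dc_zero], h1⟩
    · exact hgen k hk
  obtain ⟨l1, t1, g1, q1, m1⟩ := hP 1 (by simp)
  obtain ⟨l2, t2, g2, q2, m2⟩ := hP 2 (by simp)
  obtain ⟨l4, t4, g4, q4, m4⟩ := hP 4 (by simp)
  obtain ⟨l8, t8, g8, q8, m8⟩ := hP 8 (by simp)
  obtain ⟨l16, t16, g16, q16, m16⟩ := hP 16 (by simp)
  obtain ⟨l32, t32, g32, q32, m32⟩ := hP 32 (by simp)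
  have g12 := mul_mem g1 g2
  have g124 := mul_mem g12 g4
  have g816 := mul_mem g8 g16
  have gA := mul_mem g124 g816
  have he : S.pr (t1 * t2 * t4 * (t8 * t16) * t32) = S.pr a := by
    rw [S.pr_mul _ gA _ g32, S.pr_mul _ g124 _ g816, S.pr_mul _ g12 _ g4, S.pr_mul _ g1 _ g2,
      S.pr_mul _ g8 _ g16, q1, q2, q4, q8, q16, q32, ← dc_xor l1 l2, ← dc_xor l8 l16,
      ← dc_xor (xor_lt l1 l2) l4, ← dc_xor (xor_lt (xor_lt l1 l2) l4) (xor_lt l8 l16),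
      ← dc_xor (xor_lt (xor_lt (xor_lt l1 l2) l4) (xor_lt l8 l16)) l32,
      ← SuzType.split_code v, hv, dc_cd]
  have hm := hmul _ gA _ g32 (hmul _ g124 _ g816 (hmul _ g12 _ g4 (hmul _ g1 _ g2 m1 m2) m4)
    (hmul _ g8 _ g16 m8 m16)) m32
  rcases S.pr_eq (mul_mem gA g32) ha he with e | e <;> rw [e]
  · exact hm
  · exact hmul _ (mul_mem gA g32) _ S.zmem hm hz

variable {G₁ : Type*} [Group G₁] [Finite G₁] {G₂ : Type*} [Group G₂] [Finite G₂]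
  {z₁ : G₁} {z₂ : G₂} {S₁ : Suz z₁} {S₂ : Suz z₂}

namespace Match

variable (ψ : Match S₁ S₂)

/-- The compatible pairs. -/
def pairs : Subgroup (G₁ × G₂) where
  carrier := {p | p.1 * z₁ = z₁ * p.1 ∧ p.2 * z₂ = z₂ * p.2 ∧
    ∀ a ∈ oc z₁, ψ.f (p.1 * a * p.1⁻¹) = p.2 * ψ.f a * p.2⁻¹}
  one_mem' := ⟨by simp, by simp, fun a _ => by simp⟩
  mul_mem' := fun {p q} hp hq => ⟨Commute.mul_left hp.1 hq.1, Commute.mul_left hp.2.1 hq.2.1,
    fun a ha => by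
      show ψ.f (p.1 * q.1 * a * (p.1 * q.1)⁻¹) = p.2 * q.2 * ψ.f a * (p.2 * q.2)⁻¹
      rw [show p.1 * q.1 * a * (p.1 * q.1)⁻¹ = p.1 * (q.1 * a * q.1⁻¹) * p.1⁻¹ by group,
        hp.2.2 _ (S₁.nrm hq.1 ha), hq.2.2 a ha]
      group⟩
  inv_mem' := fun {p} hp => ⟨Commute.inv_left hp.1, Commute.inv_left hp.2.1, fun a ha => by
    have hm : p.1⁻¹ * a * p.1 ∈ oc z₁ := by
      have := S₁.nrm (Commute.inv_left hp.1).eq ha
      rwa [inv_inv] at this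
    show ψ.f (p.1⁻¹ * a * p.1⁻¹⁻¹) = p.2⁻¹ * ψ.f a * p.2⁻¹⁻¹
    have h := hp.2.2 _ hm
    rw [show p.1 * (p.1⁻¹ * a * p.1) * p.1⁻¹ = a by group] at h
    rw [inv_inv, inv_inv, h]
    group⟩

theorem graph_mem {q : G₁} (hq : q ∈ oc z₁) : ((q, ψ.f q) : G₁ × G₂) ∈ ψ.pairs :=
  ⟨S₁.comm hq, S₂.comm (ψ.mem q hq), fun a ha => by
    show ψ.f (q * a * q⁻¹) = ψ.f q * ψ.f a * (ψ.f q)⁻¹
    rw [ψ.map_mul _ (mul_mem hq ha) _ (inv_mem hq), ψ.map_mul q hq a ha, ψ.map_inv hq]⟩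

theorem act_eq {p : G₁ × G₂} (hp : p ∈ ψ.pairs) : S₂.act p.2 = S₁.act p.1 := by
  refine ext_oG fun x => ?_
  obtain ⟨a, ha, rfl⟩ := S₁.pr_surj x
  rw [← S₁.act_spec _ hp.1 a ha, ← ψ.map_pr a ha, ← S₂.act_spec _ hp.2.1 _ (ψ.mem a ha),
    ← hp.2.2 a ha, ψ.map_pr _ (S₁.nrm hp.1 ha)]

/-- The graph of the matching. -/
def graph : Subgroup ↥ψ.pairs where
  carrier := {d | d.1.1 ∈ oc z₁ ∧ d.1.2 = ψ.f d.1.1}
  one_mem' := ⟨one_mem _, ψ.map_one.symm⟩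
  mul_mem' := fun {p q} hp hq => ⟨mul_mem hp.1 hq.1, by
    show p.1.2 * q.1.2 = ψ.f (p.1.1 * q.1.1)
    rw [ψ.map_mul _ hp.1 _ hq.1, hp.2, hq.2]⟩
  inv_mem' := fun {p} hp => ⟨inv_mem hp.1, by
    show p.1.2⁻¹ = ψ.f p.1.1⁻¹
    rw [ψ.map_inv hp.1, hp.2]⟩

instance graph_normal : ψ.graph.Normal :=
  ⟨fun n hn g => ⟨S₁.nrm g.2.1 hn.1, by
    show g.1.2 * n.1.2 * g.1.2⁻¹ = ψ.f (g.1.1 * n.1.1 * g.1.1⁻¹)
    rw [g.2.2.2 _ hn.1, hn.2]⟩⟩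

/-- The extension. -/
abbrev Ext : Type _ := ↥ψ.pairs ⧸ ψ.graph

/-- The induced isometry of a pair. -/
noncomputable def rhoD : ↥ψ.pairs →* O :=
  MonoidHom.mk' (fun d => S₁.act d.1.1) fun c d => S₁.act_mul c.2.1 d.2.1

/-- The projection of the extension. -/
noncomputable def proj : ψ.Ext →* O :=
  QuotientGroup.lift ψ.graph ψ.rhoD fun _ hd => S₁.act_inner hd.1

theorem proj_mk (d : ↥ψ.pairs) : ψ.proj (QuotientGroup.mk d) = S₁.act d.1.1 := rfl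

theorem proj_even (x : ψ.Ext) : dsign (ψ.proj x) = 1 := by
  obtain ⟨d, rfl⟩ := QuotientGroup.mk_surjective x
  exact S₁.act_even _ d.2.1

theorem proj_surj {g : O} (hg : dsign g = 1) : ∃ x : ψ.Ext, ψ.proj x = g := by
  classical
  obtain ⟨c₁, h₁, rfl⟩ := S₁.act_surj g hg
  obtain ⟨c₂, h₂, e₂⟩ := S₂.act_surj (S₁.act c₁) hg
  choose lift hlift hpr using S₁.pr_surj
  let s : ℕ → Bool := fun k =>
    decide (ψ.f (c₁ * lift (dc k) * c₁⁻¹) ≠ c₂ * ψ.f (lift (dc k)) * c₂⁻¹)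
  obtain ⟨w, w1, w2, w4, w8, w16, w32⟩ := six_functional (s 1) (s 2) (s 4) (s 8) (s 16) (s 32)
  obtain ⟨q, hq, hqw⟩ := S₂.pr_surj (dc w.val)
  have hqz := S₂.comm hq
  have hcq : c₂ * q * z₂ = z₂ * (c₂ * q) := Commute.mul_left h₂ hqz
  have key : ∀ a ∈ oc z₁, c₂ * q * ψ.f a * (c₂ * q)⁻¹ =
      zp z₂ (Bp (dc w.val) (S₁.pr a)) * (c₂ * ψ.f a * c₂⁻¹) := fun a ha => by
    have e := S₂.commutator_eq hq (ψ.mem a ha)
    rw [hqw, ψ.map_pr a ha] at e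
    rw [← mul_assoc, ← mul_assoc, ← S₂.comm_zp h₂, ← e]
    group
  have hall : ∀ a ∈ oc z₁, ψ.f (c₁ * a * c₁⁻¹) = c₂ * q * ψ.f a * (c₂ * q)⁻¹ := by
    intro a ha
    refine oc_induct S₁ (P := fun a => ψ.f (c₁ * a * c₁⁻¹) = c₂ * q * ψ.f a * (c₂ * q)⁻¹)
      ?_ ?_ ?_ ?_ ha
    · simp [ψ.map_one]
    · rw [show c₁ * z₁ * c₁⁻¹ = z₁ by rw [h₁, mul_inv_cancel_right], ψ.map_z, hcq,
        mul_inv_cancel_right]
    · intro a ha b hb ea eb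
      rw [show c₁ * (a * b) * c₁⁻¹ = c₁ * a * c₁⁻¹ * (c₁ * b * c₁⁻¹) by group,
        ψ.map_mul _ (S₁.nrm h₁ ha) _ (S₁.nrm h₁ hb), ea, eb, ψ.map_mul a ha b hb]
      group
    · intro k hk
      refine ⟨lift (dc k), hlift _, hpr _, ?_⟩
      have hk64 : k < 64 := by revert k; decide
      have hB : Bp (dc w.val) (S₁.pr (lift (dc k))) = bz (s k) := by
        rw [hpr, Bp_dc w.isLt hk64]
        simp only [List.mem_cons, List.not_mem_nil, or_false] at hk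
        rcases hk with rfl | rfl | rfl | rfl | rfl | rfl
        exacts [by rw [w1], by rw [w2], by rw [w4], by rw [w8], by rw [w16], by rw [w32]]
      rw [key _ (hlift _), hB]
      by_cases hs : ψ.f (c₁ * lift (dc k) * c₁⁻¹) = c₂ * ψ.f (lift (dc k)) * c₂⁻¹
      · rw [show s k = false from decide_eq_false (fun h => h hs), show bz false = 0 from rfl,
          zp_zero, one_mul, hs]
      · rw [show s k = true from decide_eq_true hs, show bz true = 1 from rfl, zp_one]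
        have hm₁ := ψ.mem _ (S₁.nrm h₁ (hlift (dc k)))
        have hm₂ := S₂.nrm h₂ (ψ.mem _ (hlift (dc k)))
        rcases S₂.pr_eq hm₂ hm₁ (by
          rw [S₂.act_spec _ h₂ _ (ψ.mem _ (hlift _)), ψ.map_pr _ (S₁.nrm h₁ (hlift _)),
            S₁.act_spec _ h₁ _ (hlift _), ψ.map_pr _ (hlift _), e₂]) with e | e
        · exact absurd e hs
        · rw [e, S₂.comm hm₂]
  exact ⟨QuotientGroup.mk ⟨(c₁, c₂ * q), h₁, hcq, hall⟩, rfl⟩

/-- The central involution of the extension. -/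
def eps : ψ.Ext :=
  QuotientGroup.mk ⟨(1, z₂), by simp, rfl, fun a ha => by
    show ψ.f (1 * a * 1⁻¹) = z₂ * ψ.f a * z₂⁻¹
    rw [one_mul, inv_one, mul_one, ← S₂.comm (ψ.mem a ha), mul_inv_cancel_right]⟩

theorem eps_ne : ψ.eps ≠ 1 := fun h => by
  obtain ⟨-, h2⟩ := (QuotientGroup.eq_one_iff _).1 h
  exact S₂.zne (h2.trans ψ.map_one)

theorem eps_central (x : ψ.Ext) : ψ.eps * x = x * ψ.eps := by
  obtain ⟨d, rfl⟩ := QuotientGroup.mk_surjective x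
  exact congrArg QuotientGroup.mk (Subtype.ext (Prod.ext (by simp) d.2.2.1.symm))

theorem eps_sq : ψ.eps * ψ.eps = 1 :=
  congrArg QuotientGroup.mk (Subtype.ext (Prod.ext (one_mul 1) S₂.zz))

theorem proj_eps : ψ.proj ψ.eps = 1 := S₁.act_one

theorem proj_ker {x : ψ.Ext} (h : ψ.proj x = 1) : x = 1 ∨ x = ψ.eps := by
  obtain ⟨d, rfl⟩ := QuotientGroup.mk_surjective x
  rw [proj_mk] at h
  have hq := S₁.act_ker _ d.2.1 h
  have hq' := S₂.act_ker _ d.2.2.1 ((ψ.act_eq d.2).trans h)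
  set n : ↥ψ.pairs := ⟨(d.1.1, ψ.f d.1.1), ψ.graph_mem hq⟩
  have hn : (QuotientGroup.mk n : ψ.Ext) = 1 := (QuotientGroup.eq_one_iff _).2 ⟨hq, rfl⟩
  have hm := mul_mem (inv_mem (ψ.mem _ hq)) hq'
  have hc : ∀ b ∈ oc z₂, b * ((ψ.f d.1.1)⁻¹ * d.1.2) = (ψ.f d.1.1)⁻¹ * d.1.2 * b := by
    intro b hb
    obtain ⟨a, ha, rfl⟩ := ψ.surj hb
    have e := ((ψ.graph_mem hq).2.2 a ha).symm.trans (d.2.2.2 a ha)
    calc ψ.f a * ((ψ.f d.1.1)⁻¹ * d.1.2)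
        = (ψ.f d.1.1)⁻¹ * (ψ.f d.1.1 * ψ.f a * (ψ.f d.1.1)⁻¹) * d.1.2 := by group
      _ = (ψ.f d.1.1)⁻¹ * (d.1.2 * ψ.f a * d.1.2⁻¹) * d.1.2 := by rw [e]
      _ = (ψ.f d.1.1)⁻¹ * d.1.2 * ψ.f a := by group
  have hd : (QuotientGroup.mk d : ψ.Ext) = QuotientGroup.mk (n⁻¹ * d) := by
    rw [QuotientGroup.mk_mul, QuotientGroup.mk_inv, hn, inv_one, one_mul]
  rw [hd]
  rcases S₂.sett.center_cases hm hc with e | e
  · exact Or.inl (congrArg QuotientGroup.mk (Subtype.ext (Prod.ext (inv_mul_cancel _) e)))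
  · exact Or.inr (congrArg QuotientGroup.mk (Subtype.ext (Prod.ext (inv_mul_cancel _) e)))

/-- The lifts of the non-singular Siegel map are involutions. -/
theorem sq_sixteen {x : ψ.Ext} (h : ∀ u, (ψ.proj x).1 u = sg (dc 16) u) : x * x = 1 := by
  obtain ⟨d, rfl⟩ := QuotientGroup.mk_surjective x
  rw [proj_mk] at h
  obtain ⟨w, F⟩ := S₁.exists_fr
  obtain ⟨x₀, hx₀, hx₀z, hx₀v⟩ := exists_sg F (v := dc 16)
    (by rw [Bp_dc (by norm_num) (by norm_num)]; rfl)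
  have hq : x₀⁻¹ * d.1.1 ∈ oc z₁ := S₁.act_ker _ (Commute.mul_left (Commute.inv_left hx₀z) d.2.1).eq
    (by rw [S₁.act_mul (Commute.inv_left hx₀z).eq d.2.1, S₁.act_inv hx₀z,
      ext_oG (g := S₁.act d.1.1) (h := S₁.act x₀) (fun u => by rw [h, hx₀v]), inv_mul_cancel])
  set n : ↥ψ.pairs := ⟨(x₀⁻¹ * d.1.1, ψ.f (x₀⁻¹ * d.1.1)), ψ.graph_mem hq⟩
  have hn : (QuotientGroup.mk n : ψ.Ext) = 1 := (QuotientGroup.eq_one_iff _).2 ⟨hq, rfl⟩
  set e := d * n⁻¹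
  have he₁ : e.1.1 = x₀ := by
    show d.1.1 * (x₀⁻¹ * d.1.1)⁻¹ = x₀
    group
  have hde : (QuotientGroup.mk d : ψ.Ext) = QuotientGroup.mk e := by
    rw [QuotientGroup.mk_mul, QuotientGroup.mk_inv, hn, inv_one, mul_one]
  set y := e.1.2
  have F₂ : S₂.Fr (ψ.f w) := by
    have hp : S₂.pr (ψ.f w) = dc 1 := (ψ.map_pr w F.mem).trans F.pr_eq
    refine ⟨ψ.mem w F.mem, isConj_iff.1 (S₂.conj_of_singular (ψ.mem w F.mem) ?_ ?_), hp⟩
    · rw [hp]; exact dc1_ne_zero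
    · rw [hp, q_dc (by norm_num)]; rfl
  have hx₀sq : x₀ * x₀ = w := (sq_cases F hx₀).resolve_left (sq_nonsingular F hx₀ hx₀z hx₀v)
  have hysq : y * y = ψ.f w := by
    refine sq_eq F₂ e.2.2.1 (fun u => ?_) fun b hb hbe => ?_
    · rw [ψ.act_eq e.2, he₁, hx₀v]
    · obtain ⟨a, ha, rfl⟩ := ψ.surj hb
      rw [ψ.map_pr a ha] at hbe ⊢
      have h1 := e.2.2.2 a ha
      rw [he₁] at h1
      have h2 := congrArg ψ.f (com_eq F hx₀ hx₀z hx₀v ha hbe)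
      rw [ψ.map_mul _ (S₁.nrm hx₀z ha) _ (inv_mem ha), ψ.map_inv ha, h1] at h2
      rw [h2]
      rcases zmod_cases (Bp (S₁.pr a) (dc 16)) with e' | e' <;> rw [e']
      · rw [zp_zero, zp_zero, ψ.map_one]
      · rw [zp_one, zp_one, ψ.map_mul _ F.mem _ S₁.zmem, ψ.map_z]
  rw [hde, ← QuotientGroup.mk_mul, QuotientGroup.eq_one_iff]
  refine ⟨?_, ?_⟩
  · show e.1.1 * e.1.1 ∈ oc z₁
    rw [he₁, hx₀sq]; exact F.mem
  · show e.1.2 * e.1.2 = ψ.f (e.1.1 * e.1.1)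
    rw [he₁, hx₀sq, hysq]

end Match

end Cfsg.Agent.SuzRecog
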