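import Cfsg.Agent.SuzRecog.LocalY

/-!
Relations inside the centraliser of an element of order three without ambiguity: either the power
kills the element, or a tracked element inverting it does.
-/

set_option autoImplicit false

open Cfsg Cfsg.Agent.LargeExtra Cfsg.Agent.SuzType Cfsg.Agent.SuzType.Suz Cfsg.Agent.SuzThree

namespace Cfsg.Agent.SuzRecog

variable {G₁ : Type*} [Group G₁] [Finite G₁] {G₂ : Type*} [Group G₂] [Finite G₂]
  {z₁ w₁ : G₁} {z₂ : G₂} {S₁ : Suz z₁} {S₂ : Suz z₂} {E : G₁ → G₂} {E' : G₂ → G₁} {t₁ : G₁} {t₂ : G₂}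

theorem map_cube (L : Link S₁ S₂ E E' w₁ t₁ t₂) {y : G₁} (hy : IsType S₁ y) :
    E y * (E y * E y) = 1 := by
  rw [← L.comp.map_mul y y hy.yz hy.yz,
    ← L.comp.map_mul y (y * y) hy.yz (Commute.mul_left hy.yz hy.yz).eq,
    show y * (y * y) = y ^ 3 by simp [pow_succ, mul_assoc], hy.y3, L.comp.map_one]

/-- The cube of a word vanishing modulo `y` vanishes. -/
theorem rel_cube (L : Link S₁ S₂ E E' w₁ t₁ t₂) (F : S₁.Fr w₁) {y : G₁} (hy : IsType S₁ y)
    (hyw : y * w₁ = w₁ * y) (hyt : y * t₁ = t₁ * y) (l : List G₁)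
    (hl : ∀ c ∈ l, c * z₁ = z₁ * c ∧ c * y = y * c) {j : ℕ} (hw : mWord t₁ l = y ^ j) :
    gWord E t₂ (List.replicate 3 l).flatten = 1 := by
  obtain ⟨k, -, hk⟩ := local_y L F hy hyw hyt l hl hw
  rw [gWord_pow, hk, ← pow_mul, mul_comm k 3, pow_mul,
    show E y ^ 3 = E y * (E y * E y) by simp [pow_succ, mul_assoc], map_cube L hy, one_pow]

/-- A word trivial in the model vanishes when a tracked element does not commute with `y`. -/
theorem rel_move (L : Link S₁ S₂ E E' w₁ t₁ t₂) (F : S₁.Fr w₁) {y : G₁} (hy : IsType S₁ y)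
    (hyw : y * w₁ = w₁ * y) (hyt : y * t₁ = t₁ * y) (l : List G₁)
    (hl : ∀ c ∈ l, c * z₁ = z₁ * c ∧ c * y = y * c) (hw : mWord t₁ l = 1) {x : G₁}
    (hxz : x * z₁ = z₁ * x) (hxy : x * y ≠ y * x) (hx : Tracked z₁ w₁ t₁ l x) :
    gWord E t₂ l = 1 := by
  obtain ⟨k, hk3, hk⟩ := local_y L F hy hyw hyt l hl (j := 0) (by rw [hw, pow_zero])
  obtain ⟨-, he⟩ := track L l (fun c hc => (hl c hc).1) x hx
  rw [hw, one_mul, inv_one, mul_one, hk] at he
  rcases Nat.eq_zero_or_pos k with rfl | hk0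
  · rw [hk, pow_zero]
  exfalso
  have hc : Commute (E y ^ k) (E x) := mul_inv_eq_iff_eq_mul.1 he
  have h3 : E y ^ 3 = 1 := by
    rw [show E y ^ 3 = E y * (E y * E y) by simp [pow_succ, mul_assoc], map_cube L hy]
  have hc1 : Commute (E y) (E x) := by
    have hcc := hc.pow_left k
    rw [← pow_mul] at hcc
    interval_cases k
    · simpa using hcc
    · rwa [show (2 : ℕ) * 2 = 3 + 1 from rfl, pow_succ, h3, one_mul] at hcc
  refine hxy ?_
  have e := congrArg E' hc1.eq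
  rw [← L.comp.map_mul _ _ hy.yz hxz, ← L.comp.map_mul _ _ hxz hy.yz,
    L.left_inv _ (Commute.mul_left hy.yz hxz).eq, L.left_inv _ (Commute.mul_left hxz hy.yz).eq] at e
  exact e.symm

/-- A power relation and its transform by an element inverting `y` cancel. -/
theorem rel_pair (L : Link S₁ S₂ E E' w₁ t₁ t₂) (F : S₁.Fr w₁) {y : G₁} (hy : IsType S₁ y)
    (hyw : y * w₁ = w₁ * y) (hyt : y * t₁ = t₁ * y) {g : G₁} (hgz : g * z₁ = z₁ * g)
    (hgy : g * y = y * g) (n : ℕ) (hn : mWord t₁ (List.replicate n g) = 1) {x g' : G₁}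
    (hxz : x * z₁ = z₁ * x) (hxw : x * w₁ = w₁ * x) (hxy : x * y * x⁻¹ = y⁻¹)
    (hg' : g' * (t₁ * x * t₁⁻¹) = x * g) :
    gWord E t₂ (List.replicate n g ++ List.replicate n g') = 1 := by
  obtain ⟨k, -, hk⟩ := local_y L F hy hyw hyt (List.replicate n g)
    (fun c hc => by rw [List.eq_of_mem_replicate hc]; exact ⟨hgz, hgy⟩) (j := 0) (by rw [hn, pow_zero])
  obtain ⟨hx', -⟩ := conj_pair L.map_zw L.map_wz hxz hxw
  have hg'' : g' = x * g * (t₁ * x * t₁⁻¹)⁻¹ := eq_mul_inv_iff_mul_eq.2 hg'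
  have hxg : x * g * z₁ = z₁ * (x * g) := (Commute.mul_left hxz hgz).eq
  have hstep : E g' * t₂ = E x * (E g * t₂) * (E x)⁻¹ := by
    rw [hg'', L.comp.map_mul _ _ hxg (Commute.inv_left hx').eq, L.comp.map_mul _ _ hxz hgz,
      L.comp.map_inv hx', ← L.conj x hxz hxw]
    group
  have hinv : E x * E y * (E x)⁻¹ = (E y)⁻¹ := by
    rw [← L.comp.map_conj hxz hy.yz, hxy, L.comp.map_inv hy.yz]
  have hpow : ∀ (c : G₁) (m : ℕ), gWord E t₂ (List.replicate m c) = (E c * t₂) ^ m := by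
    intro c m
    induction m with
    | zero => simp [gWord]
    | succ m ih => rw [List.replicate_succ, gWord, ih, pow_succ']
  rw [gWord_append, hk, hpow, hstep, conj_pow, ← hpow, hk, ← conj_pow, hinv, inv_pow, mul_inv_cancel]

/-- A closed word, rotated to start with the swapper. -/
theorem rotate_rel (L : Link S₁ S₂ E E' w₁ t₁ t₂) (l : List G₁) {c : G₁} (hc : c * z₁ = z₁ * c)
    (h : gWord E t₂ (l ++ [c]) = 1) : gWord E t₂ (1 :: l) = E c⁻¹ := by
  rw [gWord_append] at h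
  simp only [gWord, mul_one] at h
  rw [L.comp.map_inv hc]
  show E 1 * t₂ * gWord E t₂ l = _
  rw [L.comp.map_one, one_mul, eq_inv_of_mul_eq_one_left (a := gWord E t₂ l) (b := E c * t₂) h]
  group

end Cfsg.Agent.SuzRecog
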