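import Cfsg.Agent.SuzRecog.Track
import Cfsg.Agent.SuzThree.Main

/-!
Relations inside the centraliser of an element `y` of order three: both quotients by `⟨y⟩` are
presented by the same relators in the centraliser of `z` and a swapper, so words in the common
centraliser and the swapper vanish modulo `y` together.
-/

set_option autoImplicit false
set_option maxRecDepth 100000

open Cfsg Cfsg.Agent.LargeExtra Cfsg.Agent.SuzType Cfsg.Agent.SuzType.Suz Cfsg.Agent.SuzThree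

namespace Cfsg.Agent.SuzRecog

open U43Type in
/-- An involution whose conjugates multiply with it to elements of order dividing four is conjugate
to the second involution of the four group. -/
theorem fused_index : ((List.range 1152).all fun i =>
    !(hh i i == oI) || (i == oI) || (i == zI) ||
    ((List.range 1152).any fun c =>
      let p := hh (hh (hh c i) (hv (invW (wordOf c)))) i
      let q := hh p p
      !(hh q q == oI)) ||
    ((List.range 1152).any fun c => hh c i == hh (yI false) c)) = true := by decide +kernel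

open U43Type in
theorem index_inv : ((List.range 1152).all fun c =>
    hh c (hv (invW (wordOf c))) == oI && Nat.blt (hv (invW (wordOf c))) 1152) = true := by decide +kernel

variable {G₁ : Type*} [Group G₁] [Finite G₁] {G₂ : Type*} [Group G₂] [Finite G₂]
  {z₁ w₁ : G₁} {z₂ : G₂} {S₁ : Suz z₁} {S₂ : Suz z₂} {E : G₁ → G₂} {E' : G₂ → G₁} {t₁ : G₁} {t₂ : G₂}

theorem exp_four {G : Type*} [Group G] [Finite G] {z : G} (S : Suz z) {a : G} (ha : a ∈ oc z) : a ^ 4 = 1 :=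
  SuzThree.pow_four S ha

theorem pm_self (y : G₁) : pm y y = 1 := by
  rw [pm_def (mem_Cy.2 rfl)]
  exact (QuotientGroup.eq_one_iff _).2 (Subgroup.mem_subgroupOf.2 (Subgroup.mem_zpowers y))

/-- In the quotient by `y`, the second involution is a conjugate of the image of `w`. -/
theorem exists_fused {y : G₁} {S : Suz z₁} (h : Std3 S y) (T : U43Type.Std (pm y z₁))
    (hw : w₁ ∈ oc z₁) (hwy : w₁ * y = y * w₁) (hw2 : w₁ * w₁ = 1) (hw1 : w₁ ≠ 1) (hwz : w₁ ≠ z₁) :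
    ∃ c, c * z₁ = z₁ * c ∧ c * y = y * c ∧ pm y (c * w₁ * c⁻¹) = T.φ (U43Type.yI false) := by
  have hzc := z_Cy h
  have hwc : w₁ ∈ Cy y := mem_Cy.2 hwy
  have hwzc := S.comm hw
  have w4 : w₁ ^ 4 = 1 := exp_four S hw
  obtain ⟨i, hi, ei⟩ := T.φ_surj (pm y w₁) (by rw [← pm_mul hwc hzc, hwzc, pm_mul hzc hwc])
  have hchk := List.all_eq_true.1 fused_index i (List.mem_range.2 hi)
  simp only [Bool.or_eq_true, Bool.not_eq_true', beq_eq_false_iff_ne, beq_iff_eq, List.any_eq_true,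
    List.mem_range] at hchk
  have hii : U43Type.hh i i = U43Type.oI := T.φ_inj _ (T.φ_mul i hi i hi).1 _ U43Type.Std.oI_lt (by
    rw [(T.φ_mul i hi i hi).2, T.φ_one, ei, ← pm_mul hwc hwc, hw2, pm_one])
  rcases hchk with (((e | e) | e) | ⟨c, hc, e⟩) | ⟨c, hc, e⟩
  · exact absurd hii e
  · rw [e, T.φ_one] at ei
    exact absurd (two_part_eq h hwc (one_mem _) w4 (one_pow 4) (ei.symm.trans (pm_one y).symm)) hw1
  · rw [e, T.φ_z] at ei
    exact absurd (two_part_eq h hwc hzc w4 (z_four h) ei.symm) hwz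
  · exfalso
    obtain ⟨a, hay, haz, ea⟩ := lift_cent h (T.φ_cen c hc)
    have hinv := List.all_eq_true.1 index_inv c (List.mem_range.2 hc)
    simp only [Bool.and_eq_true, beq_iff_eq] at hinv
    obtain ⟨hci, hcl⟩ := hinv
    have hcl' := Nat.ble_eq.mp hcl
    obtain ⟨ci, hcie⟩ : ∃ ci, ci = U43Type.hv (U43Type.invW (U43Type.wordOf c)) := ⟨_, rfl⟩
    rw [← hcie] at hci hcl' e
    have eci : T.φ ci = (T.φ c)⁻¹ :=
      eq_inv_of_mul_eq_one_right (by rw [← (T.φ_mul c hc ci hcl').2, hci, T.φ_one])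
    set q := a * w₁ * a⁻¹ * w₁
    have hq : q ∈ oc z₁ := mul_mem (S.nrm haz hw) hw
    have hqy : q ∈ Cy y := mul_mem (mul_mem (mul_mem hay hwc) (inv_mem hay)) hwc
    obtain ⟨l1, e1⟩ := T.φ_mul c hc i hi
    obtain ⟨l2, e2⟩ := T.φ_mul _ l1 ci hcl'
    obtain ⟨l3, e3⟩ := T.φ_mul _ l2 i hi
    obtain ⟨l4, e4⟩ := T.φ_mul _ l3 _ l3
    obtain ⟨l5, e5⟩ := T.φ_mul _ l4 _ l4
    refine e (T.φ_inj _ l5 _ U43Type.Std.oI_lt ?_)
    rw [e5, e4, e3, e2, e1, eci, ei, ← ea, ← pm_inv hay, T.φ_one,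
      ← pm_mul hay hwc, ← pm_mul (mul_mem hay hwc) (inv_mem hay),
      ← pm_mul (mul_mem (mul_mem hay hwc) (inv_mem hay)) hwc, ← pm_mul hqy hqy,
      ← pm_mul (mul_mem hqy hqy) (mul_mem hqy hqy), show q * q * (q * q) = q ^ 4 by simp [pow_succ, mul_assoc], exp_four S hq, pm_one]
  · obtain ⟨a, hay, haz, ea⟩ := lift_cent h (T.φ_cen c hc)
    refine ⟨a, haz, mem_Cy.1 hay, ?_⟩
    have hy : U43Type.yI false < 1152 := by decide +kernel
    rw [pm_mul (mul_mem hay hwc) (inv_mem hay), pm_mul hay hwc, pm_inv hay, ea, ← ei, mul_inv_eq_iff_eq_mul,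
      ← (T.φ_mul c hc i hi).2, ← (T.φ_mul _ hy c hc).2, e]

theorem psi_swap {H : Type*} [Group H] [Finite H] {zz : H} (U : U43Type.Std zz) :
    U.psi (U43Type.pVal [8]) = U.t := by
  rw [U.psi_pVal, U.val_cons, U.letter_t (by norm_num) (by norm_num)]
  exact mul_one _

/-- Words of the centraliser of `y` in the swapper vanish modulo `y` together. -/
theorem local_y (L : Link S₁ S₂ E E' w₁ t₁ t₂) (F : S₁.Fr w₁) {y : G₁} (hy : IsType S₁ y)
    (hyw : y * w₁ = w₁ * y) (hyt : y * t₁ = t₁ * y) (l : List G₁)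
    (hl : ∀ c ∈ l, c * z₁ = z₁ * c ∧ c * y = y * c) {j : ℕ} (hw : mWord t₁ l = y ^ j) :
    ∃ k : ℕ, k < 3 ∧ gWord E t₂ l = E y ^ k := by
  classical
  have hE := L.comp
  obtain ⟨S₁', hS₁'⟩ := exists_standard S₁ hy
  have h₁ : Std3 S₁' y := ⟨hy.yz, hy.y3, hS₁'⟩
  have hpow : ∀ n : ℕ, E (y ^ n) = E y ^ n := by
    intro n
    induction n with
    | zero => rw [pow_zero, pow_zero, hE.map_one]
    | succ n ih => rw [pow_succ, pow_succ, hE.map_mul _ _ (Commute.pow_left hy.yz n).eq hy.yz, ih]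
  set y₂ := E y with hy₂
  have hy' : IsType S₂ y₂ :=
    ⟨hE.comm y hy.yz, by rw [← hpow, hy.y3, hE.map_one],
      fun e => hy.ne (by rw [← L.left_inv y hy.yz, ← hy₂, e, L.comp'.map_one]),
      by rw [hE.map_act y hy.yz]; exact hy.fix⟩
  obtain ⟨S₂', hS₂'⟩ := exists_standard S₂ hy'
  have h₂ : Std3 S₂' y₂ := ⟨hy'.yz, hy'.y3, hS₂'⟩
  obtain ⟨T⟩ := exists_u43 h₁
  have hwc := S₁.comm F.mem
  obtain ⟨c, hcz, hcy, hcx⟩ := exists_fused h₁ T F.mem hyw.symm (ww F) (wne F) (w_ne_z F)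
  set x := c * w₁ * c⁻¹ with hx
  have hxoc : x ∈ oc z₁ := S₁.nrm hcz F.mem
  have hxy : x ∈ Cy y := mul_mem (mul_mem (mem_Cy.2 hcy) (mem_Cy.2 hyw.symm)) (inv_mem (mem_Cy.2 hcy))
  have hxz := S₁.comm hxoc
  have hzy := z_Cy h₁
  have hTt : T.t⁻¹ = T.t := inv_eq_of_mul_eq_one_right T.t_sq
  obtain ⟨a, ha, hat⟩ := pm_surj T.t
  -- the lifted swapper moves `z` to `x` and back
  have hzI : U43Type.zI ∈ U43Type.t0List ∧ U43Type.fmap U43Type.imgList U43Type.zI = U43Type.yI false :=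
    ⟨U43Type.fmap_zI.2.1, U43Type.fmap_zI.1⟩
  have htz : T.t * pm y z₁ * T.t = pm y x := by
    have := (T.t_act _ hzI.1).2
    rwa [T.φ_z, hzI.2, ← hcx] at this
  have haz : a * z₁ * a⁻¹ = x := by
    refine two_part_eq h₁ (mul_mem (mul_mem ha hzy) (inv_mem ha)) hxy ?_ (exp_four S₁ hxoc) ?_
    · rw [conj_pow, exp_four S₁ S₁.zmem]; group
    · rw [pm_mul (mul_mem ha hzy) (inv_mem ha), pm_mul ha hzy, pm_inv ha, hat, hTt, htz]
  have hax : a * x * a⁻¹ = z₁ := by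
    refine two_part_eq h₁ (mul_mem (mul_mem ha hxy) (inv_mem ha)) hzy ?_ (z_four h₁) ?_
    · rw [conj_pow, exp_four S₁ hxoc]; group
    · rw [pm_mul (mul_mem ha hxy) (inv_mem ha), pm_mul ha hxy, pm_inv ha, hat, hTt, ← htz]
      calc T.t * (T.t * pm y z₁ * T.t) * T.t = T.t * T.t * pm y z₁ * (T.t * T.t) := by group
        _ = pm y z₁ := by rw [T.t_sq, one_mul, mul_one]
  set d := c⁻¹ * a * c * t₁⁻¹ with hd
  have ht₁z : t₁⁻¹ * z₁ * t₁ = w₁ := by
    calc t₁⁻¹ * z₁ * t₁ = t₁⁻¹ * (t₁ * w₁ * t₁⁻¹) * t₁ := by rw [L.map_wz]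
      _ = w₁ := by group
  have ht₁w : t₁⁻¹ * w₁ * t₁ = z₁ := by
    calc t₁⁻¹ * w₁ * t₁ = t₁⁻¹ * (t₁ * z₁ * t₁⁻¹) * t₁ := by rw [L.map_zw]
      _ = z₁ := by group
  have hcz' : c⁻¹ * z₁ * c = z₁ := by rw [mul_assoc, ← hcz, inv_mul_cancel_left]
  have hdz : d * z₁ = z₁ * d := by
    refine mul_inv_eq_iff_eq_mul.1 ?_
    calc d * z₁ * d⁻¹ = c⁻¹ * a * c * (t₁⁻¹ * z₁ * t₁) * c⁻¹ * a⁻¹ * c := by rw [hd]; group
      _ = c⁻¹ * (a * x * a⁻¹) * c := by rw [ht₁z, hx]; group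
      _ = z₁ := by rw [hax, hcz']
  have hdw : d * w₁ = w₁ * d := by
    refine mul_inv_eq_iff_eq_mul.1 ?_
    calc d * w₁ * d⁻¹ = c⁻¹ * a * c * (t₁⁻¹ * w₁ * t₁) * c⁻¹ * a⁻¹ * c := by rw [hd]; group
      _ = c⁻¹ * a * (c * z₁ * c⁻¹) * a⁻¹ * c := by rw [ht₁w]; group
      _ = c⁻¹ * (a * z₁ * a⁻¹) * c := by rw [hcz, mul_inv_cancel_right]; group
      _ = w₁ := by rw [haz, hx]; group
  have hty : t₁ ∈ Cy y := mem_Cy.2 hyt.symm
  have hdy : d ∈ Cy y :=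
    mul_mem (mul_mem (mul_mem (inv_mem (mem_Cy.2 hcy)) ha) (mem_Cy.2 hcy)) (inv_mem hty)
  have had : a = c * (d * t₁) * c⁻¹ := by rw [hd]; group
  -- the side in the second group
  set s := E c * (E d * t₂) * (E c)⁻¹ with hs
  have hEy : ∀ {g}, g * z₁ = z₁ * g → g ∈ Cy y → E g ∈ Cy y₂ := fun {g} hg hg' =>
    mem_Cy.2 (hE.map_comm hg hy.yz (mem_Cy.1 hg'))
  have hty₂ : t₂ ∈ Cy y₂ := by
    refine mem_Cy.2 (mul_inv_eq_iff_eq_mul.1 ?_)
    rw [hy₂, L.conj y hy.yz hyw, show t₁ * y * t₁⁻¹ = y by rw [← hyt, mul_inv_cancel_right]]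
  have hsy : s ∈ Cy y₂ :=
    mul_mem (mul_mem (hEy hcz (mem_Cy.2 hcy)) (mul_mem (hEy hdz hdy) hty₂)) (inv_mem (hEy hcz (mem_Cy.2 hcy)))
  have hkey : ∀ g, g * z₁ = z₁ * g → g * x = x * g →
      a * g * a⁻¹ * z₁ = z₁ * (a * g * a⁻¹) ∧ s * E g * s⁻¹ = E (a * g * a⁻¹) := by
    intro g hgz hgx
    set g' := c⁻¹ * g * c with hg'
    have h1 : g' * z₁ = z₁ * g' :=
      ((Commute.mul_left (Commute.inv_left hcz) hgz).mul_left hcz).eq
    have h2 : g' * w₁ = w₁ * g' := by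
      calc g' * w₁ = c⁻¹ * (g * x) * c := by rw [hg', hx]; group
        _ = w₁ * g' := by rw [hgx, hg', hx]; group
    obtain ⟨h3, -⟩ := conj_pair L.map_zw L.map_wz h1 h2
    have h4 : d * (t₁ * g' * t₁⁻¹) * d⁻¹ * z₁ = z₁ * (d * (t₁ * g' * t₁⁻¹) * d⁻¹) :=
      ((Commute.mul_left hdz h3).mul_left (Commute.inv_left hdz)).eq
    have e1 : a * g * a⁻¹ = c * (d * (t₁ * g' * t₁⁻¹) * d⁻¹) * c⁻¹ := by rw [had, hg']; group
    refine ⟨e1 ▸ ((Commute.mul_left hcz h4).mul_left (Commute.inv_left hcz)).eq, ?_⟩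
    rw [e1, hE.map_conj hcz h4, hE.map_conj hdz h3, ← L.conj g' h1 h2,
      show g' = c⁻¹ * g * (c⁻¹)⁻¹ by rw [inv_inv], hE.map_conj (Commute.inv_left hcz).eq hgz, hE.map_inv hcz, hs]
    group
  -- well-defined images
  let φ : ℕ → My y₂ := fun i => if hi : i < 1152 then
    pm y₂ (E (lift_cent h₁ (T.φ_cen i hi)).choose) else 1
  have hwd : ∀ g g', g * z₁ = z₁ * g → g ∈ Cy y → g' * z₁ = z₁ * g' → g' ∈ Cy y →
      pm y g = pm y g' → pm y₂ (E g) = pm y₂ (E g') := by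
    intro g g' hg hgy hg' hgy' e
    obtain ⟨n, -, rfl⟩ := pm_eq hgy hgy' hy.y3 e
    rw [hE.map_mul _ _ hg (Commute.pow_left hy.yz n).eq, hpow,
      pm_mul (hEy hg hgy) (pow_mem (mem_Cy.2 rfl) n), pm_pow (mem_Cy.2 rfl) n, pm_self, one_pow, mul_one]
  have hφ : ∀ i, i < 1152 → ∀ g, g * z₁ = z₁ * g → g ∈ Cy y → pm y g = T.φ i → φ i = pm y₂ (E g) := by
    intro i hi g hg hgy e
    obtain ⟨h1, h2, h3⟩ := (lift_cent h₁ (T.φ_cen i hi)).choose_spec
    show dite _ _ _ = _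
    rw [dif_pos hi]
    exact hwd _ _ h2 h1 hg hgy (h3.trans e.symm)
  have hlift : ∀ i, i < 1152 → ∃ g, g * z₁ = z₁ * g ∧ g ∈ Cy y ∧ pm y g = T.φ i ∧ φ i = pm y₂ (E g) := by
    intro i hi
    obtain ⟨g, h1, h2, h3⟩ := lift_cent h₁ (T.φ_cen i hi)
    exact ⟨g, h2, h1, h3, hφ i hi g h2 h1 h3⟩
  have hzI' : U43Type.zI < 1152 := by decide +kernel
  have hyI : U43Type.yI false < 1152 := by decide +kernel
  have φyI : φ (U43Type.yI false) = pm y₂ (E x) := hφ _ hyI x hxz hxy hcx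
  let B : U43Type.Base (pm y₂ z₂) :=
    { φ := φ
      φ_mul := fun i hi k hk => by
        refine ⟨(T.φ_mul i hi k hk).1, ?_⟩
        obtain ⟨g, g1, g2, g3, g4⟩ := hlift i hi
        obtain ⟨g', g1', g2', g3', g4'⟩ := hlift k hk
        rw [hφ _ (T.φ_mul i hi k hk).1 (g * g') (Commute.mul_left g1 g1').eq (mul_mem g2 g2')
          (by rw [pm_mul g2 g2', g3, g3', (T.φ_mul i hi k hk).2]), hE.map_mul g g' g1 g1',
          pm_mul (hEy g1 g2) (hEy g1' g2'), ← g4, ← g4']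
      φ_inj := fun i hi k hk e => by
        obtain ⟨g, g1, g2, g3, g4⟩ := hlift i hi
        obtain ⟨g', g1', g2', g3', g4'⟩ := hlift k hk
        rw [g4, g4'] at e
        obtain ⟨n, -, hn⟩ := pm_eq (hEy g1 g2) (hEy g1' g2') hy'.y3 e
        have hgg : g' = g * y ^ n := by
          have h5 := congrArg E' hn
          rwa [hy₂, ← hpow, ← hE.map_mul _ _ g1 (Commute.pow_left hy.yz n).eq, L.left_inv _ g1',
            L.left_inv _ (Commute.mul_left g1 (Commute.pow_left hy.yz n)).eq] at h5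
        refine T.φ_inj i hi k hk ?_
        rw [← g3, ← g3', hgg, pm_mul g2 (pow_mem (mem_Cy.2 rfl) n), pm_pow (mem_Cy.2 rfl) n, pm_self, one_pow,
          mul_one]
      φ_surj := fun m hm => by
        obtain ⟨b, hby, hbz, rfl⟩ := lift_cent h₂ hm
        set g := E' b
        have g1 : g * z₁ = z₁ * g := L.comp'.comm b hbz
        have g2 : g ∈ Cy y := mem_Cy.2 (by
          have h5 := L.comp'.map_comm hbz hy'.yz (mem_Cy.1 hby)
          rwa [hy₂, L.left_inv y hy.yz] at h5)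
        obtain ⟨i, hi, ei⟩ := T.φ_surj (pm y g) (by rw [← pm_mul g2 hzy, g1, pm_mul hzy g2])
        exact ⟨i, hi, by rw [hφ i hi g g1 g2 ei.symm, L.right_inv b hbz]⟩
      φ_cen := fun i hi => by
        obtain ⟨g, g1, g2, -, g4⟩ := hlift i hi
        rw [g4, ← pm_mul (hEy g1 g2) (z_Cy h₂), hE.comm g g1, pm_mul (z_Cy h₂) (hEy g1 g2)]
      φ_one := by
        rw [hφ _ U43Type.Std.oI_lt 1 (by simp) (one_mem _) (by rw [pm_one, T.φ_one]), hE.map_one, pm_one]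
      φ_z := by rw [hφ _ hzI' z₁ rfl hzy T.φ_z.symm, hE.map_z]
      φ_zy := by
        have hzyI : U43Type.zyI false < 1152 := by decide +kernel
        rw [hφ _ hzyI (z₁ * x) (Commute.mul_left (Commute.refl z₁) hxz).eq (mul_mem hzy hxy)
          (by rw [pm_mul hzy hxy, hcx, T.φ_zy]), hE.map_mul _ _ rfl hxz, hE.map_z, φyI,
          pm_mul (z_Cy h₂) (hEy hxz hxy)]
      zsq := zbar_sq h₂
      zne := zbar_ne h₂ }
  have hdd : d * t₁ * (d * t₁) * z₁ = z₁ * (d * t₁ * (d * t₁)) := by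
    refine mul_inv_eq_iff_eq_mul.1 ?_
    calc d * t₁ * (d * t₁) * z₁ * (d * t₁ * (d * t₁))⁻¹
        = c⁻¹ * (a * (a * (c * z₁ * c⁻¹) * a⁻¹) * a⁻¹) * c := by rw [had]; group
      _ = z₁ := by rw [hcz, mul_inv_cancel_right, haz, hax, hcz']
  obtain ⟨hd', hd'w⟩ := conj_pair L.map_zw L.map_wz hdz hdw
  have hs2 : s * s = E (a * a) := by
    have ht2z : t₁ * t₁ * z₁ = z₁ * (t₁ * t₁) := by
      refine mul_inv_eq_iff_eq_mul.1 ?_
      calc t₁ * t₁ * z₁ * (t₁ * t₁)⁻¹ = t₁ * (t₁ * z₁ * t₁⁻¹) * t₁⁻¹ := by group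
        _ = z₁ := by rw [L.map_zw, L.map_wz]
    have e1 : d * t₁ * (d * t₁) = d * (t₁ * d * t₁⁻¹) * (t₁ * t₁) := by group
    have e2 : E (d * t₁ * (d * t₁)) = E d * t₂ * (E d * t₂) := by
      rw [e1, hE.map_mul _ _ (Commute.mul_left hdz hd').eq ht2z, hE.map_mul _ _ hdz hd', ← L.conj d hdz hdw,
        ← L.sq]
      group
    have e3 : a * a = c * (d * t₁ * (d * t₁)) * c⁻¹ := by rw [had]; group
    rw [e3, hE.map_conj hcz hdd, e2, hs]
    group
  have haaz : a * a * z₁ = z₁ * (a * a) := by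
    refine mul_inv_eq_iff_eq_mul.1 ?_
    calc a * a * z₁ * (a * a)⁻¹ = a * (a * z₁ * a⁻¹) * a⁻¹ := by group
      _ = z₁ := by rw [haz, hax]
  have hs2' : pm y₂ s * pm y₂ s = 1 := by
    rw [← pm_mul hsy hsy, hs2, hwd (a * a) 1 haaz (mul_mem ha ha) (by simp) (one_mem _)
      (by rw [pm_mul ha ha, hat, T.t_sq, pm_one]), hE.map_one, pm_one]
  have hsinv : (pm y₂ s)⁻¹ = pm y₂ s := inv_eq_of_mul_eq_one_right hs2'
  let T₂ : U43Type.Std (pm y₂ z₂) :=
    { toBase := B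
      t := pm y₂ s
      t_sq := hs2'
      t_act := fun i hi => by
        obtain ⟨li, hcomm⟩ := T.toBase.t0_props hi
        refine ⟨(T.t_act i hi).1, ?_⟩
        obtain ⟨g, g1, g2, g3, g4⟩ := hlift i li
        have hgx : g * x = x * g := by
          refine mul_inv_eq_iff_eq_mul.1 (two_part_eq h₁ (mul_mem (mul_mem g2 hxy) (inv_mem g2)) hxy ?_
            (exp_four S₁ hxoc) ?_)
          · rw [conj_pow, exp_four S₁ hxoc]; group
          · rw [pm_mul (mul_mem g2 hxy) (inv_mem g2), pm_mul g2 hxy, pm_inv g2, g3, hcx, hcomm,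
              mul_inv_cancel_right]
        obtain ⟨k1, k2⟩ := hkey g g1 hgx
        show pm y₂ s * φ i * pm y₂ s = φ (U43Type.fmap U43Type.imgList i)
        rw [hφ _ (T.t_act i hi).1 (a * g * a⁻¹) k1 (mul_mem (mul_mem ha g2) (inv_mem ha))
          (by rw [pm_mul (mul_mem ha g2) (inv_mem ha), pm_mul ha g2, pm_inv ha, g3, hat, hTt, (T.t_act i hi).2]),
          ← k2, g4, pm_mul (mul_mem hsy (hEy g1 g2)) (inv_mem hsy), pm_mul hsy (hEy g1 g2), pm_inv hsy, hsinv] }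
  -- the comparison in the presented group
  have hlet : ∀ g, g * z₁ = z₁ * g → g ∈ Cy y → ∃ u : U43Type.PGrp, T.psi u = pm y g ∧ T₂.psi u = pm y₂ (E g) := by
    intro g g1 g2
    obtain ⟨i, hi, ei⟩ := T.φ_surj (pm y g) (by rw [← pm_mul g2 hzy, g1, pm_mul hzy g2])
    have hw' := List.all_eq_true.1 U43Type.wordOf_ok i (List.mem_range.2 hi)
    simp only [Bool.and_eq_true, beq_iff_eq] at hw'
    refine ⟨U43Type.pVal (U43Type.wordOf i), ?_, ?_⟩
    · rw [T.psi_pVal, (T.val_H hw'.1).2, hw'.2, ei]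
    · rw [T₂.psi_pVal, (T₂.val_H hw'.1).2, hw'.2]
      exact hφ i hi g g1 g2 ei.symm
  obtain ⟨uc, uc1, uc2⟩ := hlet c hcz (mem_Cy.2 hcy)
  obtain ⟨ud, ud1, ud2⟩ := hlet d hdz hdy
  set ut := ud⁻¹ * (uc⁻¹ * U43Type.pVal [8] * uc) with hut
  have ut1 : T.psi ut = pm y t₁ := by
    have hc' := mem_Cy.2 hcy
    rw [hut]
    rw [map_mul, map_inv, map_mul, map_mul, map_inv, psi_swap T, uc1, ud1, ← hat, ← pm_inv hdy, ← pm_inv hc']
    rw [← pm_mul (inv_mem hc') ha, ← pm_mul (mul_mem (inv_mem hc') ha) hc',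
      ← pm_mul (inv_mem hdy) (mul_mem (mul_mem (inv_mem hc') ha) hc')]
    congr 1
    rw [hd]; group
  have ut2 : T₂.psi ut = pm y₂ t₂ := by
    have hc' := hEy hcz (mem_Cy.2 hcy)
    have hd'' := hEy hdz hdy
    rw [hut]
    rw [map_mul, map_inv, map_mul, map_mul, map_inv, psi_swap T₂, uc2, ud2, ← pm_inv hd'', ← pm_inv hc']
    show _ * (_ * pm y₂ s * _) = _
    rw [← pm_mul (inv_mem hc') hsy, ← pm_mul (mul_mem (inv_mem hc') hsy) hc',
      ← pm_mul (inv_mem hd'') (mul_mem (mul_mem (inv_mem hc') hsy) hc')]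
    congr 1
    rw [hs]; group
  have hall : ∀ l : List G₁, (∀ c ∈ l, c * z₁ = z₁ * c ∧ c * y = y * c) →
      mWord t₁ l ∈ Cy y ∧ gWord E t₂ l ∈ Cy y₂ ∧
        ∃ u, T.psi u = pm y (mWord t₁ l) ∧ T₂.psi u = pm y₂ (gWord E t₂ l) := by
    intro l
    induction l with
    | nil => exact fun _ => ⟨one_mem _, one_mem _, 1, by simp [mWord, pm_one], by simp [gWord, pm_one]⟩
    | cons g l ih =>
      intro hl
      obtain ⟨m1, m2, u, u1, u2⟩ := ih fun b hb => hl b (List.mem_cons_of_mem _ hb)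
      obtain ⟨g1, g2⟩ := hl g (by simp)
      have g2' := mem_Cy.2 g2
      have g3 := hEy g1 g2'
      obtain ⟨v, v1, v2⟩ := hlet g g1 g2'
      refine ⟨mul_mem (mul_mem g2' hty) m1, mul_mem (mul_mem g3 hty₂) m2, v * ut * u, ?_, ?_⟩
      · rw [map_mul, map_mul, v1, ut1, u1, ← pm_mul g2' hty, ← pm_mul (mul_mem g2' hty) m1]; rfl
      · rw [map_mul, map_mul, v2, ut2, u2, ← pm_mul g3 hty₂, ← pm_mul (mul_mem g3 hty₂) m2]; rfl
  obtain ⟨m1, m2, u, u1, u2⟩ := hall l hl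
  rw [hw, pm_pow (mem_Cy.2 rfl) j, pm_self, one_pow] at u1
  obtain rfl : u = 1 := T.psi_injective (by rw [u1, map_one])
  rw [map_one] at u2
  obtain ⟨k, hk, e⟩ := pm_eq (one_mem _) m2 hy'.y3 ((pm_one y₂).trans u2)
  exact ⟨k, hk, by rw [e, one_mul]⟩

end Cfsg.Agent.SuzRecog
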