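import Cfsg.Agent.SuzRecog.CModel

/-!
The centraliser and the swapper generate the model.
-/

set_option autoImplicit false
set_option maxRecDepth 100000

namespace Cfsg.Agent.SuzRecog.MS

open Cfsg Cfsg.Agent.Compute Cfsg.Agent.StemCert

/-- Words for the presented generators. -/
noncomputable def genWords : List (List ℕ) := [[3,8,6,0,8,7,9], [1,20,3,20,1,4,20,3,20,4,20,3,8,6,0,8,7,9], [1,7,1,7,1,0,6,0,7,8], [7,7,7,10,11], [0], [1,8,1,8,1,8,1,8], [7,7]]

/-- A word is in the letters of the centraliser and of the swapper and gives the generator. -/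
noncomputable def genB (i : ℕ) : Bool :=
  forceN i fun i => allB (fun s => Nat.blt s Data.nC || Nat.beq s Data.tL) (genWords.getD i []) &&
    allB (fun t => Nat.blt t 7) ((genWords.getD i []).flatMap fun s => Data.letters.getD s []) &&
    eqOn 11 SuzOut.Data.baseCodes SuzOut.Data.mainBase
      ((genWords.getD i []).flatMap fun s => Data.letters.getD s []) [i]

theorem gen_ok : allBelow 7 genB = true := by decide +kernel

theorem evalW_gen_flatMap : ∀ w : List ℕ,
    evalW gen w = evalW SuzOut.baseGen (w.flatMap fun s => Data.letters.getD s [])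
  | [] => rfl
  | a :: w => by rw [evalW_cons, List.flatMap_cons, evalW_append, evalW_gen_flatMap w]; rfl

/-- The centraliser and the swapper generate. -/
theorem closure_CM_tE [Finite Spor.Suz] :
    Subgroup.closure ((CM : Set Spor.Suz) ∪ {tE}) = ⊤ := by
  rw [eq_top_iff, ← PresentedGroup.closure_range_of, Subgroup.closure_le]
  rintro _ ⟨x, rfl⟩
  obtain ⟨i, hi, rfl⟩ : ∃ i < 7, (CosetCert.SuzG24.dec i).1 = x :=
    ⟨CosetCert.SuzG24.enc x, by cases x <;> decide, by cases x <;> rfl⟩
  have h := allBelow_eq_true.mp gen_ok i hi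
  simp only [genB, forceN_eq, Bool.and_eq_true] at h
  have hl : ∀ s ∈ [i], s < 7 := fun s hs => List.mem_singleton.1 hs ▸ hi
  have e : evalW gen (genWords.getD i []) = PresentedGroup.of (CosetCert.SuzG24.dec i).1 := by
    rw [evalW_gen_flatMap, eq_of_eqOn SuzOut.coded_base SuzOut.base_isBase
      (fun s hs => Nat.blt_eq.mp (allB_spec h.1.2 s hs)) hl h.2]
    simp [evalW, SuzOut.baseGen]
  rw [← e]
  refine list_prod_mem fun y hy => ?_
  obtain ⟨s, hs, rfl⟩ := List.mem_map.mp hy
  have hm := allB_spec h.1.1 s hs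
  simp only [Bool.or_eq_true, Nat.blt_eq, Nat.beq_eq] at hm
  rcases hm with hm | rfl
  · exact Subgroup.subset_closure (Or.inl (gen_mem_CM hm))
  · exact Subgroup.subset_closure (Or.inr rfl)

end Cfsg.Agent.SuzRecog.MS
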