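import Cfsg.Agent.SuzRecog.Transport

/-!
A setting at a given involution of the presented group, recognised from lists of elements.
-/

set_option autoImplicit false

open Cfsg Cfsg.Agent.LargeExtra Cfsg.Agent.SuzType Cfsg.Agent.SuzType.Suz

namespace Cfsg.Agent.SuzRecog

variable {R : Type*} [Group R]

/-- A list containing `1`, closed under the generators, is the subgroup they generate. -/
theorem mem_closure_iff_list [Finite R] {S : Set R} {n : ℕ} (f : Fin n → R) (h1 : ∃ i, f i = 1)
    (hcl : ∀ i, ∀ q ∈ S, ∃ j, f i * q = f j) (hf : ∀ i, f i ∈ Subgroup.closure S) (x : R) :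
    x ∈ Subgroup.closure S ↔ ∃ i, f i = x := by
  refine ⟨fun hx => ?_, fun ⟨i, hi⟩ => hi ▸ hf i⟩
  have hx' : x ∈ Submonoid.closure S := by
    rw [← Subgroup.closure_toSubmonoid_of_finite]; exact hx
  suffices ∀ i, ∃ j, f i * x = f j by
    obtain ⟨i, hi⟩ := h1
    obtain ⟨j, hj⟩ := this i
    exact ⟨j, by rw [← hj, hi, one_mul]⟩
  clear hx
  induction hx' using Submonoid.closure_induction with
  | mem q hq => exact fun i => hcl i q hq
  | one => exact fun i => ⟨i, mul_one _⟩
  | mul a b _ _ iha ihb =>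
    intro i
    obtain ⟨j, hj⟩ := iha i
    obtain ⟨k, hk⟩ := ihb j
    exact ⟨k, by rw [← mul_assoc, hj, hk]⟩

/-- The facts to be checked in the model. -/
structure SettingData (z w t g : Spor.Suz) (cs qs : Set Spor.Suz) (f : Fin 128 → Spor.Suz) : Prop where
  ord : orderOf z = 2
  cs_comm : ∀ c ∈ cs, c * z = z * c
  cs_card : 3317760 ≤ Nat.card ↥(Subgroup.closure cs)
  f_one : ∃ i, f i = 1
  f_inj : Function.Injective f
  f_closed : ∀ i, ∀ q ∈ qs, ∃ j, f i * q = f j
  f_mem : ∀ i, f i ∈ Subgroup.closure qs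
  qs_comm : ∀ q ∈ qs, q * z = z * q
  norm : ∀ c ∈ cs, ∀ q ∈ qs, ∃ j, c * q * c⁻¹ = f j
  w_mem : ∃ j, f j = w
  frame : ∀ i, f i * f i = 1 → f i ≠ 1 → f i ≠ z →
    ∃ c ∈ Subgroup.closure cs, c * f i * c⁻¹ = w
  g_conj : g * z * g⁻¹ = w * z
  t_mem : ∃ j, g⁻¹ * t * g = f j

/-- The setting, its frame, the swapper and the centraliser. -/
theorem setting_of_data {u v s s' z w t g : Spor.Suz} {cs qs : Set Spor.Suz}
    {f : Fin 128 → Spor.Suz} (F : InvolFacts u v s s') [Finite Spor.Suz]
    (d : SettingData z w t g cs qs f) :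
    (∃ S : SuzType.Suz z, S.Fr w) ∧ t ∈ oc (w * z) ∧
      Subgroup.closure cs = Subgroup.centralizer ({z} : Set Spor.Suz) ∧
      oc z = Subgroup.closure qs := by
  have hle : Subgroup.closure cs ≤ Subgroup.centralizer ({z} : Set Spor.Suz) :=
    (Subgroup.closure_le _).2 fun c hc => Subgroup.mem_centralizer_singleton_iff.2 (d.cs_comm c hc)
  have hs : IsConj s z := (F.classes z d.ord).resolve_left fun hu => by
    obtain ⟨p, hp⟩ := isConj_iff.1 hu
    have h1 : Nat.card ↥(Subgroup.centralizer ({u} : Set Spor.Suz)) =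
        Nat.card ↥(Subgroup.centralizer ({z} : Set Spor.Suz)) := by
      rw [← hp, ← MulAut.conj_apply, ← map_centralizer_singleton (MulAut.conj p) u]
      exact Nat.card_congr (Subgroup.equivMapOfInjective _ _ (MulAut.conj p).injective).toEquiv
    have h2 := Nat.le_of_dvd (by norm_num) F.card_dvd
    have h3 := Nat.le_of_dvd Nat.card_pos (Subgroup.card_dvd_of_le hle)
    have h4 := d.cs_card
    omega
  obtain ⟨-, ⟨S⟩⟩ := exists_setting_of_conj F hs
  have hC : Subgroup.closure cs = Subgroup.centralizer ({z} : Set Spor.Suz) :=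
    Subgroup.eq_of_le_of_card_ge hle (by rw [card_centralizer S]; exact d.cs_card)
  have hmem := mem_closure_iff_list f d.f_one d.f_closed d.f_mem
  have hQle : Subgroup.closure qs ≤ Subgroup.centralizer ({z} : Set Spor.Suz) :=
    (Subgroup.closure_le _).2 fun q hq => Subgroup.mem_centralizer_singleton_iff.2 (d.qs_comm q hq)
  have hcard : Nat.card ↥(Subgroup.closure qs) = 2 ^ 7 := by
    rw [show 2 ^ 7 = Nat.card (Fin 128) by rw [Nat.card_fin]; rfl]
    refine (Nat.card_congr (Equiv.ofBijective (fun i => (⟨f i, d.f_mem i⟩ : ↥(Subgroup.closure qs)))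
      ⟨fun a b e => d.f_inj (congrArg Subtype.val e), fun x => ?_⟩)).symm
    obtain ⟨i, hi⟩ := (hmem _).1 x.2
    exact ⟨i, Subtype.ext hi⟩
  have hnorm : Subgroup.closure cs ≤ Subgroup.normalizer ((Subgroup.closure qs : Subgroup Spor.Suz) : Set Spor.Suz) := by
    rw [Subgroup.closure_le]
    intro c hc
    have key : ∀ a ∈ Subgroup.closure qs, c * a * c⁻¹ ∈ Subgroup.closure qs := by
      have h : Subgroup.closure qs ≤ (Subgroup.closure qs).comap (MulAut.conj c).toMonoidHom := by
        rw [Subgroup.closure_le]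
        intro q hq
        obtain ⟨j, hj⟩ := d.norm c hc q hq
        show c * q * c⁻¹ ∈ Subgroup.closure qs
        rw [hj]; exact d.f_mem j
      exact fun a ha => h ha
    exact Subgroup.mem_normalizer_fintype key
  have hoc : oc z = Subgroup.closure qs :=
    oc_eq_of_normalised S _ hQle hcard fun c hc a ha =>
      (Subgroup.mem_normalizer_iff.1 (hnorm (hC ▸ Subgroup.mem_centralizer_singleton_iff.2 hc)) a).1 ha
  refine ⟨exists_setting_frame S fun a ha h2 h1 hz => ?_, ?_, hC, hoc⟩
  · obtain ⟨i, rfl⟩ := (hmem a).1 (hoc ▸ ha)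
    obtain ⟨c, hc, hcw⟩ := d.frame i h2 h1 hz
    exact ⟨c, Subgroup.mem_centralizer_singleton_iff.1 (hle hc), hcw⟩
  · obtain ⟨j, hj⟩ := d.t_mem
    have h : g⁻¹ * t * g ∈ oc z := by rw [hoc, hj]; exact d.f_mem j
    have h' := conj_mem_oc (g := g) h
    rw [d.g_conj, show g * (g⁻¹ * t * g) * g⁻¹ = t by group] at h'
    exact h'

end Cfsg.Agent.SuzRecog
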