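import Cfsg.Agent.SuzOut.Model
import Cfsg.Agent.SuzInvol.Facts
import Cfsg.Agent.SuzRecog.SettingCrit
import Cfsg.Agent.SuzRecog.MS.Check

/-!
The setting, frame and swapper in the presented group.
-/

set_option autoImplicit false
set_option maxRecDepth 100000

namespace Cfsg.Agent.SuzRecog.MS

open Cfsg Cfsg.Agent.Compute Cfsg.Agent.StemCert Cfsg.Agent.LargeExtra

/-- The letters. -/
noncomputable def gen (s : ℕ) : Spor.Suz := evalW SuzOut.baseGen (Data.letters.getD s [])

theorem coded : Coded (w := 11) (k := Data.k) SuzOut.ι gen Data.codes :=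
  LeechModel.coded_of_wordsB SuzOut.coded_base words_ok

/-- The involution. -/
noncomputable def zE : Spor.Suz := gen Data.zL

/-- The frame. -/
noncomputable def wE : Spor.Suz := gen Data.wL

/-- The swapper. -/
noncomputable def tE : Spor.Suz := gen Data.tL

/-- The generators of the centraliser. -/
def cs : Set Spor.Suz := gen '' {s | s < Data.nC}

/-- The generators of the core. -/
def qs : Set Spor.Suz := gen '' {s | Data.qLo ≤ s ∧ s < Data.qHi}

theorem ev_one (s : ℕ) : evalW gen [s] = gen s := by simp [evalW]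

theorem ev_two (a b : ℕ) : evalW gen [a, b] = gen a * gen b := by simp [evalW]

theorem eq_of_eqW {a b : List ℕ} (h : eqW a b = true) : evalW gen a = evalW gen b := by
  simp only [eqW, Bool.and_eq_true] at h
  exact eq_of_eqOn coded SuzOut.base_isBase (fun s hs => Nat.blt_eq.mp (allB_spec h.1.1 s hs))
    (fun s hs => Nat.blt_eq.mp (allB_spec h.1.2 s hs)) h.2

theorem allB_of {f : ℕ → Bool} : ∀ {l : List ℕ}, (∀ s ∈ l, f s = true) → allB f l = true
  | [], _ => rfl
  | a :: l, h => by
    show (f a && allB f l) = true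
    rw [h a (by simp), allB_of fun s hs => h s (List.mem_cons_of_mem _ hs)]
    rfl

theorem eqW_of_eq {a b : List ℕ} (ha : ∀ s ∈ a, s < Data.k) (hb : ∀ s ∈ b, s < Data.k)
    (h : evalW gen a = evalW gen b) : eqW a b = true := by
  simp only [eqW, Bool.and_eq_true, OutTab.eqOn_of_eq coded SuzOut.base_isBase.1 ha hb h, and_true]
  exact ⟨allB_of fun s hs => Nat.blt_eq.mpr (ha s hs), allB_of fun s hs => Nat.blt_eq.mpr (hb s hs)⟩

theorem keyW_congr {a b : List ℕ} (ha : ∀ s ∈ a, s < Data.k) (hb : ∀ s ∈ b, s < Data.k)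
    (h : evalW gen a = evalW gen b) : keyW a = keyW b := by
  have hp : ∀ x ∈ SuzOut.Data.mainBase, appW 11 Data.codes a x = appW 11 Data.codes b x := by
    intro x hx
    have hx' := SuzOut.base_isBase.1 x hx
    rw [← appW_spec coded a ha ⟨x, hx'⟩, ← appW_spec coded b hb ⟨x, hx'⟩, h]
  unfold keyW
  generalize SuzOut.Data.mainBase = L at hp
  induction L with
  | nil => rfl
  | cons x L ih =>
    show Nat.add (appW 11 Data.codes a x) (Nat.mul 2048 _) = Nat.add (appW 11 Data.codes b x) (Nat.mul 2048 _)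
    rw [hp x (by simp), ih fun y hy => hp y (List.mem_cons_of_mem _ hy)]

/-- An element of the core list. -/
noncomputable def qE (i : Fin 128) : Spor.Suz := evalW gen (qW i)

theorem qW_props (i : Fin 128) : (∀ s ∈ qW i, Data.qLo ≤ s ∧ s < Data.qHi) ∧
    (∀ s ∈ qW i, s < Data.k) ∧ (i.val = 0 ∨ keyW (qW (i.val - 1)) < keyW (qW i)) := by
  have h := allBelow_eq_true.mp list_ok i i.isLt
  simp only [listB, inQ, Bool.and_eq_true, Bool.or_eq_true, Nat.beq_eq, Nat.blt_eq] at h
  exact ⟨fun s hs => by simpa [Nat.ble_eq, Nat.blt_eq] using allB_spec h.1.1 s hs,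
    fun s hs => Nat.blt_eq.mp (allB_spec h.1.2 s hs), h.2⟩

theorem qE_mem (i : Fin 128) : qE i ∈ Subgroup.closure qs :=
  list_prod_mem fun y hy => by
    obtain ⟨s, hs, rfl⟩ := List.mem_map.mp hy
    exact Subgroup.subset_closure ⟨s, (qW_props i).1 s hs, rfl⟩

theorem qE_injective : Function.Injective qE := by
  have hmono := SuzInvol.mono_of_step (n := 128) (f := fun i => keyW (qW i))
    fun i hi => (qW_props ⟨i, hi⟩).2.2
  intro a b h
  have hk : keyW (qW a) = keyW (qW b) := keyW_congr (qW_props a).2.1 (qW_props b).2.1 h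
  rcases Nat.lt_trichotomy a.val b.val with hlt | heq | hgt
  · exact absurd hk (hmono b.val b.isLt a.val hlt).ne
  · exact Fin.ext heq
  · exact absurd hk (hmono a.val a.isLt b.val hgt).ne'

theorem inC_mem {l : List ℕ} (h : inC l = true) : evalW gen l ∈ Subgroup.closure cs :=
  list_prod_mem fun y hy => by
    obtain ⟨s, hs, rfl⟩ := List.mem_map.mp hy
    exact Subgroup.subset_closure ⟨s, Nat.blt_eq.mp (allB_spec h s hs), rfl⟩

theorem cs_card [Finite Spor.Suz] : 3317760 ≤ Nat.card ↥(Subgroup.closure cs) := by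
  classical
  obtain ⟨hw, hg, hn, hb, hd⟩ := levels_ok
  have hc : Coded (w := 11) (k := Data.nC) SuzOut.ι gen Data.codes := fun s hs x =>
    coded s (Nat.lt_of_lt_of_le hs small_ok.2.2.2.2.2.2.2.2.2.2.1) x
  have hinj := nf_injective_of_check hc hw hg hb hd
  have hsub : Submonoid.closure cs ≤ (Subgroup.closure cs).toSubmonoid :=
    Submonoid.closure_le.mpr Subgroup.subset_closure
  rw [← hn, ← card_forms, ← Fintype.card_coe, ← Nat.card_eq_fintype_card]
  exact Nat.card_le_card_of_injective
    (fun x : forms Data.levels => (⟨nf gen Lv.word Data.levels x.1,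
      hsub (nf_mem_closure hw hg (valid_of_mem_forms x.2))⟩ : ↥(Subgroup.closure cs)))
    fun x y e => Subtype.ext
      (hinj _ _ (valid_of_mem_forms x.2) (valid_of_mem_forms y.2) (congrArg Subtype.val e))

theorem settingData [Finite Spor.Suz] : SettingData zE wE tE (gen Data.gL) cs qs qE := by
  obtain ⟨hzz, hz1, hcc, h1, h1l, hwi, hwl, hgz, hgt, htl, -, hqk, hqq, hnC, -, -, hzk, -, -, -⟩ :=
    small_ok
  have comm : ∀ s, commB s = true → gen s * zE = zE * gen s := fun s h => by
    have e := eq_of_eqW h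
    rwa [ev_two, ev_two] at e
  refine
    { ord := orderOf_eq_prime (by
        have e := eq_of_eqW hzz
        rw [pow_two]; simpa [evalW, zE] using e) (fun e => ?_)
      cs_comm := by
        rintro _ ⟨s, hs, rfl⟩
        exact comm s (allBelow_eq_true.mp hcc s hs)
      cs_card := cs_card
      f_one := ⟨⟨_, h1l⟩, eq_of_eqW h1⟩
      f_inj := qE_injective
      f_closed := ?_
      f_mem := qE_mem
      qs_comm := ?_
      norm := ?_
      w_mem := ⟨⟨_, hwl⟩, (eq_of_eqW hwi).trans (ev_one _)⟩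
      frame := ?_
      g_conj := ?_
      t_mem := ⟨⟨_, htl⟩, ?_⟩ }
  · rw [eqW_of_eq (b := []) (by simpa using hzk) (by simp) (by rw [ev_one]; exact e)] at hz1
    exact Bool.noConfusion hz1
  · rintro i _ ⟨s, ⟨hs1, hs2⟩, rfl⟩
    have h := allBelow_eq_true.mp clos_ok ((s - Data.qLo) * 128 + i.val) (by
      have := i.isLt
      have : s - Data.qLo + 1 ≤ Data.qHi - Data.qLo := by omega
      calc (s - Data.qLo) * 128 + i.val < (s - Data.qLo + 1) * 128 := by omega
        _ ≤ _ := Nat.mul_le_mul_right _ this)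
    rw [closB, forceN_eq] at h
    simp only [Bool.and_eq_true, Nat.blt_eq] at h
    refine ⟨⟨_, h.1⟩, ?_⟩
    have e := eq_of_eqW h.2
    rw [evalW_append] at e
    have hmod : Nat.mod ((s - Data.qLo) * 128 + i.val) 128 = i.val := by
      show ((s - Data.qLo) * 128 + i.val) % 128 = i.val
      omega
    have hdiv : Nat.add Data.qLo (Nat.div ((s - Data.qLo) * 128 + i.val) 128) = s := by
      show Data.qLo + ((s - Data.qLo) * 128 + i.val) / 128 = s
      omega
    rw [hdiv, hmod, ev_one] at e
    exact e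
  · rintro _ ⟨s, ⟨hs1, hs2⟩, rfl⟩
    have h := allBelow_eq_true.mp qcomm_ok (s - Data.qLo) (by omega)
    rw [show Nat.add Data.qLo (s - Data.qLo) = s by show Data.qLo + _ = s; omega] at h
    exact comm s h
  · rintro _ ⟨c, hc, rfl⟩ _ ⟨s, ⟨hs1, hs2⟩, rfl⟩
    change c < Data.nC at hc
    have h := allBelow_eq_true.mp norm_ok ((s - Data.qLo) * Data.nC + c) (by
      have : s - Data.qLo + 1 ≤ Data.qHi - Data.qLo := by omega
      calc (s - Data.qLo) * Data.nC + c < (s - Data.qLo + 1) * Data.nC := by rw [Nat.succ_mul]; omega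
        _ ≤ _ := Nat.mul_le_mul_right _ this)
    rw [normB, forceN_eq] at h
    simp only [Bool.and_eq_true, Nat.blt_eq] at h
    refine ⟨⟨_, h.1⟩, ?_⟩
    have e := eq_of_eqW h.2
    have hmod : Nat.mod ((s - Data.qLo) * Data.nC + c) Data.nC = c := by
      show ((s - Data.qLo) * Data.nC + c) % Data.nC = c
      rw [Nat.mul_comm, Nat.mul_add_mod, Nat.mod_eq_of_lt hc]
    have hdiv : Nat.add Data.qLo (Nat.div ((s - Data.qLo) * Data.nC + c) Data.nC) = s := by
      show Data.qLo + ((s - Data.qLo) * Data.nC + c) / Data.nC = s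
      rw [Nat.mul_comm, Nat.mul_add_div hnC, Nat.div_eq_of_lt hc]
      omega
    rw [hdiv, hmod, ev_two, evalW_append, ev_one] at e
    rw [mul_inv_eq_iff_eq_mul]
    exact e
  · intro i h2 h1' hz
    have h := allBelow_eq_true.mp frame_ok i.val i.isLt
    simp only [frameB, Bool.or_eq_true, Bool.and_eq_true, Bool.not_eq_true'] at h
    have hlt := (qW_props i).2.1
    rcases h with ((h | h) | h) | ⟨hm, h⟩
    · rw [eqW_of_eq (fun s hs => (List.mem_append.mp hs).elim (hlt s) (hlt s)) (by simp)
        (by rw [evalW_append]; exact h2)] at h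
      exact Bool.noConfusion h
    · exact absurd (eq_of_eqW h) h1'
    · exact absurd ((eq_of_eqW h).trans (ev_one _)) hz
    · refine ⟨_, inC_mem hm, ?_⟩
      have e := eq_of_eqW h
      rw [evalW_append, evalW_cons] at e
      rw [mul_inv_eq_iff_eq_mul]
      exact e
  · have e := eq_of_eqW hgz
    simp only [evalW, List.map_cons, List.map_nil, List.prod_cons, List.prod_nil, mul_one] at e
    rw [mul_inv_eq_iff_eq_mul, mul_assoc]
    exact e
  · have e := eq_of_eqW hgt
    rw [evalW_cons, ev_two] at e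
    show (gen Data.gL)⁻¹ * tE * gen Data.gL = evalW gen (qW _)
    rw [mul_assoc, ← show gen Data.gL * evalW gen (qW Data.tI) = tE * gen Data.gL from e,
      inv_mul_cancel_left]

/-- The model setting. -/
theorem model_setting [Finite Spor.Suz] : (∃ S : SuzType.Suz zE, S.Fr wE) ∧ tE ∈ oc (wE * zE) ∧
    tE * zE * tE⁻¹ = wE ∧ tE * tE = 1 ∧
    Subgroup.closure cs = Subgroup.centralizer ({zE} : Set Spor.Suz) ∧
    oc zE = Subgroup.closure qs := by
  obtain ⟨u, v, s, s', F⟩ := SuzInvol.exists_involFacts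
  obtain ⟨h1, h2, h3, h4⟩ := setting_of_data F settingData
  obtain ⟨-, -, -, -, -, -, -, -, -, -, -, -, -, -, htt, htz, -, -, -, -⟩ := small_ok
  have ett := eq_of_eqW htt
  rw [ev_two] at ett
  have etz := eq_of_eqW htz
  rw [ev_two, ev_two] at etz
  exact ⟨h1, h2, mul_inv_eq_iff_eq_mul.2 etz, ett, h3, h4⟩

end Cfsg.Agent.SuzRecog.MS
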