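import Cfsg.Agent.SuzRecog.MS.Defs

/-!
Checks for relations inside the centraliser of an element of order three of the model.
-/

set_option autoImplicit false

namespace Cfsg.Agent.SuzRecog.MS

open Cfsg.Agent.Compute Cfsg.Agent.StemCert

/-- A relation: its kind (trivial by a tracked element, cubed, or a paired power), the letters of
the centraliser between the swappers, an exponent, an element moving or inverting the element of order three
and, for a pair, the second letter. -/
structure RelRow where
  kind : ℕ
  l : List (List ℕ)
  j : ℕ
  x : List ℕ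
  g : List ℕ

/-- The whole relation. -/
noncomputable def relFull (r : RelRow) : List (List ℕ) :=
  cond (Nat.beq r.kind 0) r.l (cond (Nat.beq r.kind 1) (List.replicate 3 r.l).flatten
    (List.replicate r.j (r.l.headD []) ++ List.replicate r.j r.g))

/-- The inverse of a letter. -/
noncomputable def invL (s : ℕ) : ℕ :=
  cond (Nat.beq s 1) 2 (cond (Nat.beq s 2) 1 (cond (Nat.beq s 3) 4 (cond (Nat.beq s 4) 3 s)))

/-- The inverse word. -/
noncomputable def invW (l : List ℕ) : List ℕ := (l.map invL).reverse

/-- A letter with a known inverse. -/
noncomputable def okL (s : ℕ) : Bool := Nat.blt s 5 || Nat.beq s Data.tL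

/-- A word in the first five letters. -/
noncomputable def five (l : List ℕ) : Bool := allB (fun s => Nat.blt s 5) l

/-- The inverse of every such letter is right. -/
noncomputable def invB (s : ℕ) : Bool :=
  !(okL s) || (okL (invL s) && eqW [s, invL s] [])

/-- The word of a list of letters, each followed by the swapper. -/
noncomputable def mW : List (List ℕ) → List ℕ
  | [] => []
  | c :: l => c ++ Data.tL :: mW l

/-- A conjugate of a word commutes with a letter. -/
noncomputable def conjComm (M x : List ℕ) (s : ℕ) : Bool :=
  eqW (M ++ x ++ invW M ++ [s]) (s :: (M ++ x ++ invW M))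

/-- The word stays in the common centraliser. -/
noncomputable def trackB (x : List ℕ) : List (List ℕ) → Bool
  | [] => eqW (x ++ [Data.zL]) (Data.zL :: x)
  | _ :: l => trackB x l && conjComm (mW l) x Data.zL && conjComm (mW l) x Data.wL

/-- Two words commute. -/
noncomputable def commW (a b : List ℕ) : Bool := eqW (a ++ b) (b ++ a)

/-- The conditions on a relation, for the element given by the word `y`. -/
noncomputable def rowB (y : List ℕ) (r : RelRow) : Bool :=
  allB (fun c => five c && commW c y) r.l &&
    cond (Nat.beq r.kind 0)
      (eqW (mW r.l) [] && five r.x && trackB r.x r.l && !(commW r.x y))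
      (cond (Nat.beq r.kind 1) (eqW (mW r.l) (List.replicate r.j y).flatten)
        (five r.g && five r.x && five (r.l.headD []) && commW (r.l.headD []) y &&
          eqW (mW (List.replicate r.j (r.l.headD []))) [] && commW r.x [Data.wL] &&
          eqW (r.x ++ y) (y ++ y ++ r.x) &&
          eqW (r.g ++ Data.tL :: (r.x ++ [Data.tL])) (r.x ++ r.l.headD [])))

/-- The conditions on the element `y`, with `w` the indices of an eight element group. -/
noncomputable def yB (y : List ℕ) : Bool :=
  five y && eqW (y ++ y ++ y) [] && !(eqW y []) && commW y [Data.zL] && commW y [Data.wL] &&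
    commW y [Data.tL]

/-- The eight indices `w` form a subgroup containing `z`, with multiplication table `mt`. -/
noncomputable def wB (w mt : List ℕ) (one zi : ℕ) : Bool :=
  allBelow 8 (fun a => Nat.blt (w.getD a 0) 128 &&
      (Nat.beq a 0 || Nat.blt (w.getD (Nat.sub a 1) 0) (w.getD a 0))) &&
    allBelow 64 (fun n => Nat.blt (mt.getD n 0) 8 &&
      eqW (qW (w.getD (Nat.div n 8) 0) ++ qW (w.getD (Nat.mod n 8) 0)) (qW (w.getD (mt.getD n 0) 0))) &&
    Nat.blt one 8 && eqW (qW (w.getD one 0)) [] && Nat.blt zi 8 && eqW (qW (w.getD zi 0)) [Data.zL]

/-- Commutators with the core fall into the eight element group. -/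
noncomputable def comB (y : List ℕ) (w wit : List ℕ) (i : ℕ) : Bool :=
  Nat.blt (wit.getD i 0) 8 &&
    eqW (y ++ qW i) (qW (w.getD (wit.getD i 0) 0) ++ qW i ++ y)

end Cfsg.Agent.SuzRecog.MS
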