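import Cfsg.Agent.SuzRecog.ModelSetting
import Cfsg.Agent.SuzRecog.RelDefs
import Cfsg.Agent.SuzRecog.LocalRel

/-!
Relations checked in the model hold along every link.
-/

set_option autoImplicit false
set_option maxRecDepth 100000

open Cfsg Cfsg.Agent.Compute Cfsg.Agent.StemCert Cfsg.Agent.LargeExtra Cfsg.Agent.SuzType

namespace Cfsg.Agent.SuzRecog.MS

/-- The checks on the element of order three. -/
structure YData (y w mt wit : List ℕ) (one zi : ℕ) : Prop where
  yb : yB y = true
  wb : wB w mt one zi = true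
  com : allBelow 128 (comB y w wit) = true
  inv : allBelow Data.k invB = true

theorem five_mem [Finite Spor.Suz] {l : List ℕ} (h : five l = true) : evalW gen l * zE = zE * evalW gen l := by
  have hl : inC l = true := allB_of fun s hs =>
    Nat.blt_eq.mpr (Nat.lt_of_lt_of_le (Nat.blt_eq.mp (allB_spec h s hs)) (show 5 ≤ Data.nC by decide +kernel))
  have hm := inC_mem hl
  rw [model_setting.2.2.2.2.1] at hm
  exact Subgroup.mem_centralizer_singleton_iff.1 hm

theorem evalW_flatten_replicate (n : ℕ) (l : List ℕ) :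
    evalW gen (List.replicate n l).flatten = evalW gen l ^ n := by
  induction n with
  | zero => simp [evalW]
  | succ n ih => rw [List.replicate_succ, List.flatten_cons, evalW_append, ih, pow_succ']

theorem evalW_mW : ∀ l : List (List ℕ), evalW gen (mW l) = mWord tE (l.map (evalW gen))
  | [] => rfl
  | c :: l => by
    rw [mW, evalW_append, evalW_cons, evalW_mW l, List.map_cons, mWord, ← mul_assoc]
    rfl

theorem commW_eq {a b : List ℕ} (h : commW a b = true) :
    evalW gen a * evalW gen b = evalW gen b * evalW gen a := by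
  have e := eq_of_eqW h
  rwa [evalW_append, evalW_append] at e

theorem invW_eq {l : List ℕ} (hi : allBelow Data.k invB = true) (hl : ∀ s ∈ l, okL s = true) :
    evalW gen (invW l) = (evalW gen l)⁻¹ := by
  induction l with
  | nil => simp [invW, evalW]
  | cons a l ih =>
    have ha := hl a (by simp)
    have hak : a < Data.k := by
      simp only [okL, Bool.or_eq_true, Nat.blt_eq, Nat.beq_eq] at ha
      rcases ha with h | h
      · exact Nat.lt_of_lt_of_le h (show 5 ≤ Data.k by decide +kernel)
      · rw [h]; decide +kernel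
    have h := allBelow_eq_true.mp hi a hak
    simp only [invB, ha, Bool.not_true, Bool.false_or, Bool.and_eq_true] at h
    have e := eq_of_eqW h.2
    rw [ev_two] at e
    rw [invW, List.map_cons, List.reverse_cons, evalW_append, ← invW, ih fun s hs => hl s (List.mem_cons_of_mem _ hs),
      ev_one, evalW_cons, mul_inv_rev, eq_inv_of_mul_eq_one_right (a := gen a) (b := gen (invL a)) e]

theorem mW_okL : ∀ {l : List (List ℕ)}, (∀ c ∈ l, five c = true) → ∀ s ∈ mW l, okL s = true
  | [], _, s, hs => by simp [mW] at hs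
  | c :: l, h, s, hs => by
    rw [mW, List.mem_append, List.mem_cons] at hs
    rcases hs with hs | hs | hs
    · simp only [okL, Bool.or_eq_true]
      exact Or.inl (allB_spec (h c (by simp)) s hs)
    · simp [okL, hs]
    · exact mW_okL (fun c hc => h c (List.mem_cons_of_mem _ hc)) s hs

theorem conjComm_eq (hi : allBelow Data.k invB = true) {M x : List ℕ} (hM : ∀ s ∈ M, okL s = true) {s : ℕ}
    (h : conjComm M x s = true) :
    evalW gen M * evalW gen x * (evalW gen M)⁻¹ * gen s =
      gen s * (evalW gen M * evalW gen x * (evalW gen M)⁻¹) := by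
  have e := eq_of_eqW h
  rwa [evalW_append, evalW_append, evalW_append, ev_one, evalW_cons, evalW_append, evalW_append,
    invW_eq hi hM] at e

theorem tracked_of_trackB (hi : allBelow Data.k invB = true) (x : List ℕ) : ∀ {l : List (List ℕ)},
    (∀ c ∈ l, five c = true) → trackB x l = true →
      Tracked zE wE tE (l.map (evalW gen)) (evalW gen x)
  | [], _, h => by
    have e := eq_of_eqW h
    rw [evalW_append, ev_one, evalW_cons] at e
    exact e
  | c :: l, hl, h => by
    simp only [trackB, Bool.and_eq_true] at h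
    have hl' : ∀ c ∈ l, five c = true := fun c hc => hl c (List.mem_cons_of_mem _ hc)
    rw [List.map_cons, Tracked, ← evalW_mW]
    exact ⟨tracked_of_trackB hi x hl' h.1.1, conjComm_eq hi (mW_okL hl') h.1.2, conjComm_eq hi (mW_okL hl') h.2⟩

variable {y w mt wit : List ℕ} {one zi : ℕ}

theorem isType [Finite Spor.Suz] (d : YData y w mt wit one zi) (S : Suz zE) :
    SuzThree.IsType S (evalW gen y) := by
  classical
  have hy := d.yb
  simp only [yB, Bool.and_eq_true, Bool.not_eq_true'] at hy
  obtain ⟨⟨⟨⟨⟨h5, h3⟩, h1⟩, -⟩, -⟩, -⟩ := hy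
  have hy3 : evalW gen y ^ 3 = 1 := by
    have e := eq_of_eqW h3
    rw [evalW_append, evalW_append] at e
    rw [pow_succ, pow_succ, pow_one]; exact e
  have hy1 : evalW gen y ≠ 1 := fun e => by
    rw [eqW_of_eq (fun s hs => Nat.lt_of_lt_of_le (Nat.blt_eq.mp (allB_spec h5 s hs))
      (show 5 ≤ Data.k by decide +kernel)) (b := []) (by simp) e] at h1
    exact Bool.noConfusion h1
  have hw := d.wb
  simp only [wB, Bool.and_eq_true, Nat.blt_eq] at hw
  obtain ⟨⟨⟨⟨⟨hA, hM⟩, hone⟩, h1e⟩, hzi⟩, hze⟩ := hw
  have hlt : ∀ a : Fin 8, w.getD a 0 < 128 := fun a => by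
    have := allBelow_eq_true.mp hA a a.isLt
    simp only [Bool.and_eq_true, Nat.blt_eq] at this
    exact this.1
  let f : Fin 8 → Spor.Suz := fun a => qE ⟨w.getD a 0, hlt a⟩
  have hmono : ∀ b, b < 8 → ∀ a < b, w.getD a 0 < w.getD b 0 :=
    SuzInvol.mono_of_step (n := 8) (f := fun a => w.getD a 0) fun i hi => by
      have h := allBelow_eq_true.mp hA i hi
      simp only [Bool.and_eq_true, Bool.or_eq_true, Nat.beq_eq, Nat.blt_eq] at h
      exact h.2
  have finj : Function.Injective f := fun a b e => by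
    have h : w.getD a 0 = w.getD b 0 := congrArg Fin.val (qE_injective e)
    rcases Nat.lt_trichotomy a.val b.val with hlt | heq | hgt
    · exact absurd h (hmono b.val b.isLt a.val hlt).ne
    · exact Fin.ext heq
    · exact absurd h (hmono a.val a.isLt b.val hgt).ne'
  have f1 : f ⟨one, hone⟩ = 1 := eq_of_eqW h1e
  have fz : f ⟨zi, hzi⟩ = zE := (eq_of_eqW hze).trans (ev_one _)
  have fmul : ∀ a b, ∃ c, f a * f b = f c := fun a b => by
    have h := allBelow_eq_true.mp hM (a.val * 8 + b.val) (by have := a.isLt; have := b.isLt; omega)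
    simp only [Bool.and_eq_true, Nat.blt_eq] at h
    refine ⟨⟨_, h.1⟩, ?_⟩
    have e := eq_of_eqW h.2
    rw [evalW_append, show Nat.div (a.val * 8 + b.val) 8 = a.val by
        show (a.val * 8 + b.val) / 8 = a.val; have := b.isLt; omega,
      show Nat.mod (a.val * 8 + b.val) 8 = b.val by
        show (a.val * 8 + b.val) % 8 = b.val; have := b.isLt; omega] at e
    exact e
  have hmem := mem_closure_iff_list (S := Set.range f) f ⟨_, f1⟩
    (fun a q hq => by obtain ⟨b, rfl⟩ := hq; exact fmul a b) (fun a => Subgroup.subset_closure ⟨a, rfl⟩)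
  have hcard : Nat.card ↥(Subgroup.closure (Set.range f)) = 8 := by
    refine (Nat.card_congr (Equiv.ofBijective
      (fun a => (⟨f a, Subgroup.subset_closure ⟨a, rfl⟩⟩ : ↥(Subgroup.closure (Set.range f))))
      ⟨fun a b e => finj (congrArg Subtype.val e), fun x => ?_⟩)).symm.trans (Nat.card_fin 8)
    obtain ⟨a, ha⟩ := (hmem _).1 x.2
    exact ⟨a, Subtype.ext ha⟩
  have hoc : oc zE = Subgroup.closure qs := model_setting.2.2.2.2.2
  obtain ⟨hq1, hqf⟩ : (∃ i, qE i = 1) ∧ ∀ i, ∀ q ∈ qs, ∃ j, qE i * q = qE j :=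
    ⟨settingData.f_one, settingData.f_closed⟩
  refine SuzThree.isType_of_comm S (five_mem h5) hy3 hy1 (Subgroup.closure (Set.range f))
    ((Subgroup.closure_le _).2 ?_) (fz ▸ Subgroup.subset_closure ⟨_, rfl⟩) hcard fun a ha => ?_
  · rintro _ ⟨a, rfl⟩
    rw [hoc]; exact qE_mem _
  · obtain ⟨i, rfl⟩ := (mem_closure_iff_list qE hq1 hqf qE_mem a).1 (hoc ▸ ha)
    have h := allBelow_eq_true.mp d.com i i.isLt
    simp only [comB, Bool.and_eq_true, Nat.blt_eq] at h
    have e := eq_of_eqW h.2
    rw [evalW_append, evalW_append, evalW_append] at e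
    refine (hmem _).2 ⟨⟨_, h.1⟩, ?_⟩
    show evalW gen (qW _) = evalW gen y * evalW gen (qW i) * (evalW gen y)⁻¹ * (evalW gen (qW i))⁻¹
    rw [e]; group

universe v

variable {G₂ : Type v} [Group G₂] [Finite G₂] {z₂ : G₂} {S₂ : Suz z₂} {E : Spor.Suz → G₂}
  {E' : G₂ → Spor.Suz} {t₂ : G₂}

/-- A checked relation holds along a link, written with the swapper in front. -/
theorem rel_of_rowB [Finite Spor.Suz] {S₁ : Suz zE} (d : YData y w mt wit one zi) (F : S₁.Fr wE)
    (L : Link S₁ S₂ E E' wE tE t₂) {r : RelRow} (hr : rowB y r = true) (hne : relFull r ≠ []) :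
    gWord E t₂ (1 :: (relFull r).dropLast.map (evalW gen)) =
      E (evalW gen (invW ((relFull r).getLastD []))) := by
  have hy := d.yb
  simp only [yB, Bool.and_eq_true] at hy
  obtain ⟨⟨⟨⟨⟨h5, -⟩, -⟩, -⟩, hyw⟩, hyt⟩ := hy
  have hw' : evalW gen y * wE = wE * evalW gen y := by simpa [evalW, wE] using commW_eq hyw
  have ht' : evalW gen y * tE = tE * evalW gen y := by simpa [evalW, tE] using commW_eq hyt
  simp only [rowB, Bool.and_eq_true] at hr
  obtain ⟨hl, hb⟩ := hr
  have hl5 : ∀ c ∈ r.l, five c = true ∧ commW c y = true := fun c hc =>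
    Bool.and_eq_true _ _ ▸ allB_spec hl c hc
  have hlC : ∀ c ∈ r.l.map (evalW gen), c * zE = zE * c ∧ c * evalW gen y = evalW gen y * c := by
    intro c hc
    obtain ⟨c', hc', rfl⟩ := List.mem_map.1 hc
    exact ⟨five_mem (hl5 c' hc').1, commW_eq (hl5 c' hc').2⟩
  have hy3 := (isType d S₁).y3
  rw [pow_succ, pow_succ, pow_one] at hy3
  have hinvx : ∀ {x : List ℕ}, eqW (x ++ y) (y ++ y ++ x) = true →
      evalW gen x * evalW gen y * (evalW gen x)⁻¹ = (evalW gen y)⁻¹ := fun {x} h => by
    have e := eq_of_eqW h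
    rw [evalW_append, evalW_append, evalW_append] at e
    rw [mul_inv_eq_iff_eq_mul, e, eq_inv_of_mul_eq_one_left hy3]
  have hmain : (∀ c ∈ relFull r, five c = true) ∧ gWord E t₂ ((relFull r).map (evalW gen)) = 1 := by
    unfold relFull
    cases h0 : Nat.beq r.kind 0 <;> simp only [h0, cond_true, cond_false] at hb ⊢
    · cases h1 : Nat.beq r.kind 1 <;> simp only [h1, cond_true, cond_false] at hb ⊢
      · simp only [Bool.and_eq_true] at hb
        obtain ⟨⟨⟨⟨⟨⟨⟨hg5, hx5⟩, hh5⟩, hhy⟩, hm⟩, hxw⟩, hxy⟩, hg⟩ := hb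
        refine ⟨fun c hc => (List.mem_append.1 hc).elim (fun h => List.eq_of_mem_replicate h ▸ hh5)
          (fun h => List.eq_of_mem_replicate h ▸ hg5), ?_⟩
        rw [List.map_append, List.map_replicate, List.map_replicate]
        refine rel_pair L F (isType d S₁) hw' ht' (five_mem hh5) (commW_eq hhy) r.j ?_ (five_mem hx5)
          (by simpa [evalW, wE] using commW_eq hxw) (hinvx hxy) ?_
        · rw [← List.map_replicate, ← evalW_mW]; exact eq_of_eqW hm
        · have e := eq_of_eqW hg
          rw [evalW_append, evalW_cons, evalW_append, evalW_append, ev_one] at e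
          rw [inv_eq_of_mul_eq_one_right (show tE * tE = 1 from model_setting.2.2.2.1), mul_assoc tE]
          exact e
      · refine ⟨fun c hc => ?_, ?_⟩
        · obtain ⟨m, hm, hcm⟩ := List.mem_flatten.1 hc
          exact (hl5 c (List.eq_of_mem_replicate hm ▸ hcm)).1
        · rw [List.map_flatten, List.map_replicate]
          refine rel_cube L F (isType d S₁) hw' ht' _ hlC (j := r.j) ?_
          rw [← evalW_mW, eq_of_eqW hb, evalW_flatten_replicate]
    · simp only [Bool.and_eq_true, Bool.not_eq_true'] at hb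
      obtain ⟨⟨⟨hm, hx5⟩, htr⟩, hxy⟩ := hb
      refine ⟨fun c hc => (hl5 c hc).1, rel_move L F (isType d S₁) hw' ht' _ hlC ?_ (x := evalW gen r.x)
        (five_mem hx5) (fun e => ?_) (tracked_of_trackB d.inv r.x (fun c hc => (hl5 c hc).1) htr)⟩
      · rw [← evalW_mW]; exact eq_of_eqW hm
      · have hk : ∀ {a : List ℕ}, five a = true → ∀ s ∈ a, s < Data.k := fun h s hs =>
          Nat.lt_of_lt_of_le (Nat.blt_eq.mp (allB_spec h s hs)) (show 5 ≤ Data.k by decide +kernel)
        rw [commW, eqW_of_eq (fun s hs => (List.mem_append.1 hs).elim (hk hx5 s) (hk h5 s))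
          (fun s hs => (List.mem_append.1 hs).elim (hk h5 s) (hk hx5 s))
          (by rw [evalW_append, evalW_append]; exact e)] at hxy
        exact Bool.noConfusion hxy
  obtain ⟨hfull, hall⟩ := hmain
  conv_lhs at hall => rw [← List.dropLast_append_getLast hne, List.map_append, List.map_singleton]
  have hlast := hfull _ (List.getLast_mem hne)
  rw [rotate_rel L _ (five_mem hlast) hall, List.getLastD_eq_getLast?, List.getLast?_eq_some_getLast hne,
    Option.getD_some, invW_eq d.inv]
  intro s hs
  simp only [okL, Bool.or_eq_true]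
  exact Or.inl (allB_spec hlast s hs)

end Cfsg.Agent.SuzRecog.MS
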