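import Cfsg.Agent.SuzRecog.RelDefs

/-! Generated data: an element of order three and relations inside its centraliser. -/

set_option autoImplicit false

namespace Cfsg.Agent.SuzRecog.MS.RelData

/-- Data. -/
noncomputable def y : List ℕ := [2,0,3,0,3,1,4,2,0,4,2,3,0,4,0,3,0,4,0,2,4,0,2,4,0,4]

/-- Data. -/
noncomputable def w : List ℕ := [25,31,37,43,54,74,107,121]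

/-- Data. -/
noncomputable def mt : List ℕ := [2,3,1,0,7,6,4,5,3,2,0,1,6,7,5,4,1,0,3,2,5,4,7,6,0,1,2,3,4,5,6,7,6,7,5,4,2,3,1,0,7,6,4,5,3,2,0,1,5,4,7,6,0,1,2,3,4,5,6,7,1,0,3,2]

/-- Data. -/
noncomputable def wit : List ℕ := [6,0,0,6,6,0,6,0,0,6,0,6,6,0,0,6,3,4,3,4,4,3,4,3,3,4,4,3,4,3,3,4,3,4,4,3,4,3,4,3,3,4,4,3,3,4,3,4,3,4,0,6,0,6,6,0,3,4,6,0,4,3,3,4,4,3,6,0,0,6,0,6,4,3,6,0,0,6,0,6,6,0,3,4,6,0,4,3,4,3,6,0,3,4,3,4,4,3,4,3,0,6,0,6,6,0,6,0,0,6,0,6,0,6,3,4,3,4,4,3,6,0,0,6,6,0,6,0]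

/-- Data. -/
noncomputable def one : ℕ := 3

/-- Data. -/
noncomputable def zi : ℕ := 2

/-- Data. -/
noncomputable def row0 : RelRow := ⟨0, [[3,1,0,3,1,0,3,0,4,0,3,2,0,3,2,0,1,4,1,4,0,3,2,3,2,0,4,1,3,3,0,3,3,2,0,4,1,3,3,0,3,3,2,2,0,4,1,3,0,2,4,2,2,4],
  [3,1,0,3,1,0,3,0,4,0,3,2,0,3,2,0,1,4,1,4,0,3,2,3,2,0,4,1,3,3,0,3,3,2,0,4,1,3,3,0,3,3,2,2,0,4,1,3,0,2,4,2,2,4],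
  [3,1,0,3,1,0,3,0,4,0,3,2,0,3,2,0,1,4,1,4,0,3,2,3,2,0,4,1,3,3,0,3,3,2,0,4,1,3,3,0,3,3,2,2,0,4,1,3,0,2,4,2,2,4],
  [3,1,0,3,1,0,3,0,4,0,3,2,0,3,2,0,1,4,1,4,0,3,2,3,2,0,4,1,3,3,0,3,3,2,0,4,1,3,3,0,3,3,2,2,0,4,1,3,0,2,4,2,2,4]], 0, [0,1,3,1,3,0,4,2,4,2,4,0,3,0,4,0,3,0,1,0,4,1,4,0,4,4,2,4,2,3,0,4,0,4,0,3,0,3,1,4,0,1,3,3,3,0,4], []⟩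

/-- Data. -/
noncomputable def row1 : RelRow := ⟨0, [[3,1,0,3,1,0,3,0,4,0,3,2,0,3,2,0,1,0,4,1,4,0,4,4,2,4,2,0,3,0,4,4,0,3,3,1,4,2,3,2,0,3,1,1,0,4,1],
  [3,1,0,3,1,0,3,0,4,0,3,2,0,3,2,0,1,0,4,1,4,0,4,4,2,4,2,0,3,0,4,4,0,3,3,1,4,2,3,2,0,3,1,1,0,4,1],
  [3,1,0,3,1,0,3,0,4,0,3,2,0,3,2,0,1,0,4,1,4,0,4,4,2,4,2,0,3,0,4,4,0,3,3,1,4,2,3,2,0,3,1,1,0,4,1],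
  [3,1,0,3,1,0,3,0,4,0,3,2,0,3,2,0,1,0,4,1,4,0,4,4,2,4,2,0,3,0,4,4,0,3,3,1,4,2,3,2,0,3,1,1,0,4,1],
  [3,1,0,3,1,0,3,0,4,0,3,2,0,3,2,0,1,0,4,1,4,0,4,4,2,4,2,0,3,0,4,4,0,3,3,1,4,2,3,2,0,3,1,1,0,4,1]], 0, [3,1,0,3,1,0,3,0,4,0,3,2,0,3,2,0,1,4,1,4,0,3,2,3,2,3,0,4,0,4,4,0,4,0,3,1,3,0,1,3,0,3,0,4], []⟩

/-- Data. -/
noncomputable def row2 : RelRow := ⟨1, [[3,1,0,3,1,0,3,0,4,0,3,2,0,3,2,0,2,0,3,0,3,1,4,2,0,4,2,3,0,4,4,0,3,0,2,0,4,0,1,3,0,3,1],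
  [3,1,0,3,1,0,3,0,4,0,3,2,0,3,2,0,2,0,3,0,3,1,4,2,0,4,2,3,0,4,4,0,3,0,2,0,4,0,1,3,0,3,1],
  [3,1,0,3,1,0,3,0,4,0,3,2,0,3,2,0,2,0,3,0,3,1,4,2,0,4,2,3,0,4,4,0,3,0,2,0,4,0,1,3,0,3,1],
  [3,1,0,3,1,0,3,0,4,0,3,2,0,3,2,0,2,0,3,0,3,1,4,2,0,4,2,3,0,4,4,0,3,0,2,0,4,0,1,3,0,3,1],
  [3,1,0,3,1,0,3,0,4,0,3,2,0,3,2,0,2,0,3,0,3,1,4,2,0,4,2,3,0,4,4,0,3,0,2,0,4,0,1,3,0,3,1]], 1, [], []⟩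

/-- Data. -/
noncomputable def row3 : RelRow := ⟨1, [[1,4,1,4,0,3,2,3,2,0,3,0,3,3,3,0,4,0,1,4,0,4,2,0,4,0],
  [1,4,1,4,0,3,2,3,2,0,3,0,3,3,3,0,4,0,1,4,0,4,2,0,4,0],
  [1,4,1,4,0,3,2,3,2,0,3,0,3,3,3,0,4,0,1,4,0,4,2,0,4,0],
  [1,4,1,4,0,3,2,3,2,0,3,0,3,3,3,0,4,0,1,4,0,4,2,0,4,0],
  [1,4,1,4,0,3,2,3,2,0,3,0,3,3,3,0,4,0,1,4,0,4,2,0,4,0],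
  [1,4,1,4,0,3,2,3,2,0,3,0,3,3,3,0,4,0,1,4,0,4,2,0,4,0],
  [1,4,1,4,0,3,2,3,2,0,3,0,3,3,3,0,4,0,1,4,0,4,2,0,4,0]], 1, [], []⟩

/-- Data. -/
noncomputable def row4 : RelRow := ⟨0, [[3,1,0,3,1,0,3,0,4,0,3,2,0,3,2,0,1,0,4,1,4,0,4,4,2,4,2,3,0,3,1,3,3,0,3,3,3,3,0,4,4,0],
  [3,1,0,3,1,0,3,0,4,0,3,2,0,3,2,0,1,0,4,1,4,0,4,4,2,4,2,3,0,3,1,3,3,0,3,3,3,3,0,4,4,0],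
  [3,1,0,3,1,0,3,0,4,0,3,2,0,3,2,0,1,0,4,1,4,0,4,4,2,4,2,3,0,3,1,3,3,0,3,3,3,3,0,4,4,0],
  [3,1,0,3,1,0,3,0,4,0,3,2,0,3,2,0,1,0,4,1,4,0,4,4,2,4,2,3,0,3,1,3,3,0,3,3,3,3,0,4,4,0]], 0, [3,1,0,3,1,0,3,0,4,0,3,2,0,3,2,0,3,0,4,2,0,3,0,3,1,4,2,0,4,2,3,0,4,0,4,0,4,0,4,2,4,1,3,2,4,2], []⟩

/-- Data. -/
noncomputable def row5 : RelRow := ⟨0, [[3,1,0,3,1,0,3,0,4,0,3,2,0,3,2,0,3,0,4,1,0,4,1,4,0,4,4,2,4,2,0,4,4,4,1,0,3,0,4,1,0,3,2,3],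
  [3,1,0,3,1,0,3,0,4,0,3,2,0,3,2,0,3,0,4,1,0,4,1,4,0,4,4,2,4,2,0,4,4,4,1,0,3,0,4,1,0,3,2,3],
  [3,1,0,3,1,0,3,0,4,0,3,2,0,3,2,0,3,0,4,1,0,4,1,4,0,4,4,2,4,2,0,4,4,4,1,0,3,0,4,1,0,3,2,3],
  [3,1,0,3,1,0,3,0,4,0,3,2,0,3,2,0,3,0,4,1,0,4,1,4,0,4,4,2,4,2,0,4,4,4,1,0,3,0,4,1,0,3,2,3],
  [3,1,0,3,1,0,3,0,4,0,3,2,0,3,2,0,3,0,4,1,0,4,1,4,0,4,4,2,4,2,0,4,4,4,1,0,3,0,4,1,0,3,2,3]], 0, [0,1,3,1,3,0,4,2,4,2,4,0,3,0,4,0,3,0,3,0,4,0,4,1,3,3,0,3,3,2,0,4,4,4,4,0,3,1,3,0,3,0,1,3,1,1,0,4,2], []⟩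

/-- Data. -/
noncomputable def row6 : RelRow := ⟨1, [[3,1,0,3,1,0,3,0,4,0,3,2,0,3,2,0,3,0,4,0,4,1,3,3,0,3,3,2,0,4,0,4,0,4,0,3,1,4,4,0,4,4,1],
  [3,1,0,3,1,0,3,0,4,0,3,2,0,3,2,0,3,0,4,0,4,1,3,3,0,3,3,2,0,4,0,4,0,4,0,3,1,4,4,0,4,4,1],
  [3,1,0,3,1,0,3,0,4,0,3,2,0,3,2,0,3,0,4,0,4,1,3,3,0,3,3,2,0,4,0,4,0,4,0,3,1,4,4,0,4,4,1],
  [3,1,0,3,1,0,3,0,4,0,3,2,0,3,2,0,3,0,4,0,4,1,3,3,0,3,3,2,0,4,0,4,0,4,0,3,1,4,4,0,4,4,1],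
  [3,1,0,3,1,0,3,0,4,0,3,2,0,3,2,0,3,0,4,0,4,1,3,3,0,3,3,2,0,4,0,4,0,4,0,3,1,4,4,0,4,4,1],
  [3,1,0,3,1,0,3,0,4,0,3,2,0,3,2,0,3,0,4,0,4,1,3,3,0,3,3,2,0,4,0,4,0,4,0,3,1,4,4,0,4,4,1],
  [3,1,0,3,1,0,3,0,4,0,3,2,0,3,2,0,3,0,4,0,4,1,3,3,0,3,3,2,0,4,0,4,0,4,0,3,1,4,4,0,4,4,1]], 0, [], []⟩

/-- Data. -/
noncomputable def row7 : RelRow := ⟨2, [[3,1,0,3,1,0,3,0,4,0,3,2,0,3,2,0,3,0,4,0,4,1,3,3,0,3,3,2,0,4,0,4,0,4,0,3,1,4,4,0,4,4,1]], 7, [3,1,0,3,1,0,3,0,4,0,3,2,0,3,2,0,1,4,1,4,0,3,2,3,2,2,0,3,0,3,1,4,2,0,4,2,3,0,3,3,3,0,3,0,4,0,3,0,2,4,0,4,1,1,0,4,1,3], [3,1,0,3,1,0,3,0,4,0,3,2,0,3,2,0,3,0,4,0,4,1,3,3,0,3,3,2,0,4,4,0,4,0,3,0,3,3,0,3,1,4,0,3,2,4,2,4]⟩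

/-- Data. -/
noncomputable def row8 : RelRow := ⟨0, [[3,0,4,0,4,1,3,3,0,3,3,2,0,4,4,0,1,3,0,4,4,0,4,2,0,4,2,4,0,4,0,1],
  [3,0,4,0,4,1,3,3,0,3,3,2,0,4,4,0,1,3,0,4,4,0,4,2,0,4,2,4,0,4,0,1],
  [3,0,4,0,4,1,3,3,0,3,3,2,0,4,4,0,1,3,0,4,4,0,4,2,0,4,2,4,0,4,0,1],
  [3,0,4,0,4,1,3,3,0,3,3,2,0,4,4,0,1,3,0,4,4,0,4,2,0,4,2,4,0,4,0,1],
  [3,0,4,0,4,1,3,3,0,3,3,2,0,4,4,0,1,3,0,4,4,0,4,2,0,4,2,4,0,4,0,1],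
  [3,0,4,0,4,1,3,3,0,3,3,2,0,4,4,0,1,3,0,4,4,0,4,2,0,4,2,4,0,4,0,1],
  [3,0,4,0,4,1,3,3,0,3,3,2,0,4,4,0,1,3,0,4,4,0,4,2,0,4,2,4,0,4,0,1],
  [3,0,4,0,4,1,3,3,0,3,3,2,0,4,4,0,1,3,0,4,4,0,4,2,0,4,2,4,0,4,0,1]], 0, [0,1,3,1,3,0,4,2,4,2,4,0,3,0,4,0,3,0,1,4,1,4,0,3,2,3,2,0,4,1,3,3,0,3,3,2,0,4,4,0,4,0,3,0,3,3,0,3,3,2,4,2,0,3], []⟩

/-- Data. -/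
noncomputable def row9 : RelRow := ⟨0, [[0,1,3,1,3,0,4,2,4,2,4,0,3,0,4,0,3,0,1,4,1,4,0,3,2,3,2,3,0,4,2,0,3,0,3,1,4,2,0,4,2,3,0,3,0,4,4,4,0,4,1,3,1,4,1],
  [0,1,3,1,3,0,4,2,4,2,4,0,3,0,4,0,3,0,1,4,1,4,0,3,2,3,2,3,0,4,2,0,3,0,3,1,4,2,0,4,2,3,0,3,0,4,4,4,0,4,1,3,1,4,1],
  [0,1,3,1,3,0,4,2,4,2,4,0,3,0,4,0,3,0,1,4,1,4,0,3,2,3,2,3,0,4,2,0,3,0,3,1,4,2,0,4,2,3,0,3,0,4,4,4,0,4,1,3,1,4,1],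
  [0,1,3,1,3,0,4,2,4,2,4,0,3,0,4,0,3,0,1,4,1,4,0,3,2,3,2,3,0,4,2,0,3,0,3,1,4,2,0,4,2,3,0,3,0,4,4,4,0,4,1,3,1,4,1]], 0, [3,1,0,3,1,0,3,0,4,0,3,2,0,3,2,0,1,4,1,4,0,3,2,3,2,2,0,3,0,3,1,4,2,0,4,2,3,0,4,0,3,0,4,0,4,1,4,1,3,0,4], []⟩

/-- Data. -/
noncomputable def row10 : RelRow := ⟨0, [[1,4,1,4,0,3,2,3,2,0,4,1,3,3,0,3,3,2,0,4,4,4,0,3,0,4,0,4,0,2,3,0,4,4,2],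
  [1,4,1,4,0,3,2,3,2,0,4,1,3,3,0,3,3,2,0,4,4,4,0,3,0,4,0,4,0,2,3,0,4,4,2],
  [1,4,1,4,0,3,2,3,2,0,4,1,3,3,0,3,3,2,0,4,4,4,0,3,0,4,0,4,0,2,3,0,4,4,2],
  [1,4,1,4,0,3,2,3,2,0,4,1,3,3,0,3,3,2,0,4,4,4,0,3,0,4,0,4,0,2,3,0,4,4,2],
  [1,4,1,4,0,3,2,3,2,0,4,1,3,3,0,3,3,2,0,4,4,4,0,3,0,4,0,4,0,2,3,0,4,4,2],
  [1,4,1,4,0,3,2,3,2,0,4,1,3,3,0,3,3,2,0,4,4,4,0,3,0,4,0,4,0,2,3,0,4,4,2],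
  [1,4,1,4,0,3,2,3,2,0,4,1,3,3,0,3,3,2,0,4,4,4,0,3,0,4,0,4,0,2,3,0,4,4,2],
  [1,4,1,4,0,3,2,3,2,0,4,1,3,3,0,3,3,2,0,4,4,4,0,3,0,4,0,4,0,2,3,0,4,4,2]], 0, [0,1,3,1,3,0,4,2,4,2,4,0,3,0,4,0,3,0,1,4,1,4,0,3,2,3,2,2,0,3,0,3,1,4,2,0,4,2,3,1,3,0,4,4,0,4,2,0,1,3,1,0,4,2,4,0,4], []⟩

/-- Data. -/
noncomputable def row11 : RelRow := ⟨0, [[0,1,3,1,3,0,4,2,4,2,4,0,3,0,4,0,3,0,1,4,1,4,0,3,2,3,2,4,1,3,2,3,3,0,3,2,3,2,3,3,0,2,3,0,1,3,0,3,1,3,2,2],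
  [0,1,3,1,3,0,4,2,4,2,4,0,3,0,4,0,3,0,1,4,1,4,0,3,2,3,2,4,1,3,2,3,3,0,3,2,3,2,3,3,0,2,3,0,1,3,0,3,1,3,2,2],
  [0,1,3,1,3,0,4,2,4,2,4,0,3,0,4,0,3,0,1,4,1,4,0,3,2,3,2,4,1,3,2,3,3,0,3,2,3,2,3,3,0,2,3,0,1,3,0,3,1,3,2,2],
  [0,1,3,1,3,0,4,2,4,2,4,0,3,0,4,0,3,0,1,4,1,4,0,3,2,3,2,4,1,3,2,3,3,0,3,2,3,2,3,3,0,2,3,0,1,3,0,3,1,3,2,2],
  [0,1,3,1,3,0,4,2,4,2,4,0,3,0,4,0,3,0,1,4,1,4,0,3,2,3,2,4,1,3,2,3,3,0,3,2,3,2,3,3,0,2,3,0,1,3,0,3,1,3,2,2]], 0, [3,1,0,3,1,0,3,0,4,0,3,2,0,3,2,0,1,4,1,4,0,3,2,3,2,4,1,3,2,3,3,0,3,2,3,2,4,4,0,3,0,4,1,4,1,0,4,1,0,2,4,4], []⟩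

/-- Data. -/
noncomputable def rows : List RelRow := [row0, row1, row2, row3, row4, row5, row6, row7, row8, row9, row10, row11]

end Cfsg.Agent.SuzRecog.MS.RelData
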