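import Cfsg.Agent.SuzRecog.RelDefs
import Cfsg.Agent.SuzRecog.RelData

/-!
The checks on the relations.
-/

set_option autoImplicit false
set_option maxRecDepth 100000
set_option maxHeartbeats 0
set_option Elab.async false

namespace Cfsg.Agent.SuzRecog.MS.RelData

open Cfsg.Agent.Compute

theorem y_ok : yB y = true := by decide +kernel

theorem w_ok : wB w mt one zi = true := by decide +kernel

theorem com_ok : allBelow 128 (comB y w wit) = true := by decide +kernel

theorem inv_ok : allBelow Data.k invB = true := by decide +kernel

theorem row0_ok : rowB y row0 = true := by decide +kernel

theorem row1_ok : rowB y row1 = true := by decide +kernel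

theorem row2_ok : rowB y row2 = true := by decide +kernel

theorem row3_ok : rowB y row3 = true := by decide +kernel

theorem row4_ok : rowB y row4 = true := by decide +kernel

theorem row5_ok : rowB y row5 = true := by decide +kernel

theorem row6_ok : rowB y row6 = true := by decide +kernel

theorem row7_ok : rowB y row7 = true := by decide +kernel

theorem row8_ok : rowB y row8 = true := by decide +kernel

theorem row9_ok : rowB y row9 = true := by decide +kernel

theorem row10_ok : rowB y row10 = true := by decide +kernel

theorem row11_ok : rowB y row11 = true := by decide +kernel

end Cfsg.Agent.SuzRecog.MS.RelData
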