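import Cfsg.Agent.SuzRecog.RelCheck
import Cfsg.Agent.SuzRecog.RelFacts

/-!
The relations of the certificate hold along every link.
-/

set_option autoImplicit false
set_option maxRecDepth 100000

open Cfsg Cfsg.Agent.LargeExtra Cfsg.Agent.SuzType Cfsg.Agent.StemCert

namespace Cfsg.Agent.SuzRecog.MS

theorem ne_nil_of_len {l : List (List ℕ)} (h : Nat.beq l.length 0 = false) : l ≠ [] := fun e => by
  subst e
  exact Bool.noConfusion h

theorem rows_ok : ∀ r ∈ RelData.rows, rowB RelData.y r = true ∧ relFull r ≠ [] := by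
  unfold RelData.rows
  simp only [List.forall_mem_cons]
  exact ⟨⟨RelData.row0_ok, ne_nil_of_len (by decide +kernel)⟩,
    ⟨RelData.row1_ok, ne_nil_of_len (by decide +kernel)⟩,
    ⟨RelData.row2_ok, ne_nil_of_len (by decide +kernel)⟩,
    ⟨RelData.row3_ok, ne_nil_of_len (by decide +kernel)⟩,
    ⟨RelData.row4_ok, ne_nil_of_len (by decide +kernel)⟩,
    ⟨RelData.row5_ok, ne_nil_of_len (by decide +kernel)⟩,
    ⟨RelData.row6_ok, ne_nil_of_len (by decide +kernel)⟩,
    ⟨RelData.row7_ok, ne_nil_of_len (by decide +kernel)⟩,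
    ⟨RelData.row8_ok, ne_nil_of_len (by decide +kernel)⟩,
    ⟨RelData.row9_ok, ne_nil_of_len (by decide +kernel)⟩,
    ⟨RelData.row10_ok, ne_nil_of_len (by decide +kernel)⟩,
    ⟨RelData.row11_ok, ne_nil_of_len (by decide +kernel)⟩, fun _ h => absurd h List.not_mem_nil⟩

/-- A relation of the list holds along a link. -/
theorem row_rel.{v} [Finite Spor.Suz] {G₂ : Type v} [Group G₂] [Finite G₂] {z₂ : G₂} {S₁ : Suz zE}
    {S₂ : Suz z₂} {E : Spor.Suz → G₂} {E' : G₂ → Spor.Suz} {t₂ : G₂} (F : S₁.Fr wE)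
    (L : Link S₁ S₂ E E' wE tE t₂) {r : RelRow} (hr : r ∈ RelData.rows) :
    gWord E t₂ (1 :: (relFull r).dropLast.map (evalW gen)) =
      E (evalW gen (invW ((relFull r).getLastD []))) :=
  rel_of_rowB (mt := RelData.mt) (wit := RelData.wit) (one := RelData.one) (zi := RelData.zi)
    ⟨RelData.y_ok, RelData.w_ok, RelData.com_ok, RelData.inv_ok⟩ F L (rows_ok r hr).1 (rows_ok r hr).2

end Cfsg.Agent.SuzRecog.MS
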