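import Cfsg.Agent.SuzRecog.CentIso

/-!
The part of `oc (w * z)` centralising `z` is recognised inside the centraliser of `z`, so an
isomorphism of centralisers respects it.
-/

set_option autoImplicit false

open Cfsg Cfsg.Agent.ThreeTrans.OrthCohom Cfsg.Agent.Classical.Quad QuadraticMap Cfsg.Agent.LargeExtra
  Cfsg.Agent.SuzType Cfsg.Agent.SuzType.Suz

namespace Cfsg.Agent.SuzRecog

theorem ns_split : ∀ v : Fin 64, Bn v.val 1 = false → ∃ a : Fin 64, Bn a.val 1 = false ∧
    qn a.val = true ∧ qn (v.val ^^^ a.val) = true := by decide +kernel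

variable {G : Type*} [Group G] [Finite G] {z w : G} {S : Suz z}

/-- An element with the commutators of `oc w` over the non-singular Siegel map lies in `oc w`. -/
theorem mem_of_com (F : S.Fr w) {y : G} (hyz : y * z = z * y)
    (hyv : ∀ u, (S.act y).1 u = sg (dc 16) u)
    (h : ∀ a ∈ oc z, Bp (S.pr a) (dc 1) = 0 →
      y * a * y⁻¹ * a⁻¹ = zp (w * z) (Bp (S.pr a) (dc 16))) : y ∈ oc w := by
  have h16 : Bp (dc 16) (dc 1) = 0 := by rw [Bp_dc (by norm_num) (by norm_num)]; rfl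
  obtain ⟨x, hx, hxz, hxv⟩ := exists_sg F h16
  have hr : x⁻¹ * y ∈ oc z := S.act_ker _ (Commute.mul_left (Commute.inv_left hxz) hyz).eq (by
    rw [S.act_mul (Commute.inv_left hxz).eq hyz, S.act_inv hxz, ext_oG (g := S.act y) (h := S.act x)
      (fun u => by rw [hyv, hxv]), inv_mul_cancel])
  set r := x⁻¹ * y with hrd
  have hy : y = x * r := by rw [hrd]; group
  have hperp : ∀ v : Fin 64, Bn v.val 1 = false → Bn (cd (S.pr r)).val v.val = false := by
    intro v hv
    obtain ⟨a, ha, hav⟩ := S.pr_surj (dc v.val)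
    have hae : Bp (S.pr a) (dc 1) = 0 := by rw [hav, Bp_dc v.isLt (by norm_num), hv]; rfl
    have e1 := h a ha hae
    have e2 := com_eq F hx hxz hxv ha hae
    have e3 := S.commutator_eq hr ha
    have e4 : y * a * y⁻¹ * a⁻¹ = x * (r * a * r⁻¹ * a⁻¹) * x⁻¹ * (x * a * x⁻¹ * a⁻¹) := by
      rw [hy]; group
    rw [e1, e3, e2, S.comm_zp hxz, mul_inv_cancel_right] at e4
    have e5 := zp_inj S.zne (a := Bp (S.pr r) (S.pr a)) (b := 0)
      (by rw [zp_zero]; exact mul_eq_right.1 e4.symm)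
    rw [hav, ← dc_cd (S.pr r), Bp_dc (cd _).isLt v.isLt, bz_eq_zero] at e5
    exact e5
  have hsmall : (cd (S.pr r)).val = 0 ∨ (cd (S.pr r)).val = 1 :=
    (by decide +kernel : ∀ i : Fin 64, (∀ v : Fin 64, Bn v.val 1 = false → Bn i.val v.val = false) →
      i.val = 0 ∨ i.val = 1) _ hperp
  exact hy ▸ mul_mem hx (lift_small F hr (dc_cd _).symm hsmall).1

theorem mul_z_z (w : G) (S : Suz z) : w * z * z = w := by rw [mul_assoc, S.zz, mul_one]

/-- The elements over a non-singular Siegel map are conjugate to those over the standard one. -/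
theorem exists_to_sixteen (F : S.Fr w) {x : G} (hxz : x * z = z * x) {v : V}
    (hxv : ∀ u, (S.act x).1 u = sg v u) (hv : Bp v (dc 1) = 0) (hq : qn (cd v).val = true) :
    ∃ c, c * z = z * c ∧ c * w = w * c ∧
      ∀ u, (S.act (c * x * c⁻¹)).1 u = sg (dc 16) u := by
  set i := cd v with hi
  obtain ⟨a, ⟨ha, ha1⟩, b, ⟨hb, hb1⟩, hab⟩ := stab_orbit i
    (by rw [← bz_eq_zero, ← Bp_dc i.isLt (by norm_num), dc_cd]; exact hv)
    (fun e => by rw [e] at hq; exact absurd hq (by decide))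
    (fun e => by rw [e] at hq; exact absurd hq (by decide))
  obtain ⟨r, hr, hract⟩ := exists_rr a.isLt b.isLt ha hb
  have hsym : ∀ i : Fin 64, Bn 1 i.val = Bn i.val 1 := by decide +kernel
  have he : r.1 (dc 1) = dc 1 := by
    rw [hract 1 (by norm_num)]
    congr 1
    simp [g2n, hsym, hb1, ha1]
  obtain ⟨c, hc, hcw, rfl⟩ := exists_stab F r hr he
  have hci := (Commute.inv_left hc).eq
  refine ⟨c, hc, hcw, fun u => ?_⟩
  rw [S.act_mul (Commute.mul_left hc hxz).eq hci, S.act_mul hc hxz, S.act_inv hc, oG_mul_apply,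
    oG_mul_apply, hxv, sg_equiv _ he, oG_apply_inv, show v = dc i.val from (dc_cd v).symm,
    hract _ i.isLt]
  rw [if_pos hq] at hab
  rcases hab with e | e <;> rw [e]
  rw [← dc_cd u, sg_dc (by norm_num) (cd u).isLt, sg_dc (by norm_num) (cd u).isLt, sg17]

variable {G₂ : Type*} [Group G₂] [Finite G₂] {z₂ : G₂} {S₂ : Suz z₂}

/-- A map of centralisers compatible with the two settings. -/
structure Comp (S : Suz z) (S₂ : Suz z₂) (E : G → G₂) : Prop where
  map_mul : ∀ a b, a * z = z * a → b * z = z * b → E (a * b) = E a * E b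
  comm : ∀ a, a * z = z * a → E a * z₂ = z₂ * E a
  map_z : E z = z₂
  mem : ∀ a ∈ oc z, E a ∈ oc z₂
  map_pr : ∀ a ∈ oc z, S₂.pr (E a) = S.pr a
  map_act : ∀ a, a * z = z * a → S₂.act (E a) = S.act a

namespace Comp

variable {E : G → G₂} (hE : Comp S S₂ E)
include hE

theorem map_one : E 1 = 1 := by
  have h := hE.map_mul 1 1 (by simp) (by simp)
  rw [one_mul] at h
  exact mul_eq_left.1 h.symm

theorem map_inv {a : G} (ha : a * z = z * a) : E a⁻¹ = (E a)⁻¹ :=
  eq_inv_of_mul_eq_one_right (by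
    rw [← hE.map_mul a a⁻¹ ha (Commute.inv_left ha).eq, mul_inv_cancel, hE.map_one])

theorem map_conj {a b : G} (ha : a * z = z * a) (hb : b * z = z * b) :
    E (a * b * a⁻¹) = E a * E b * (E a)⁻¹ := by
  rw [hE.map_mul _ _ (Commute.mul_left ha hb).eq (Commute.inv_left ha).eq, hE.map_mul _ _ ha hb,
    hE.map_inv ha]

theorem map_comm {a b : G} (ha : a * z = z * a) (hb : b * z = z * b) (h : a * b = b * a) :
    E a * E b = E b * E a := by rw [← hE.map_mul a b ha hb, h, hE.map_mul b a hb ha]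

theorem surj_oc {b : G₂} (hb : b ∈ oc z₂) : ∃ a ∈ oc z, E a = b := by
  obtain ⟨a, ha, hab⟩ := S.pr_surj (S₂.pr b)
  rcases S₂.pr_eq (hE.mem a ha) hb ((hE.map_pr a ha).trans hab) with e | e
  · exact ⟨a, ha, e.symm⟩
  · exact ⟨a * z, mul_mem ha S.zmem, by rw [hE.map_mul a z (S.comm ha) rfl, hE.map_z, e]⟩

theorem map_fr (F : S.Fr w) : S₂.Fr (E w) := by
  have hp : S₂.pr (E w) = dc 1 := (hE.map_pr w F.mem).trans F.pr_eq
  refine ⟨hE.mem w F.mem, isConj_iff.1 (S₂.conj_of_singular (hE.mem w F.mem) ?_ ?_), hp⟩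
  · rw [hp]; exact dc1_ne_zero
  · rw [hp, q_dc (by norm_num)]; rfl

/-- The part of `oc (w * z)` centralising `z` is respected. -/
theorem map_side (F : S.Fr w) {x : G} (hx : x ∈ oc (w * z)) (hxz : x * z = z * x) :
    E x ∈ oc (E (w * z)) := by
  have F' := Fr_mul_z F
  have F₂ := hE.map_fr F'
  have h16 : ∀ {y : G}, y ∈ oc (w * z) → y * z = z * y →
      (∀ u, (S.act y).1 u = sg (dc 16) u) → E y ∈ oc (E (w * z)) := by
    intro y hy hyz hyv
    refine mem_of_com F₂ (hE.comm y hyz) (fun u => by rw [hE.map_act y hyz, hyv]) fun b hb hbe => ?_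
    obtain ⟨a, ha, rfl⟩ := hE.surj_oc hb
    rw [hE.map_pr a ha] at hbe ⊢
    have hza := S.comm ha
    have e := congrArg E (com_eq F' hy hyz hyv ha hbe)
    rw [hE.map_mul _ _ (S.comm (S.nrm hyz ha)) (Commute.inv_left hza).eq, hE.map_conj hyz hza,
      hE.map_inv hza] at e
    rw [e]
    rcases zmod_cases (Bp (S.pr a) (dc 16)) with e' | e' <;> rw [e']
    · rw [zp_zero, zp_zero, hE.map_one]
    · rw [zp_one, zp_one, ← hE.map_z, ← hE.map_mul _ _ (S.comm F'.mem) rfl]
  have hns : ∀ {y : G} {v : V}, y ∈ oc (w * z) → y * z = z * y →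
      (∀ u, (S.act y).1 u = sg v u) → Bp v (dc 1) = 0 → qn (cd v).val = true →
      E y ∈ oc (E (w * z)) := by
    intro y v hy hyz hyv hv hq
    obtain ⟨c, hc, hcw, hcv⟩ := exists_to_sixteen F hyz hyv hv hq
    have hcu : c * (w * z) = w * z * c := (Commute.mul_right (show Commute c w from hcw) hc).eq
    have hm := h16 (nrm_w F' hcu hy) ((Commute.mul_left hc hyz).mul_left (Commute.inv_left hc)).eq hcv
    rw [hE.map_conj hc hyz] at hm
    have h1 := nrm_w F₂ (Commute.inv_left (hE.map_comm hc (S.comm F'.mem) hcu)).eq hm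
    rwa [inv_inv, show (E c)⁻¹ * (E c * E y * (E c)⁻¹) * E c = E y by group] at h1
  obtain ⟨v, hv, hxv⟩ := act_sg F' hx hxz
  obtain ⟨a, ha1, ha, hva⟩ := ns_split (cd v)
    (by rw [← bz_eq_zero, ← Bp_dc (cd v).isLt (by norm_num), dc_cd]; exact hv)
  have hap : Bp (dc a.val) (dc 1) = 0 := by rw [Bp_dc a.isLt (by norm_num), ha1]; rfl
  obtain ⟨y, hy, hyz, hyv⟩ := exists_sg F' hap
  have h1 := hns hy hyz hyv hap (by rw [cd_dc]; exact ha)
  have hyi := (Commute.inv_left hyz).eq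
  have hxy : (y * x) * z = z * (y * x) := (Commute.mul_left hyz hxz).eq
  have h2 : E (y * x) ∈ oc (E (w * z)) := by
    refine hns (v := dc a.val + v) (mul_mem hy hx) hxy (fun u => ?_) ?_ ?_
    · rw [S.act_mul hyz hxz, oG_mul_apply, hxv, hyv, sg_comp hap hv]
    · rw [Bp_add_left, hap, hv, add_zero]
    · have e : dc a.val + v = dc ((cd v).val ^^^ a.val) := by
        rw [dc_xor (cd v).isLt a.isLt, dc_cd, add_comm]
      rw [e, cd_dc ⟨_, xor_lt (cd v).isLt a.isLt⟩]
      exact hva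
  rw [hE.map_mul y x hyz hxz] at h2
  have := mul_mem (inv_mem h1) h2
  rwa [inv_mul_cancel_left] at this

end Comp

end Cfsg.Agent.SuzRecog
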