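import Cfsg.Agent.SuzRecog.Swap

/-!
The common centraliser of `z` and `w` is generated by the side and its commutators: on the
quotient of the perpendicular of the base vector every even isometry is a commutator.
-/

set_option autoImplicit false

open Cfsg Cfsg.Agent.ThreeTrans.OrthCohom Cfsg.Agent.Classical.Quad QuadraticMap Cfsg.Agent.LargeExtra
  Cfsg.Agent.SuzType Cfsg.Agent.SuzType.Suz

namespace Cfsg.Agent.SuzRecog

/-- The pairs of the commutators. -/
def comTable : List (ℕ × ℕ × ℕ × ℕ) :=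
  [
   (10, 10, 10, 10), (10, 16, 10, 18), (10, 16, 10, 24), (10, 16, 10, 32), (10, 16, 10, 34), (10, 16, 10, 40),
   (10, 16, 10, 48), (10, 16, 18, 32), (10, 16, 18, 34), (10, 16, 18, 40), (10, 16, 18, 48), (10, 16, 24, 32),
   (10, 16, 24, 34), (10, 16, 24, 40), (10, 16, 24, 48), (10, 18, 10, 32), (10, 18, 10, 34), (10, 18, 10, 40),
   (10, 18, 10, 48), (10, 18, 10, 50), (10, 18, 10, 56), (10, 18, 16, 32), (10, 18, 16, 34), (10, 18, 16, 40),
   (10, 18, 16, 48), (10, 18, 16, 50), (10, 18, 16, 56), (10, 18, 32, 40), (10, 18, 34, 56), (10, 18, 40, 50),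
   (10, 18, 48, 56), (10, 24, 16, 32), (10, 24, 16, 34), (10, 24, 16, 40), (10, 24, 16, 48), (10, 24, 16, 50),
   (10, 24, 16, 56), (10, 24, 32, 34), (10, 24, 34, 56), (10, 24, 40, 50), (10, 24, 48, 50), (10, 32, 16, 18),
   (10, 32, 16, 24), (10, 32, 18, 34), (10, 32, 24, 40), (10, 34, 10, 50), (10, 34, 16, 32), (10, 34, 18, 50),
   (10, 40, 16, 32), (10, 40, 24, 56), (10, 48, 16, 18), (10, 48, 16, 24), (10, 48, 18, 50), (10, 48, 24, 56),
   (16, 18, 16, 32), (16, 18, 16, 48), (16, 24, 16, 32), (16, 24, 16, 48), (16, 32, 16, 50), (16, 32, 16, 56)]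

/-- The commutator on codes. -/
def comCode (q : ℕ × ℕ × ℕ × ℕ) (v : ℕ) : ℕ :=
  g2n q.1 q.2.1 (g2n q.2.2.1 q.2.2.2 (g2n q.2.1 q.1 (g2n q.2.2.2 q.2.2.1 v)))

/-- The reflection in the code `16`. -/
def refl16 (v : ℕ) : ℕ := if Bn v 16 then v ^^^ 16 else v

/-- The four images modulo the base vector. -/
def four (h : ℕ → ℕ) : List ℕ := [h 2 &&& 58, h 8 &&& 58, h 16 &&& 58, h 32 &&& 58]

theorem comTable_ok : (comTable.all fun q => decide (q.1 < 64) && decide (q.2.1 < 64) &&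
    decide (q.2.2.1 < 64) && decide (q.2.2.2 < 64) && qn q.1 && qn q.2.1 && qn q.2.2.1 && qn q.2.2.2 &&
    !(Bn q.1 1) && !(Bn q.2.1 1) && !(Bn q.2.2.1 1) && !(Bn q.2.2.2 1)) = true := by decide +kernel

/-- The possible images. -/
def targets : List (List ℕ) :=
  comTable.map (fun q => four (comCode q)) ++ comTable.map fun q => four fun v => comCode q (refl16 v)

/-- The possible images, evaluated. -/
def targetsLit : List (List ℕ) :=
  [
   [2, 8, 16, 32], [8, 26, 16, 56], [26, 2, 16, 50], [2, 8, 48, 16], [42, 58, 10, 18], [58, 42, 10, 24], [2, 8, 32, 48], [26, 58, 40, 34],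
   [58, 2, 18, 48], [42, 2, 18, 50], [26, 42, 56, 10], [58, 26, 34, 40], [8, 42, 24, 56], [8, 58, 24, 48], [42, 26, 50, 10], [26, 58, 34, 10],
   [8, 2, 32, 16], [42, 26, 56, 50], [26, 42, 50, 56], [8, 2, 48, 32], [58, 26, 40, 10], [42, 8, 32, 56], [2, 26, 34, 50], [8, 58, 40, 24],
   [58, 8, 48, 24], [2, 26, 50, 16], [8, 42, 56, 32], [8, 42, 32, 24], [8, 26, 56, 40], [8, 26, 40, 16], [8, 58, 48, 40], [2, 42, 32, 50],
   [58, 2, 34, 18], [26, 8, 40, 56], [2, 58, 48, 18], [42, 2, 50, 32], [26, 8, 56, 16], [42, 2, 32, 18], [26, 2, 34, 16], [26, 2, 50, 34],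
   [58, 2, 48, 34], [58, 42, 24, 18], [42, 58, 18, 24], [42, 26, 10, 56], [26, 42, 10, 50], [8, 2, 16, 48], [58, 8, 40, 48], [2, 42, 50, 18],
   [2, 58, 34, 48], [42, 8, 56, 24], [42, 58, 24, 10], [58, 42, 18, 10], [58, 26, 10, 34], [26, 58, 10, 40], [2, 58, 18, 34], [2, 42, 18, 32],
   [58, 8, 24, 40], [42, 8, 24, 32], [2, 26, 16, 34], [26, 8, 16, 40], [2, 8, 16, 48], [8, 26, 16, 40], [26, 2, 16, 34], [2, 8, 48, 32],
   [42, 58, 10, 24], [58, 42, 10, 18], [2, 8, 32, 16], [26, 58, 40, 10], [58, 2, 18, 34], [42, 2, 18, 32], [26, 42, 56, 50], [58, 26, 34, 10],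
   [8, 42, 24, 32], [8, 58, 24, 40], [42, 26, 50, 56], [26, 58, 34, 40], [8, 2, 32, 48], [42, 26, 56, 10], [26, 42, 50, 10], [8, 2, 48, 16],
   [58, 26, 40, 34], [42, 8, 32, 24], [2, 26, 34, 16], [8, 58, 40, 48], [58, 8, 48, 40], [2, 26, 50, 34], [8, 42, 56, 24], [8, 42, 32, 56],
   [8, 26, 56, 16], [8, 26, 40, 56], [8, 58, 48, 24], [2, 42, 32, 18], [58, 2, 34, 48], [26, 8, 40, 16], [2, 58, 48, 34], [42, 2, 50, 18],
   [26, 8, 56, 40], [42, 2, 32, 50], [26, 2, 34, 50], [26, 2, 50, 16], [58, 2, 48, 18], [58, 42, 24, 10], [42, 58, 18, 10], [42, 26, 10, 50],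
   [26, 42, 10, 56], [8, 2, 16, 32], [58, 8, 40, 24], [2, 42, 50, 32], [2, 58, 34, 18], [42, 8, 56, 32], [42, 58, 24, 18], [58, 42, 18, 24],
   [58, 26, 10, 40], [26, 58, 10, 34], [2, 58, 18, 48], [2, 42, 18, 50], [58, 8, 24, 48], [42, 8, 24, 56], [2, 26, 16, 50], [26, 8, 16, 56]]

theorem targets_eq : targets = targetsLit := by decide +kernel

/-- The vectors with the given invariants. -/
def withInv (q : Bool) (prev : List (ℕ × Bool)) : List ℕ :=
  (List.range 64).filter fun v => (v &&& 58 == v) && (qn v == q) &&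
    prev.all fun p => Bn p.1 v == p.2

theorem targets_complete :
    ((withInv (qn 2) []).all fun a => (withInv (qn 8) [(a, Bn 2 8)]).all fun b =>
      (withInv (qn 16) [(a, Bn 2 16), (b, Bn 8 16)]).all fun c =>
      (withInv (qn 32) [(a, Bn 2 32), (b, Bn 8 32), (c, Bn 16 32)]).all fun d =>
      targetsLit.contains [a, b, c, d]) = true := by decide +kernel

theorem mask_code : ∀ v : Fin 64, Bn v.val 1 = false → v.val &&& 58 < 64 ∧
    (v.val &&& 58) &&& 58 = v.val &&& 58 ∧ qn (v.val &&& 58) = qn v.val ∧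
    ((v.val = v.val &&& 58) ∨ (v.val = (v.val &&& 58) ^^^ 1)) := by decide +kernel

theorem mask_Bn : ∀ v w : Fin 64, Bn v.val 1 = false → Bn w.val 1 = false →
    Bn (v.val &&& 58) (w.val &&& 58) = Bn v.val w.val := by decide +kernel

theorem mask_eq : ∀ v w : Fin 64, Bn v.val 1 = false → Bn w.val 1 = false →
    v.val &&& 58 = w.val &&& 58 → v.val ^^^ w.val ∈ [0, 1] := by decide +kernel

theorem gen_code : ∀ p ∈ [(2, 16, 18, 32), (8, 16, 24, 32), (16, 10, 16, 32), (32, 10, 32, 16)],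
    p.1 < 64 ∧ p.2.1 < 64 ∧ p.2.2.1 < 64 ∧ p.2.2.2 < 64 ∧ qn p.2.1 = true ∧ qn p.2.2.1 = true ∧
    Bn p.2.1 1 = false ∧ Bn p.2.2.1 1 = false ∧ Bn p.2.2.2 1 = false ∧
    g2n p.2.1 p.2.2.1 p.2.2.2 ^^^ p.2.2.2 ^^^ p.1 ∈ [0, 1] := by decide +kernel

theorem refl_inv : ∀ a v : Fin 64, qn a.val = true →
    (if Bn (if Bn v.val a.val then v.val ^^^ a.val else v.val) a.val then
      (if Bn v.val a.val then v.val ^^^ a.val else v.val) ^^^ a.val
      else (if Bn v.val a.val then v.val ^^^ a.val else v.val)) = v.val := by decide +kernel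

theorem g2n_inv (a b v : Fin 64) (ha : qn a.val = true) (hb : qn b.val = true) :
    g2n a.val b.val (g2n b.val a.val v.val) = v.val := by
  have h1 : (if Bn v.val a.val then v.val ^^^ a.val else v.val) < 64 := by
    split_ifs
    exacts [xor_lt v.isLt a.isLt, v.isLt]
  have e := refl_inv b ⟨_, h1⟩ hb
  dsimp only at e
  unfold g2n
  dsimp only
  rw [e]
  exact refl_inv a v ha

theorem g2n_base : ∀ a b : Fin 64, Bn a.val 1 = false → Bn b.val 1 = false →
    g2n a.val b.val 1 = 1 := by decide +kernel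

variable {G : Type*} [Group G] [Finite G] {z w : G} {S : Suz z}

theorem sideGen (F : S.Fr w) : SideGen z w := by
  classical
  have F' := Fr_mul_z F
  set u := w * z with hu
  let D : G → Prop := fun d => d * z = z * d ∧ d * w = w * d
  set K := Subgroup.closure
    ({h | h ∈ oc u ∧ h * z = z * h} ∪
      {x | ∃ a b, (a * z = z * a ∧ a * w = w * a) ∧ (b * z = z * b ∧ b * w = w * b) ∧
        x = a * b * a⁻¹ * b⁻¹}) with hK
  have hside : ∀ {h}, h ∈ oc u → h * z = z * h → h ∈ K := fun h1 h2 =>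
    Subgroup.subset_closure (Or.inl ⟨h1, h2⟩)
  have hcom : ∀ {a b}, D a → D b → a * b * a⁻¹ * b⁻¹ ∈ K := fun ha hb =>
    Subgroup.subset_closure (Or.inr ⟨_, _, ha, hb, rfl⟩)
  have hzK : z ∈ K := hside (zmem_oc F') rfl
  have huK : u ∈ K := hside (mem_oc_self (wset F').ord) (S.comm F'.mem)
  have hwK : w ∈ K := by
    have := mul_mem huK hzK
    rwa [hu, mul_z_z w S] at this
  have hrr : ∀ {a b : ℕ}, a < 64 → b < 64 → qn a = true → qn b = true → Bn a 1 = false → Bn b 1 = false →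
      ∃ c, D c ∧ ∀ v, v < 64 → (S.act c).1 (dc v) = dc (g2n a b v) := by
    intro a b ha hb hqa hqb ha1 hb1
    obtain ⟨r, hr, hract⟩ := exists_rr ha hb hqa hqb
    have he : r.1 (dc 1) = dc 1 := by
      rw [hract 1 (by norm_num), g2n_base ⟨a, ha⟩ ⟨b, hb⟩ ha1 hb1]
    obtain ⟨c, hc, hcw, rfl⟩ := exists_stab F r hr he
    exact ⟨c, ⟨hc, hcw⟩, hract⟩
  -- the part inside `oc z`
  have hQ : ∀ a ∈ oc z, a * w = w * a → a ∈ K := by
    have hsmall : ∀ {a}, a ∈ oc z → ∀ i ∈ [0, 1], S.pr a = dc i → a ∈ K := by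
      intro a ha i hi e
      simp only [List.mem_cons, List.not_mem_nil, or_false] at hi
      rcases hi with rfl | rfl
      · rcases S.pr_ker a ha (by rw [e, dc_zero]) with rfl | rfl
        exacts [one_mem _, hzK]
      · rcases S.pr_eq F.mem ha (F.pr_eq.trans e.symm) with rfl | rfl
        exacts [hwK, mul_mem hwK hzK]
    have hgen : ∀ p ∈ [(2, 16, 18, 32), (8, 16, 24, 32), (16, 10, 16, 32), (32, 10, 32, 16)],
        ∃ t ∈ oc z, t ∈ K ∧ S.pr t = dc p.1 := by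
      intro p hp
      obtain ⟨l0, l1, l2, l3, q1, q2, b1, b2, b3, hx⟩ := gen_code p hp
      obtain ⟨c, hc, hcact⟩ := hrr l1 l2 q1 q2 b1 b2
      obtain ⟨b, hb, hbe⟩ := S.pr_surj (dc p.2.2.2)
      have hbw : b * w = w * b := (S.commute_iff hb F.mem).2 (by
        rw [hbe, F.pr_eq, Bp_dc l3 (by norm_num), b3]; rfl)
      set x := c * b * c⁻¹ * b⁻¹ with hxd
      have hxm : x ∈ oc z := mul_mem (S.nrm hc.1 hb) (inv_mem hb)
      have hxK : x ∈ K := hcom hc ⟨S.comm hb, hbw⟩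
      set n := g2n p.2.1 p.2.2.1 p.2.2.2 ^^^ p.2.2.2
      have hn : n < 64 := xor_lt (g2n_lt l1 l2 l3) l3
      have hxp : S.pr x = dc n := by
        rw [hxd, S.pr_mul _ (S.nrm hc.1 hb) _ (inv_mem hb), S.act_spec c hc.1 b hb, S.pr_inv hb, hbe,
          hcact _ l3, dc_xor (g2n_lt l1 l2 l3) l3]
      obtain ⟨t, ht, hte⟩ := S.pr_surj (dc p.1)
      have hdiff : x⁻¹ * t ∈ K := hsmall (mul_mem (inv_mem hxm) ht) _ hx (by
        rw [S.pr_mul _ (inv_mem hxm) _ ht, S.pr_inv hxm, hxp, hte, dc_xor hn l0])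
      exact ⟨t, ht, by simpa using mul_mem hxK hdiff, hte⟩
    intro a ha haw
    set v := cd (S.pr a) with hv
    have hv1 : Bn v.val 1 = false := by
      rw [← bz_eq_zero, ← Bp_dc v.isLt (by norm_num), hv, dc_cd]; exact perp_of_comm F ha haw
    have hP : ∀ k ∈ [1, 2, 8, 16, 32], v.val &&& k < 64 ∧
        ∃ t, t ∈ oc z ∧ t ∈ K ∧ S.pr t = dc (v.val &&& k) := by
      intro k hk
      refine ⟨lt_of_le_of_lt Nat.and_le_left v.isLt, ?_⟩
      have hk6 : k ∈ [1, 2, 4, 8, 16, 32] := by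
        simp only [List.mem_cons, List.not_mem_nil, or_false] at hk ⊢; omega
      rcases part_cases v k hk6 with e | e <;> rw [e]
      · exact ⟨1, one_mem _, one_mem _, by rw [S.pr_one, dc_zero]⟩
      simp only [List.mem_cons, List.not_mem_nil, or_false] at hk
      rcases hk with rfl | rfl | rfl | rfl | rfl
      · exact ⟨w, F.mem, hwK, F.pr_eq⟩
      · exact hgen (2, 16, 18, 32) (by simp)
      · exact hgen (8, 16, 24, 32) (by simp)
      · exact hgen (16, 10, 16, 32) (by simp)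
      · exact hgen (32, 10, 32, 16) (by simp)
    obtain ⟨l1, t1, g1, k1, q1⟩ := hP 1 (by simp)
    obtain ⟨l2, t2, g2, k2, q2⟩ := hP 2 (by simp)
    obtain ⟨l8, t8, g8, k8, q8⟩ := hP 8 (by simp)
    obtain ⟨l16, t16, g16, k16, q16⟩ := hP 16 (by simp)
    obtain ⟨l32, t32, g32, k32, q32⟩ := hP 32 (by simp)
    have g12 := mul_mem g1 g2
    have g816 := mul_mem g8 g16
    have g4 := mul_mem g12 g816
    have he : S.pr (t1 * t2 * (t8 * t16) * t32) = S.pr a := by
      rw [S.pr_mul _ g4 _ g32, S.pr_mul _ g12 _ g816, S.pr_mul _ g1 _ g2,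
        S.pr_mul _ g8 _ g16, q1, q2, q8, q16, q32, ← dc_xor l1 l2, ← dc_xor l8 l16,
        ← dc_xor (xor_lt l1 l2) (xor_lt l8 l16),
        ← dc_xor (xor_lt (xor_lt l1 l2) (xor_lt l8 l16)) l32, ← perp_code v hv1, hv, dc_cd]
    have hm := mul_mem (mul_mem (mul_mem k1 k2) (mul_mem k8 k16)) k32
    rcases S.pr_eq (mul_mem g4 g32) ha he with e | e <;> rw [e]
    exacts [hm, mul_mem hm hzK]
  -- elements acting as Siegel maps
  have hsieg : ∀ {d}, D d → (∀ x, Bp x (dc 1) = 0 → (S.act d).1 x + x = 0 ∨ (S.act d).1 x + x = dc 1) →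
      d ∈ K := by
    intro d hd hN
    have he : (S.act d).1 (dc 1) = dc 1 := by
      rw [← F.pr_eq, ← S.act_spec d hd.1 w F.mem, hd.2, mul_inv_cancel_right]
    obtain ⟨v, hv, hgv⟩ := exists_sgn _ he hN
    obtain ⟨y, hy, hyz, hyv⟩ := exists_sg F' (v := dc v.val) (by
      rw [Bp_dc v.isLt (by norm_num), hv]; rfl)
    have hq : y⁻¹ * d ∈ oc z := S.act_ker _ (Commute.mul_left (Commute.inv_left hyz) hd.1).eq (by
      rw [S.act_mul (Commute.inv_left hyz).eq hd.1, S.act_inv hyz, ext_oG (g := S.act d) (h := S.act y)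
        (fun x => by rw [hyv, ← dc_cd x, hgv _ (cd x).isLt, sg_dc v.isLt (cd x).isLt]), inv_mul_cancel])
    have hyw : y * w = w * y := by
      rw [show w = u * z from (mul_z_z w S).symm]
      exact (Commute.mul_right (comm_w F' hy) hyz).eq
    have := mul_mem (hside hy hyz) (hQ _ hq (Commute.mul_left (Commute.inv_left hyw) hd.2).eq)
    rwa [mul_inv_cancel_left] at this
  intro d hdz hdw
  show d ∈ K
  have hd : D d := ⟨hdz, hdw⟩
  set g := S.act d with hg
  have he : g.1 (dc 1) = dc 1 := by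
    rw [hg, ← F.pr_eq, ← S.act_spec d hdz w F.mem, hdw, mul_inv_cancel_right]
  let im : ℕ → ℕ := fun k => (cd (g.1 (dc k))).val
  have him : ∀ k ∈ [2, 8, 16, 32], k < 64 ∧ Bn (im k) 1 = false ∧ qn (im k) = qn k := by
    intro k hk
    have hk64 : k < 64 := by revert k; decide
    have hk1 : Bn k 1 = false := by revert k; decide
    refine ⟨hk64, ?_, bz_inj _ _ ?_⟩
    · rw [← bz_eq_zero, ← Bp_dc (cd _).isLt (by norm_num), dc_cd, ← he, polar_g,
        Bp_dc hk64 (by norm_num), hk1]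
      rfl
    · rw [← q_dc (cd _).isLt, dc_cd, g.2, q_dc hk64]
  have hB : ∀ j ∈ [2, 8, 16, 32], ∀ k ∈ [2, 8, 16, 32],
      Bn (im j &&& 58) (im k &&& 58) = Bn j k := by
    intro j hj k hk
    obtain ⟨a1, a2, -⟩ := him j hj
    obtain ⟨b1, b2, -⟩ := him k hk
    rw [show Bn (im j &&& 58) (im k &&& 58) = Bn (im j) (im k) from mask_Bn (cd _) (cd _) a2 b2]
    refine bz_inj _ _ ?_
    rw [← Bp_dc (cd _).isLt (cd _).isLt, dc_cd, dc_cd, polar_g, Bp_dc a1 b1]
  have hmem : four im ∈ targets := by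
    have hin : ∀ k ∈ [2, 8, 16, 32], ∀ prev : List (ℕ × Bool),
        (∀ p ∈ prev, Bn p.1 (im k &&& 58) = p.2) → im k &&& 58 ∈ withInv (qn k) prev := by
      intro k hk prev hprev
      obtain ⟨-, b2, b3⟩ := him k hk
      obtain ⟨m1, m2, m3, -⟩ := mask_code (cd _) b2
      simp only [withInv, List.mem_filter, List.mem_range, Bool.and_eq_true, beq_iff_eq, List.all_eq_true]
      exact ⟨m1, ⟨m2, m3.trans b3⟩, hprev⟩
    have h := targets_complete
    simp only [List.all_eq_true] at h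
    have h2 := h _ (hin 2 (by simp) [] (by simp))
    have h8 := h2 _ (hin 8 (by simp) [(im 2 &&& 58, Bn 2 8)] (by
      simp only [List.mem_singleton]; rintro p rfl; exact hB 2 (by simp) 8 (by simp)))
    have h16 := h8 _ (hin 16 (by simp) [(im 2 &&& 58, Bn 2 16), (im 8 &&& 58, Bn 8 16)] (by
      simp only [List.mem_cons, List.not_mem_nil, or_false]
      rintro p (rfl | rfl)
      exacts [hB 2 (by simp) 16 (by simp), hB 8 (by simp) 16 (by simp)]))
    have h32 := h16 _ (hin 32 (by simp)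
      [(im 2 &&& 58, Bn 2 32), (im 8 &&& 58, Bn 8 32), (im 16 &&& 58, Bn 16 32)] (by
      simp only [List.mem_cons, List.not_mem_nil, or_false]
      rintro p (rfl | rfl | rfl)
      exacts [hB 2 (by simp) 32 (by simp), hB 8 (by simp) 32 (by simp), hB 16 (by simp) 32 (by simp)]))
    rw [targets_eq]
    exact List.contains_iff_mem.1 h32
  -- comparing with an isometry with the same four images
  have hagree : ∀ (q : O) (code : ℕ → ℕ), q.1 (dc 1) = dc 1 →
      (∀ v, v < 64 → code v < 64 ∧ q.1 (dc v) = dc (code v)) → four im = four code →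
      ∀ x, Bp x (dc 1) = 0 → (q⁻¹ * g).1 x + x = 0 ∨ (q⁻¹ * g).1 x + x = dc 1 := by
    intro q code hq hcode hf x hx
    simp only [four, List.cons.injEq, and_true] at hf
    have hg4 : ∀ k ∈ [1, 2, 8, 16, 32], g.1 (dc k) + q.1 (dc k) = 0 ∨ g.1 (dc k) + q.1 (dc k) = dc 1 := by
      intro k hk
      simp only [List.mem_cons, List.not_mem_nil, or_false] at hk
      have key : ∀ k ∈ [2, 8, 16, 32], im k &&& 58 = code k &&& 58 →
          g.1 (dc k) + q.1 (dc k) = 0 ∨ g.1 (dc k) + q.1 (dc k) = dc 1 := by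
        intro k hk4 e
        obtain ⟨k64, b2, -⟩ := him k hk4
        obtain ⟨c64, ce⟩ := hcode k k64
        have hc1 : Bn (code k) 1 = false := by
          have hk1 : Bn k 1 = false := (by decide : ∀ k ∈ [2, 8, 16, 32], Bn k 1 = false) k hk4
          rw [← bz_eq_zero, ← Bp_dc c64 (by norm_num), ← ce, ← hq, polar_g,
            Bp_dc k64 (by norm_num), hk1]
          rfl
        have hx01 := mask_eq (cd _) ⟨code k, c64⟩ b2 hc1 e
        rw [ce, ← dc_cd (g.1 (dc k)), ← dc_xor (cd _).isLt c64]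
        simp only [List.mem_cons, List.not_mem_nil, or_false] at hx01
        rcases hx01 with e' | e' <;> rw [e']
        exacts [Or.inl dc_zero, Or.inr rfl]
      rcases hk with rfl | rfl | rfl | rfl | rfl
      · rw [he, hq, v_add_self]; exact Or.inl rfl
      exacts [key 2 (by simp) hf.1, key 8 (by simp) hf.2.1, key 16 (by simp) hf.2.2.1,
        key 32 (by simp) hf.2.2.2]
    let Z : Submodule (ZMod 2) V := Submodule.span (ZMod 2) {dc 1}
    have hZ : ∀ {y : V}, y ∈ Z ↔ y = 0 ∨ y = dc 1 := by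
      intro y
      rw [Submodule.mem_span_singleton]
      constructor
      · rintro ⟨a, rfl⟩
        rcases zmod_cases a with rfl | rfl <;> simp
      · rintro (rfl | rfl)
        exacts [⟨0, zero_smul _ _⟩, ⟨1, one_smul _ _⟩]
    let M : Submodule (ZMod 2) V := Z.comap ((g.1 : V →ₗ[ZMod 2] V) + (q.1 : V →ₗ[ZMod 2] V))
    set v := cd x with hv
    have hv1 : Bn v.val 1 = false := by
      rw [← bz_eq_zero, ← Bp_dc v.isLt (by norm_num), hv, dc_cd]; exact hx
    have hP : ∀ k ∈ [1, 2, 8, 16, 32], v.val &&& k < 64 ∧ dc (v.val &&& k) ∈ M := by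
      intro k hk
      refine ⟨lt_of_le_of_lt Nat.and_le_left v.isLt, ?_⟩
      have hk6 : k ∈ [1, 2, 4, 8, 16, 32] := by
        simp only [List.mem_cons, List.not_mem_nil, or_false] at hk ⊢; omega
      rcases part_cases v k hk6 with e | e <;> rw [e]
      · rw [dc_zero]; exact M.zero_mem
      · exact hZ.2 (hg4 k hk)
    obtain ⟨l1, e1⟩ := hP 1 (by simp)
    obtain ⟨l2, e2⟩ := hP 2 (by simp)
    obtain ⟨l8, e8⟩ := hP 8 (by simp)
    obtain ⟨l16, e16⟩ := hP 16 (by simp)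
    obtain ⟨l32, e32⟩ := hP 32 (by simp)
    have hxM : x ∈ M := by
      rw [← dc_cd x, ← hv, perp_code v hv1,
        dc_xor (xor_lt (xor_lt l1 l2) (xor_lt l8 l16)) l32, dc_xor (xor_lt l1 l2) (xor_lt l8 l16),
        dc_xor l1 l2, dc_xor l8 l16]
      exact M.add_mem (M.add_mem (M.add_mem e1 e2) (M.add_mem e8 e16)) e32
    have hy : g.1 x + q.1 x = 0 ∨ g.1 x + q.1 x = dc 1 := hZ.1 hxM
    have hsum : q.1 ((q⁻¹ * g).1 x + x) = g.1 x + q.1 x := by
      rw [map_add, ← oG_mul_apply, mul_inv_cancel_left]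
    rcases hy with e | e
    · exact Or.inl (q.1.injective (by rw [hsum, e, map_zero]))
    · exact Or.inr (q.1.injective (by rw [hsum, e, hq]))
  -- the commutator of a row
  have hrow : ∀ q ∈ comTable, ∃ m, D m ∧ m ∈ K ∧
      ∀ v, v < 64 → comCode q v < 64 ∧ (S.act m).1 (dc v) = dc (comCode q v) := by
    intro q hq
    have h := List.all_eq_true.1 comTable_ok q hq
    simp only [Bool.and_eq_true, decide_eq_true_eq, Bool.not_eq_true'] at h
    obtain ⟨⟨⟨⟨⟨⟨⟨⟨⟨⟨⟨a1, a2⟩, a3⟩, a4⟩, b1⟩, b2⟩, b3⟩, b4⟩, c1⟩, c2⟩, c3⟩, c4⟩ := h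
    obtain ⟨P, hP, hPact⟩ := hrr a1 a2 b1 b2 c1 c2
    obtain ⟨P', hP', hP'act⟩ := hrr a2 a1 b2 b1 c2 c1
    obtain ⟨R, hR, hRact⟩ := hrr a3 a4 b3 b4 c3 c4
    obtain ⟨R', hR', hR'act⟩ := hrr a4 a3 b4 b3 c4 c3
    have hinvP : S.act P⁻¹ = S.act P' := by
      rw [S.act_inv hP.1]
      refine inv_eq_of_mul_eq_one_right (ext_oG fun x => ?_)
      rw [oG_mul_apply, oG_one_apply, ← dc_cd x, hP'act _ (cd x).isLt,
        hPact _ (g2n_lt a2 a1 (cd x).isLt)]
      exact congrArg dc (g2n_inv ⟨_, a1⟩ ⟨_, a2⟩ (cd x) b1 b2)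
    have hinvR : S.act R⁻¹ = S.act R' := by
      rw [S.act_inv hR.1]
      refine inv_eq_of_mul_eq_one_right (ext_oG fun x => ?_)
      rw [oG_mul_apply, oG_one_apply, ← dc_cd x, hR'act _ (cd x).isLt,
        hRact _ (g2n_lt a4 a3 (cd x).isLt)]
      exact congrArg dc (g2n_inv ⟨_, a3⟩ ⟨_, a4⟩ (cd x) b3 b4)
    have hiP := (Commute.inv_left hP.1).eq
    have hiR := (Commute.inv_left hR.1).eq
    refine ⟨P * R * P⁻¹ * R⁻¹, ⟨?_, ?_⟩, hcom hP hR, fun v hv => ?_⟩
    · exact (((Commute.mul_left hP.1 hR.1).mul_left hiP).mul_left hiR).eq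
    · exact (((Commute.mul_left hP.2 hR.2).mul_left (Commute.inv_left hP.2)).mul_left
        (Commute.inv_left hR.2)).eq
    have l1 := g2n_lt a4 a3 hv
    have l2 := g2n_lt a2 a1 l1
    have l3 := g2n_lt a3 a4 l2
    refine ⟨g2n_lt a1 a2 l3, ?_⟩
    rw [S.act_mul ((Commute.mul_left hP.1 hR.1).mul_left hiP).eq hiR,
      S.act_mul (Commute.mul_left hP.1 hR.1).eq hiP, S.act_mul hP.1 hR.1, hinvP, hinvR,
      oG_mul_apply, oG_mul_apply, oG_mul_apply, hR'act _ hv, hP'act _ l1, hRact _ l2, hPact _ l3]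
    rfl
  simp only [targets, List.mem_append, List.mem_map] at hmem
  rcases hmem with ⟨q, hq, hqf⟩ | ⟨q, hq, hqf⟩
  · obtain ⟨m, hm, hmK, hmact⟩ := hrow q hq
    have hme : (S.act m).1 (dc 1) = dc 1 := by
      rw [← F.pr_eq, ← S.act_spec m hm.1 w F.mem, hm.2, mul_inv_cancel_right]
    have hmi := (Commute.inv_left hm.1).eq
    have := mul_mem hmK (hsieg (d := m⁻¹ * d)
      ⟨(Commute.mul_left hmi hdz).eq, (Commute.mul_left (Commute.inv_left hm.2) hdw).eq⟩ (fun x hx => by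
        rw [S.act_mul hmi hdz, S.act_inv hm.1]
        exact hagree _ _ hme hmact hqf.symm x hx))
    rwa [mul_inv_cancel_left] at this
  · exfalso
    obtain ⟨m, hm, hmK, hmact⟩ := hrow q hq
    have hne : qM 2 (dc 16) ≠ 0 := by rw [q_dc (by norm_num)]; decide
    set r := rO hne with hr
    have hract : ∀ v, v < 64 → refl16 v < 64 ∧ r.1 (dc v) = dc (refl16 v) := by
      intro v hv
      refine ⟨?_, refl_dc (by norm_num) rfl hv hne⟩
      unfold refl16; split_ifs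
      exacts [xor_lt hv (by norm_num), hv]
    have hme : (S.act m).1 (dc 1) = dc 1 := by
      rw [← F.pr_eq, ← S.act_spec m hm.1 w F.mem, hm.2, mul_inv_cancel_right]
    have hre : r.1 (dc 1) = dc 1 := by rw [(hract 1 (by norm_num)).2]; rfl
    have hqe : (S.act m * r).1 (dc 1) = dc 1 := by rw [oG_mul_apply, hre, hme]
    have hN := hagree (S.act m * r) (fun v => comCode q (refl16 v)) hqe (fun v hv => by
      obtain ⟨r1, r2⟩ := hract v hv
      obtain ⟨m1, m2⟩ := hmact _ r1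
      exact ⟨m1, by rw [oG_mul_apply, r2, m2]⟩) hqf.symm
    set h := (S.act m * r)⁻¹ * g
    have hhe : h.1 (dc 1) = dc 1 := by
      refine (S.act m * r).1.injective ?_
      rw [← oG_mul_apply, mul_inv_cancel_left, he, hqe]
    obtain ⟨v, hv, hgv⟩ := exists_sgn h hhe hN
    obtain ⟨y, hy, hyz, hyv⟩ := exists_sg F (v := dc v.val) (by
      rw [Bp_dc v.isLt (by norm_num), hv]; rfl)
    have hhy : h = S.act y := ext_oG fun x => by
      rw [hyv, ← dc_cd x, hgv _ (cd x).isLt, sg_dc v.isLt (cd x).isLt]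
    -- `r` would be induced by the centraliser
    have hmi := (Commute.inv_left hm.1).eq
    have hyi := (Commute.inv_left hyz).eq
    have hrh : r = S.act (m⁻¹ * d * y⁻¹) := by
      rw [S.act_mul (Commute.mul_left hmi hdz).eq hyi, S.act_mul hmi hdz, S.act_inv hm.1,
        S.act_inv hyz, ← hg, ← hhy]
      simp only [h]
      group
    have h1 := S.act_even _ ((Commute.mul_left (Commute.mul_left hmi hdz) hyi)).eq
    rw [← hrh, hr, ← one_mul (rO hne), dsign_mul_rO nondegM2, dsign_one] at h1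
    exact absurd h1 (by decide)

/-- The extension by a swapper, with the generation hypothesis discharged. -/
theorem exists_swap_comp {G₁ : Type*} [Group G₁] [Finite G₁] {G₂ : Type*} [Group G₂] [Finite G₂]
    {z₁ w₁ : G₁} {z₂ : G₂} {S₁ : Suz z₁} {S₂ : Suz z₂} {E : G₁ → G₂} {E' : G₂ → G₁}
    (hE : Comp S₁ S₂ E) (hE' : Comp S₂ S₁ E') (hEE' : ∀ a, a * z₁ = z₁ * a → E' (E a) = a)
    (hE'E : ∀ b, b * z₂ = z₂ * b → E (E' b) = b) (F : S₁.Fr w₁) {t₁ : G₁}
    (ht₁ : t₁ ∈ oc (w₁ * z₁)) (ht₁z : t₁ * z₁ * t₁⁻¹ = w₁) :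
    ∃ t, t ∈ oc (E w₁ * z₂) ∧ t * z₂ * t⁻¹ = E w₁ ∧ t * E w₁ * t⁻¹ = z₂ ∧
      ∀ d, d * z₁ = z₁ * d → d * w₁ = w₁ * d → t * E d * t⁻¹ = E (t₁ * d * t₁⁻¹) :=
  exists_swap hE hE' hEE' hE'E F (sideGen F) ht₁ ht₁z

end Cfsg.Agent.SuzRecog
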