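import Cfsg.Agent.SuzRecog.Adjust

/-!
The isomorphism of centralisers extends by an element exchanging `z` and `w`: it is taken in
`oc (w * z)` and its action on the common centraliser is forced.
-/

set_option autoImplicit false

open scoped commutatorElement
open Cfsg Cfsg.Agent.ThreeTrans.OrthCohom Cfsg.Agent.Classical.Quad QuadraticMap Cfsg.Agent.LargeExtra
  Cfsg.Agent.SuzType Cfsg.Agent.SuzType.Suz

namespace Cfsg.Agent.SuzRecog

theorem swap_back {G : Type*} [Group G] {z w t : G} (hz2 : z * z = 1) (hwz : w * z = z * w)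
    (htu : t * (w * z) = w * z * t) (h : t * z * t⁻¹ = w) : t * w * t⁻¹ = z := by
  have hww : w * w = 1 := by
    rw [← h]
    calc t * z * t⁻¹ * (t * z * t⁻¹) = t * (z * z) * t⁻¹ := by group
      _ = 1 := by rw [hz2]; group
  calc t * w * t⁻¹ = t * (w * (z * z)) * t⁻¹ := by rw [hz2, mul_one]
    _ = t * (w * z) * z * t⁻¹ := by group
    _ = w * z * t * z * t⁻¹ := by rw [htu]
    _ = w * z * (t * z * t⁻¹) := by group
    _ = z := by rw [h, hwz, mul_assoc, hww, mul_one]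

theorem conj_pair {G : Type*} [Group G] {z w t x : G} (h1 : t * z * t⁻¹ = w) (h2 : t * w * t⁻¹ = z)
    (hz : x * z = z * x) (hw : x * w = w * x) :
    t * x * t⁻¹ * z = z * (t * x * t⁻¹) ∧ t * x * t⁻¹ * w = w * (t * x * t⁻¹) := by
  refine ⟨?_, ?_⟩
  · conv_lhs => rw [← h2]
    conv_rhs => rw [← h2]
    calc t * x * t⁻¹ * (t * w * t⁻¹) = t * (x * w) * t⁻¹ := by group
      _ = t * w * t⁻¹ * (t * x * t⁻¹) := by rw [hw]; group
  · conv_lhs => rw [← h1]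
    conv_rhs => rw [← h1]
    calc t * x * t⁻¹ * (t * z * t⁻¹) = t * (x * z) * t⁻¹ := by group
      _ = t * z * t⁻¹ * (t * x * t⁻¹) := by rw [hz]; group

variable {G₁ : Type*} [Group G₁] [Finite G₁] {G₂ : Type*} [Group G₂] [Finite G₂]
  {z₁ : G₁} {z₂ : G₂}

/-- The isomorphism of centralisers as a pair of mutually inverse compatible maps. -/
theorem exists_comp (S₁ : Suz z₁) (S₂ : Suz z₂) : ∃ (E : G₁ → G₂) (E' : G₂ → G₁),
    Comp S₁ S₂ E ∧ Comp S₂ S₁ E' ∧ (∀ a, a * z₁ = z₁ * a → E' (E a) = a) ∧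
      ∀ b, b * z₂ = z₂ * b → E (E' b) = b := by
  classical
  obtain ⟨e, hz, hact, hoc, hpr⟩ := centIso S₁ S₂
  have hm₁ : ∀ {a}, a * z₁ = z₁ * a → a ∈ Subgroup.centralizer ({z₁} : Set G₁) := fun h =>
    Subgroup.mem_centralizer_singleton_iff.2 h
  have hm₂ : ∀ {a}, a * z₂ = z₂ * a → a ∈ Subgroup.centralizer ({z₂} : Set G₂) := fun h =>
    Subgroup.mem_centralizer_singleton_iff.2 h
  let E : G₁ → G₂ := fun a => if h : a * z₁ = z₁ * a then (e ⟨a, hm₁ h⟩ : G₂) else 1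
  let E' : G₂ → G₁ := fun b => if h : b * z₂ = z₂ * b then (e.symm ⟨b, hm₂ h⟩ : G₁) else 1
  have hE : ∀ (a : G₁) (h : a * z₁ = z₁ * a), E a = e ⟨a, hm₁ h⟩ := fun a h => dif_pos h
  have hE' : ∀ (b : G₂) (h : b * z₂ = z₂ * b), E' b = e.symm ⟨b, hm₂ h⟩ := fun b h => dif_pos h
  have hzs : e.symm ⟨z₂, hm₂ rfl⟩ = ⟨z₁, hm₁ rfl⟩ := by
    rw [MulEquiv.symm_apply_eq]; exact Subtype.ext (hz _ rfl).symm
  refine ⟨E, E', ⟨fun a b ha hb => ?_, fun a ha => ?_, ?_, fun a ha => ?_, fun a ha => ?_, fun a ha => ?_⟩,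
    ⟨fun a b ha hb => ?_, fun a ha => ?_, ?_, fun a ha => ?_, fun a ha => ?_, fun a ha => ?_⟩,
    fun a ha => ?_, fun b hb => ?_⟩
  · rw [hE _ ha, hE _ hb, hE (a * b) (Commute.mul_left ha hb).eq, ← Subgroup.coe_mul, ← map_mul]; rfl
  · rw [hE _ ha]; exact Subgroup.mem_centralizer_singleton_iff.1 (e _).2
  · rw [hE _ rfl]; exact hz _ rfl
  · rw [hE _ (S₁.comm ha)]; exact (hoc _).1 ha
  · rw [hE _ (S₁.comm ha)]; exact hpr _ ha
  · rw [hE _ ha]; exact hact _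
  · rw [hE' _ ha, hE' _ hb, hE' (a * b) (Commute.mul_left ha hb).eq, ← Subgroup.coe_mul, ← map_mul]; rfl
  · rw [hE' _ ha]; exact Subgroup.mem_centralizer_singleton_iff.1 (e.symm _).2
  · rw [hE' _ rfl, hzs]
  · rw [hE' _ (S₂.comm ha)]; exact (hoc _).2 (by rw [MulEquiv.apply_symm_apply]; exact ha)
  · have h := hpr (e.symm ⟨a, hm₂ (S₂.comm ha)⟩) ((hoc _).2 (by rw [MulEquiv.apply_symm_apply]; exact ha))
    rw [MulEquiv.apply_symm_apply] at h
    rw [hE' _ (S₂.comm ha)]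
    exact h.symm
  · have h := hact (e.symm ⟨a, hm₂ ha⟩)
    rw [MulEquiv.apply_symm_apply] at h
    rw [hE' _ ha]
    exact h.symm
  · have h : E a * z₂ = z₂ * E a := by
      rw [hE _ ha]; exact Subgroup.mem_centralizer_singleton_iff.1 (e _).2
    rw [hE' _ h, show (⟨E a, hm₂ h⟩ : ↥(Subgroup.centralizer ({z₂} : Set G₂))) = e ⟨a, hm₁ ha⟩ from
      Subtype.ext (hE a ha), MulEquiv.symm_apply_apply]
  · have h : E' b * z₁ = z₁ * E' b := by
      rw [hE' _ hb]; exact Subgroup.mem_centralizer_singleton_iff.1 (e.symm _).2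
    rw [hE _ h, show (⟨E' b, hm₁ h⟩ : ↥(Subgroup.centralizer ({z₁} : Set G₁))) = e.symm ⟨b, hm₂ hb⟩ from
      Subtype.ext (hE' b hb), MulEquiv.apply_symm_apply]

variable {S₁ : Suz z₁} {S₂ : Suz z₂} {w₁ : G₁}

/-- The common centraliser is generated by the side and the commutators. -/
def SideGen (z w : G₁) : Prop :=
  ∀ d, d * z = z * d → d * w = w * d → d ∈ Subgroup.closure
    ({h | h ∈ oc (w * z) ∧ h * z = z * h} ∪
      {x | ∃ a b, (a * z = z * a ∧ a * w = w * a) ∧ (b * z = z * b ∧ b * w = w * b) ∧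
        x = a * b * a⁻¹ * b⁻¹})

/-- The extension by an element exchanging `z` and `w`. -/
theorem exists_swap {E : G₁ → G₂} {E' : G₂ → G₁} (hE : Comp S₁ S₂ E) (hE' : Comp S₂ S₁ E')
    (hEE' : ∀ a, a * z₁ = z₁ * a → E' (E a) = a) (hE'E : ∀ b, b * z₂ = z₂ * b → E (E' b) = b)
    (F : S₁.Fr w₁) (hgen : SideGen z₁ w₁) {t₁ : G₁} (ht₁ : t₁ ∈ oc (w₁ * z₁))
    (ht₁z : t₁ * z₁ * t₁⁻¹ = w₁) :
    ∃ t, t ∈ oc (E w₁ * z₂) ∧ t * z₂ * t⁻¹ = E w₁ ∧ t * E w₁ * t⁻¹ = z₂ ∧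
      ∀ d, d * z₁ = z₁ * d → d * w₁ = w₁ * d → t * E d * t⁻¹ = E (t₁ * d * t₁⁻¹) := by
  classical
  set u₁ := w₁ * z₁ with hu₁
  set w := E w₁ with hw
  set u := w * z₂ with hu
  have F₁ : S₁.Fr u₁ := Fr_mul_z F
  have hwc := S₁.comm F.mem
  have G2 : S₂.Fr w := hE.map_fr F
  have F₂ : S₂.Fr u := Fr_mul_z G2
  have hEu : E u₁ = u := by rw [hu₁, hE.map_mul _ _ hwc rfl, hE.map_z]
  have hE'u : E' u = u₁ := by rw [← hEu, hEE' _ (S₁.comm F₁.mem)]
  have hE'w : E' w = w₁ := hEE' _ hwc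
  have hsideE : ∀ {h}, h ∈ oc u₁ → h * z₁ = z₁ * h → E h ∈ oc u ∧ E h * z₂ = z₂ * E h :=
    fun hh hhz => ⟨hEu ▸ hE.map_side F hh hhz, hE.comm _ hhz⟩
  have hsideE' : ∀ {h}, h ∈ oc u → h * z₂ = z₂ * h → E' h ∈ oc u₁ ∧ E' h * z₁ = z₁ * E' h := by
    intro h hh hhz
    refine ⟨?_, hE'.comm _ hhz⟩
    have := hE'.map_side G2 hh hhz
    rwa [← hu, hE'u] at this
  have W₁ := wset F₁
  have W₂ := wset F₂
  -- swappers
  have ht₁w : t₁ * w₁ * t₁⁻¹ = z₁ := swap_back S₁.zz hwc (comm_w F₁ ht₁) ht₁z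
  obtain ⟨t₀, ht₀, ht₀z⟩ : ∃ t₀ ∈ oc u, t₀ * z₂ * t₀⁻¹ = w := by
    have hne : z₂ ≠ u := fun e => w_ne_z F₂ e.symm
    obtain ⟨y, hy, hyz⟩ := W₂.exists_mover (zmem_oc F₂) S₂.zne hne
    refine ⟨y, hy, ?_⟩
    rw [hyz, hu, ← mul_assoc, ← wz G2, mul_assoc, S₂.zz, mul_one]
  -- the two actions on the side
  have hform : ∀ {t}, t ∈ oc u → ∀ h ∈ oc u, ∃ α, t * h * t⁻¹ = zp u α * h := by
    intro t ht h hh
    rcases W₂.commutator_cases ht hh with e | e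
    · refine ⟨0, ?_⟩
      rw [zp_zero, one_mul, show t * h * t⁻¹ = t * h * t⁻¹ * h⁻¹ * h by group, e, one_mul]
    · refine ⟨1, ?_⟩
      rw [zp_one, show t * h * t⁻¹ = t * h * t⁻¹ * h⁻¹ * h by group, e]
  have hmodel : ∀ h ∈ oc u, h * z₂ = z₂ * h →
      ∃ β, E (t₁ * E' h * t₁⁻¹) = zp u β * h := by
    intro h hh hhz
    obtain ⟨h1, h2⟩ := hsideE' hh hhz
    rcases W₁.commutator_cases ht₁ h1 with e | e
    · refine ⟨0, ?_⟩
      rw [zp_zero, one_mul, show t₁ * E' h * t₁⁻¹ = E' h by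
        calc t₁ * E' h * t₁⁻¹ = t₁ * E' h * t₁⁻¹ * (E' h)⁻¹ * E' h := by group
          _ = E' h := by rw [e, one_mul], hE'E h hhz]
    · refine ⟨1, ?_⟩
      rw [zp_one, show t₁ * E' h * t₁⁻¹ = u₁ * E' h by
        calc t₁ * E' h * t₁⁻¹ = t₁ * E' h * t₁⁻¹ * (E' h)⁻¹ * E' h := by group
          _ = u₁ * E' h := by rw [e], hE.map_mul _ _ (S₁.comm F₁.mem) h2, hEu, hE'E h hhz]
  choose α hα using hform ht₀
  choose β hβ using hmodel
  let μ : G₂ → ZMod 2 := fun h =>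
    if hh : h ∈ oc u ∧ h * z₂ = z₂ * h then α h hh.1 + β h hh.1 hh.2 else 0
  have huq : ∀ {a b : ZMod 2} {h : G₂}, zp u a * h = zp u b * h → a = b := fun e =>
    zp_inj (wne F₂) (mul_right_cancel e)
  have hucomm : ∀ {h}, h ∈ oc u → ∀ e, h * zp u e = zp u e * h := fun hh e =>
    zp_comm_of (comm_w F₂ hh) e
  have huu : u ∈ oc u := mem_oc_self W₂.ord
  have hμadd : ∀ a b, a ∈ oc u ∧ a * z₂ = z₂ * a → b ∈ oc u ∧ b * z₂ = z₂ * b →
      μ (a * b) = μ a + μ b := by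
    intro a b ha hb
    have hab : a * b ∈ oc u ∧ a * b * z₂ = z₂ * (a * b) :=
      ⟨mul_mem ha.1 hb.1, (Commute.mul_left ha.2 hb.2).eq⟩
    have e1 : α (a * b) hab.1 = α a ha.1 + α b hb.1 := by
      refine huq ((hα (a * b) hab.1).symm.trans ?_)
      calc t₀ * (a * b) * t₀⁻¹ = t₀ * a * t₀⁻¹ * (t₀ * b * t₀⁻¹) := by group
        _ = zp u (α a ha.1) * (a * zp u (α b hb.1)) * b := by rw [hα a ha.1, hα b hb.1]; group
        _ = _ := by rw [hucomm ha.1, zp_add (ww F₂)]; group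
    have e2 : β (a * b) hab.1 hab.2 = β a ha.1 ha.2 + β b hb.1 hb.2 := by
      refine huq ((hβ (a * b) hab.1 hab.2).symm.trans ?_)
      have hca : ∀ {h}, h ∈ oc u → h * z₂ = z₂ * h →
          t₁ * E' h * t₁⁻¹ * z₁ = z₁ * (t₁ * E' h * t₁⁻¹) := by
        intro h hh hhz
        obtain ⟨h1, h2⟩ := hsideE' hh hhz
        rcases W₁.commutator_cases ht₁ h1 with e | e <;>
          rw [show t₁ * E' h * t₁⁻¹ = t₁ * E' h * t₁⁻¹ * (E' h)⁻¹ * E' h by group, e]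
        · rw [one_mul, h2]
        · exact (Commute.mul_left (S₁.comm F₁.mem) h2).eq
      calc E (t₁ * E' (a * b) * t₁⁻¹) = E (t₁ * E' a * t₁⁻¹ * (t₁ * E' b * t₁⁻¹)) := by
            rw [hE'.map_mul a b ha.2 hb.2]; congr 1; group
        _ = zp u (β a ha.1 ha.2) * (a * zp u (β b hb.1 hb.2)) * b := by
            rw [hE.map_mul _ _ (hca ha.1 ha.2) (hca hb.1 hb.2), hβ a ha.1 ha.2, hβ b hb.1 hb.2]; group
        _ = _ := by rw [hucomm ha.1, zp_add (ww F₂)]; group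
    show dite _ _ _ = _
    rw [dif_pos hab, show μ a = _ from dif_pos ha, show μ b = _ from dif_pos hb, e1, e2]
    abel
  have hμu : μ u = 0 := by
    have h2 := S₂.comm F₂.mem
    rw [show μ u = _ from dif_pos ⟨huu, h2⟩]
    have e1 : α u huu = 0 := huq ((hα u huu).symm.trans (by
      rw [zp_zero, one_mul, comm_w F₂ ht₀, mul_inv_cancel_right]))
    have e2 : β u huu h2 = 0 := huq ((hβ u huu h2).symm.trans (by
      rw [zp_zero, one_mul, hE'u, comm_w F₁ ht₁, mul_inv_cancel_right, hEu]))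
    rw [e1, e2, add_zero]
  have hμz : μ z₂ = 0 := by
    rw [show μ z₂ = _ from dif_pos ⟨zmem_oc F₂, rfl⟩]
    have huz : u * z₂ = w := mul_z_z w S₂
    have e1 : α z₂ (zmem_oc F₂) = 1 := huq ((hα z₂ (zmem_oc F₂)).symm.trans (by
      rw [zp_one, ht₀z, huz]))
    have e2 : β z₂ (zmem_oc F₂) rfl = 1 := huq ((hβ z₂ (zmem_oc F₂) rfl).symm.trans (by
      rw [zp_one, hE'.map_z, ht₁z, huz]))
    rw [e1, e2, zmod_add_self]
  obtain ⟨r, hr, hrz, hrc⟩ := exists_adjust F₂ μ hμadd hμu hμz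
  set t := t₀ * r with ht
  have htu : t ∈ oc u := mul_mem ht₀ hr
  have htz : t * z₂ * t⁻¹ = w := by
    calc t * z₂ * t⁻¹ = t₀ * (r * z₂ * r⁻¹) * t₀⁻¹ := by rw [ht]; group
      _ = w := by rw [hrz, mul_inv_cancel_right, ht₀z]
  have htw : t * w * t⁻¹ = z₂ := swap_back S₂.zz (S₂.comm G2.mem) (comm_w F₂ htu) htz
  refine ⟨t, htu, htz, htw, ?_⟩
  have hside : ∀ h ∈ oc u, h * z₂ = z₂ * h → t * h * t⁻¹ = E (t₁ * E' h * t₁⁻¹) := by
    intro h hh hhz
    calc t * h * t⁻¹ = t₀ * (r * h * r⁻¹) * t₀⁻¹ := by rw [ht]; group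
      _ = t₀ * h * t₀⁻¹ * (t₀ * zp u (μ h) * t₀⁻¹) := by rw [hrc h hh hhz]; group
      _ = zp u (α h hh) * (h * zp u (μ h)) := by
          rw [hα h hh, zp_comm_of (comm_w F₂ ht₀), mul_inv_cancel_right]; group
      _ = zp u (β h hh hhz) * h := by
          rw [hucomm hh, ← mul_assoc, ← zp_add (ww F₂), show μ h = _ from dif_pos ⟨hh, hhz⟩,
            ← add_assoc, zmod_add_self, zero_add]
      _ = _ := (hβ h hh hhz).symm
  -- membership of the common centraliser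
  let D₁ : G₁ → Prop := fun d => d * z₁ = z₁ * d ∧ d * w₁ = w₁ * d
  have hD₂ : ∀ {d}, D₁ d → E d * z₂ = z₂ * E d ∧ E d * w = w * E d := fun hd =>
    ⟨hE.comm _ hd.1, hE.map_comm hd.1 hwc hd.2⟩
  let A : G₁ → G₂ := fun d => E (t₁ * d * t₁⁻¹)
  have hA₁ : ∀ {d}, D₁ d → D₁ (t₁ * d * t₁⁻¹) := fun hd => conj_pair ht₁z ht₁w hd.1 hd.2
  have hD1mul : ∀ {a b}, D₁ a → D₁ b → D₁ (a * b) := fun ha hb =>
    ⟨(Commute.mul_left ha.1 hb.1).eq, (Commute.mul_left ha.2 hb.2).eq⟩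
  have hD1inv : ∀ {a}, D₁ a → D₁ a⁻¹ := fun ha =>
    ⟨(Commute.inv_left ha.1).eq, (Commute.inv_left ha.2).eq⟩
  have hAmul : ∀ {a b}, D₁ a → D₁ b → A (a * b) = A a * A b := fun {a b} ha hb => by
    show E (t₁ * (a * b) * t₁⁻¹) = E (t₁ * a * t₁⁻¹) * E (t₁ * b * t₁⁻¹)
    rw [← hE.map_mul _ _ (hA₁ ha).1 (hA₁ hb).1]
    congr 1
    group
  -- the two actions differ by a central element
  have hdiff : ∀ {d}, D₁ d → ∃ c, (c = 1 ∨ c = u ∨ c = z₂ ∨ c = z₂ * u) ∧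
      t * E d * t⁻¹ = A d * c := by
    intro d hd
    obtain ⟨hdz, hdw⟩ := hD₂ hd
    have hdu : E d * u = u * E d := (Commute.mul_right (show Commute (E d) w from hdw) hdz).eq
    have hdu₁ : d * u₁ = u₁ * d := (Commute.mul_right (show Commute d w₁ from hd.2) hd.1).eq
    -- the two correction terms
    set b := (E d)⁻¹ * (t * E d * t⁻¹) with hb
    have hbu : b ∈ oc u := by
      rw [show b = (E d)⁻¹ * t * (E d)⁻¹⁻¹ * t⁻¹ by rw [hb]; group]
      exact mul_mem (nrm_w F₂ (Commute.inv_left hdu).eq htu) (inv_mem htu)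
    have hbz : b * z₂ = z₂ * b :=
      (Commute.mul_left (Commute.inv_left hdz) (conj_pair htz htw hdz hdw).1).eq
    set a₁ := d⁻¹ * (t₁ * d * t₁⁻¹) with ha₁
    have ha₁u : a₁ ∈ oc u₁ := by
      rw [show a₁ = d⁻¹ * t₁ * d⁻¹⁻¹ * t₁⁻¹ by rw [ha₁]; group]
      exact mul_mem (nrm_w F₁ (Commute.inv_left hdu₁).eq ht₁) (inv_mem ht₁)
    have ha₁z : a₁ * z₁ = z₁ * a₁ := (Commute.mul_left (Commute.inv_left hd.1) (hA₁ hd).1).eq
    obtain ⟨hau, haz⟩ := hsideE ha₁u ha₁z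
    have hAd : A d = E d * E a₁ := by
      rw [← hE.map_mul _ _ hd.1 ha₁z, ha₁, mul_inv_cancel_left]
    refine ⟨(E a₁)⁻¹ * b, side_center F₂ (mul_mem (inv_mem hau) hbu)
      (Commute.mul_left (Commute.inv_left haz) hbz).eq fun k hk hkz => ?_, by rw [hAd, hb]; group⟩
    -- both sides act alike on the side
    have hkw : k * w = w * k := by
      rw [show w = u * z₂ from (mul_z_z w S₂).symm]
      exact Commute.mul_right (comm_w F₂ hk) hkz
    set h := t⁻¹ * k * t with hh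
    have hhu : h ∈ oc u := mul_mem (mul_mem (inv_mem htu) hk) htu
    have hhz : h * z₂ = z₂ * h := by
      calc t⁻¹ * k * t * z₂ = t⁻¹ * (k * (t * z₂ * t⁻¹)) * t := by group
        _ = t⁻¹ * ((t * z₂ * t⁻¹) * k) * t := by rw [htz, hkw]
        _ = z₂ * (t⁻¹ * k * t) := by group
    obtain ⟨x1, x2⟩ := hsideE' hhu hhz
    set x := E' h with hxd
    have hxD : D₁ x := by
      refine ⟨x2, ?_⟩
      rw [show w₁ = u₁ * z₁ from (mul_z_z w₁ S₁).symm]
      exact Commute.mul_right (comm_w F₁ x1) x2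
    have hAx : A x = k := by
      rw [show A x = t * h * t⁻¹ from (hside h hhu hhz).symm, hh]; group
    have hx'u : d * x * d⁻¹ ∈ oc u₁ := nrm_w F₁ hdu₁ x1
    have hx'z : d * x * d⁻¹ * z₁ = z₁ * (d * x * d⁻¹) :=
      ((Commute.mul_left hd.1 x2).mul_left (Commute.inv_left hd.1)).eq
    obtain ⟨y1, y2⟩ := hsideE hx'u hx'z
    have e := hside _ y1 y2
    rw [hEE' _ hx'z, show E (t₁ * (d * x * d⁻¹) * t₁⁻¹) = A (d * x * d⁻¹) from rfl,
      hAmul (hD1mul hd hxD) (hD1inv hd), hAmul hd hxD, hAx,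
      hE.map_conj hd.1 x2, hxd, hE'E h hhz] at e
    have hAi : A d⁻¹ = (A d)⁻¹ := eq_inv_of_mul_eq_one_right (by
      rw [← hAmul hd (hD1inv hd), mul_inv_cancel]
      show E (t₁ * 1 * t₁⁻¹) = 1
      rw [mul_one, mul_inv_cancel, hE.map_one])
    rw [hAi] at e
    have hth : t * h * t⁻¹ = k := by rw [hh]; group
    have e2 : (A d)⁻¹ * (t * E d * t⁻¹) * k = k * ((A d)⁻¹ * (t * E d * t⁻¹)) := by
      calc (A d)⁻¹ * (t * E d * t⁻¹) * k
          = (A d)⁻¹ * (t * E d * t⁻¹) * (t * h * t⁻¹) := by rw [hth]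
        _ = (A d)⁻¹ * (t * (E d * h * (E d)⁻¹) * t⁻¹) * (t * E d * t⁻¹) := by group
        _ = k * ((A d)⁻¹ * (t * E d * t⁻¹)) := by rw [e]; group
    have hc : (E a₁)⁻¹ * b = (A d)⁻¹ * (t * E d * t⁻¹) := by rw [hAd, hb]; group
    rw [hc]; exact e2
  let K : Subgroup G₁ :=
    { carrier := {d | D₁ d ∧ t * E d * t⁻¹ = A d}
      one_mem' := ⟨⟨by simp, by simp⟩, by
        show t * E 1 * t⁻¹ = E (t₁ * 1 * t₁⁻¹)
        rw [hE.map_one, mul_one, mul_one, mul_inv_cancel, mul_inv_cancel, hE.map_one]⟩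
      mul_mem' := fun {a b} ha hb => ⟨hD1mul ha.1 hb.1, by
        rw [hAmul ha.1 hb.1, ← ha.2, ← hb.2, hE.map_mul a b ha.1.1 hb.1.1]; group⟩
      inv_mem' := fun {a} ha => ⟨hD1inv ha.1, by
        have e : A a * A a⁻¹ = 1 := by
          rw [← hAmul ha.1 (hD1inv ha.1), mul_inv_cancel]
          show E (t₁ * 1 * t₁⁻¹) = 1
          rw [mul_one, mul_inv_cancel, hE.map_one]
        rw [eq_inv_of_mul_eq_one_right e, ← ha.2, hE.map_inv ha.1.1]; group⟩ }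
  have hsub : ∀ d, D₁ d → d ∈ K := fun d hd => (Subgroup.closure_le K).2 (by
    rintro _ (⟨hh, hhz⟩ | ⟨a, b, ha, hb, rfl⟩)
    · refine ⟨⟨hhz, ?_⟩, ?_⟩
      · rw [show w₁ = u₁ * z₁ from (mul_z_z w₁ S₁).symm]
        exact Commute.mul_right (comm_w F₁ hh) hhz
      · obtain ⟨y1, y2⟩ := hsideE hh hhz
        rw [hside _ y1 y2, hEE' _ hhz]
    · have hab : D₁ (a * b * a⁻¹ * b⁻¹) :=
        hD1mul (hD1mul (hD1mul ha hb) (hD1inv ha)) (hD1inv hb)
      refine ⟨hab, ?_⟩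
      obtain ⟨ca, hca, ea⟩ := hdiff ha
      obtain ⟨cb, hcb, eb⟩ := hdiff hb
      have hcomm : ∀ {c}, (c = 1 ∨ c = u ∨ c = z₂ ∨ c = z₂ * u) →
          ∀ {d}, D₁ d → Commute c (A d) := by
        intro c hc d hd
        obtain ⟨h1, h2⟩ := hD₂ (hA₁ hd)
        have hz' : Commute z₂ (A d) := (show Commute (A d) z₂ from h1).symm
        have hu' : Commute u (A d) :=
          (Commute.mul_right (show Commute (A d) w from h2) h1).symm
        rcases hc with rfl | rfl | rfl | rfl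
        exacts [Commute.one_left _, hu', hz', hz'.mul_left hu']
      have hccz : Commute ca cb := by
        have hzu : Commute z₂ u := (show Commute u z₂ from S₂.comm F₂.mem).symm
        rcases hca with rfl | rfl | rfl | rfl <;> rcases hcb with rfl | rfl | rfl | rfl <;>
          first
          | exact Commute.one_left _
          | exact Commute.one_right _
          | exact Commute.refl _
          | exact hzu
          | exact hzu.symm
          | exact (Commute.refl _).mul_left hzu.symm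
          | exact (Commute.refl _).mul_right hzu
          | exact hzu.symm.mul_left (Commute.refl _)
          | exact hzu.mul_right (Commute.refl _)
          | exact hzu.symm.mul_right (Commute.refl _)
          | exact (Commute.refl _).mul_right hzu.symm
          | exact hzu.mul_left (Commute.refl _)
          | exact (Commute.refl _).mul_left hzu
      have h1 := hcomm hca ha
      have h2 := hcomm hca hb
      have h3 := hcomm hcb ha
      have h4 := hcomm hcb hb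
      have hAi : ∀ {d}, D₁ d → A d⁻¹ = (A d)⁻¹ := fun {d} hd => eq_inv_of_mul_eq_one_right (by
        rw [← hAmul hd (hD1inv hd), mul_inv_cancel]
        show E (t₁ * 1 * t₁⁻¹) = 1
        rw [mul_one, mul_inv_cancel, hE.map_one])
      rw [hAmul (hD1mul (hD1mul ha hb) (hD1inv ha)) (hD1inv hb), hAmul (hD1mul ha hb) (hD1inv ha),
        hAmul ha hb, hAi ha, hAi hb, hE.map_mul _ _ (hD1mul (hD1mul ha hb) (hD1inv ha)).1 (hD1inv hb).1,
        hE.map_conj ha.1 hb.1, hE.map_inv hb.1,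
        show t * (E a * E b * (E a)⁻¹ * (E b)⁻¹) * t⁻¹ = t * E a * t⁻¹ * (t * E b * t⁻¹) *
          (t * E a * t⁻¹)⁻¹ * (t * E b * t⁻¹)⁻¹ by group, ea, eb]
      calc A a * ca * (A b * cb) * (A a * ca)⁻¹ * (A b * cb)⁻¹
          = A a * (ca * A b) * (cb * ca⁻¹) * (A a)⁻¹ * cb⁻¹ * (A b)⁻¹ := by group
        _ = A a * A b * ((ca * (cb * ca⁻¹)) * (A a)⁻¹) * cb⁻¹ * (A b)⁻¹ := by rw [h2.eq]; group
        _ = A a * A b * (A a)⁻¹ * (cb * cb⁻¹) * (A b)⁻¹ := by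
          rw [show ca * (cb * ca⁻¹) = cb by rw [← mul_assoc, hccz.eq, mul_inv_cancel_right],
            h3.inv_right.eq]; group
        _ = A a * A b * (A a)⁻¹ * (A b)⁻¹ := by group) (hgen d hd.1 hd.2)
  exact fun d h1 h2 => (hsub d ⟨h1, h2⟩).2

end Cfsg.Agent.SuzRecog
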