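import Cfsg.Agent.SuzRecog.Lift
import Cfsg.Agent.SuzType.Build
import Mathlib.GroupTheory.Transfer

/-!
The extension splits: a Sylow 2-subgroup of the orthogonal group lifts, and the transfer does the rest.
-/

set_option autoImplicit false

open Cfsg Cfsg.Agent.ThreeTrans.OrthCohom Cfsg.Agent.Classical.Quad QuadraticMap Cfsg.Agent.LargeExtra
  Cfsg.Agent.SuzType Cfsg.Agent.SuzType.Suz

namespace Cfsg.Agent.SuzRecog

/-- A central involution missing a subgroup of odd co-index is complemented. -/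
theorem exists_compl {E : Type*} [Group E] [Finite E] (ε : E) (hc : ∀ x, ε * x = x * ε)
    (h2 : ε * ε = 1) (P : Subgroup E) (hP : ε ∉ P) {k : ℕ} (hk : Odd k)
    (hcard : Nat.card E = 2 * Nat.card ↥P * k) :
    ∃ T : Subgroup E, ε ∉ T ∧ ∀ x, x ∈ T ∨ ε * x ∈ T := by
  classical
  have hcomm : ∀ g, Commute ε g := hc
  let H : Subgroup E :=
    { carrier := {g | g ∈ P ∨ ε * g ∈ P}
      one_mem' := Or.inl (one_mem P)
      mul_mem' := by
        rintro g h (hg | hg) (hh | hh)
        · exact Or.inl (mul_mem hg hh)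
        · refine Or.inr ?_
          rw [← mul_assoc, hc g, mul_assoc]; exact mul_mem hg hh
        · refine Or.inr ?_
          rw [← mul_assoc]; exact mul_mem hg hh
        · refine Or.inl ?_
          have := mul_mem hg hh
          rwa [mul_assoc, ← mul_assoc g, ← hc g, ← mul_assoc, ← mul_assoc, h2, one_mul] at this
      inv_mem' := by
        rintro g (hg | hg)
        · exact Or.inl (inv_mem hg)
        · refine Or.inr ?_
          have := inv_mem hg
          rwa [mul_inv_rev, inv_eq_of_mul_eq_one_right h2, ← hc] at this }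
  have hεH : ε ∈ H := Or.inr (by rw [h2]; exact one_mem P)
  let a : Multiplicative (ZMod 2) := Multiplicative.ofAdd 1
  have haa : a * a = 1 := (by decide : Multiplicative.ofAdd (1 : ZMod 2) * Multiplicative.ofAdd 1 = 1)
  have hnot : ∀ {g}, g ∈ P → ε * g ∉ P := fun hg h => hP (by
    have := mul_mem h (inv_mem hg)
    rwa [mul_inv_cancel_right] at this)
  let φ : ↥H →* Multiplicative (ZMod 2) := MonoidHom.mk' (fun g => if (g : E) ∈ P then 1 else a) <| by
    rintro ⟨g, hg⟩ ⟨h, hh⟩
    by_cases h1 : g ∈ P <;> by_cases h2' : h ∈ P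
    · simp [h1, h2', mul_mem h1 h2']
    · have : g * h ∉ P := fun e => h2' (by simpa using mul_mem (inv_mem h1) e)
      simp [h1, h2', this]
    · have : g * h ∉ P := fun e => h1 (by simpa using mul_mem e (inv_mem h2'))
      simp [h1, h2', this]
    · have : g * h ∈ P := by
        have := mul_mem (hg.resolve_left h1) (hh.resolve_left h2')
        rwa [mul_assoc, ← mul_assoc g, ← hc g, ← mul_assoc, ← mul_assoc, h2, one_mul] at this
      simp [h1, h2', this, haa]
  have hφε : φ ⟨ε, hεH⟩ = a := if_neg hP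
  have hHcard : Nat.card ↥H = 2 * Nat.card ↥P := by
    let F : Bool × ↥P → ↥H := fun p =>
      if p.1 then ⟨ε * p.2.1, Or.inr (by rw [← mul_assoc, h2, one_mul]; exact p.2.2)⟩
      else ⟨p.2.1, Or.inl p.2.2⟩
    have hF : Function.Bijective F := by
      refine ⟨?_, ?_⟩
      · rintro ⟨b, g⟩ ⟨b', g'⟩ e
        have e' := congrArg Subtype.val e
        rcases b with _ | _ <;> rcases b' with _ | _ <;> simp [F] at e'
        · exact Prod.ext rfl e'
        · exact absurd (e' ▸ g.2) (hnot g'.2)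
        · exact absurd (e'.symm ▸ g'.2) (hnot g.2)
        · exact Prod.ext rfl e'
      · rintro ⟨g, hg | hg⟩
        · exact ⟨(false, ⟨g, hg⟩), rfl⟩
        · exact ⟨(true, ⟨ε * g, hg⟩), Subtype.ext (by simp [F, ← mul_assoc, h2])⟩
    rw [← Nat.card_congr (Equiv.ofBijective F hF), Nat.card_prod, Nat.card_eq_fintype_card (α := Bool)]
    rfl
  have hidx : H.index = k := by
    have h := H.card_mul_index
    rw [hHcard, hcard] at h
    exact Nat.eq_of_mul_eq_mul_left (by have := Nat.card_pos (α := ↥P); omega) h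
  have hpow : ε ^ k = ε := by
    obtain ⟨j, rfl⟩ := hk
    rw [pow_succ, pow_mul, pow_two, h2, one_pow, one_mul]
  have hV : φ.transfer ε = a := by
    rw [MonoidHom.transfer_eq_pow φ ε fun j g _ => by
      rw [mul_assoc, ((hcomm g).pow_left j).eq, inv_mul_cancel_left], ← hφε]
    exact congrArg φ (Subtype.ext (by show ε ^ H.index = ε; rw [hidx, hpow]))
  refine ⟨φ.transfer.ker, fun h => ?_, fun x => ?_⟩
  · rw [MonoidHom.mem_ker, hV] at h
    exact absurd h (by decide)
  · rw [MonoidHom.mem_ker, MonoidHom.mem_ker, map_mul, hV]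
    exact (by decide : ∀ b : Multiplicative (ZMod 2), b = 1 ∨ Multiplicative.ofAdd 1 * b = 1) _

/-- Products of reflections on codes. -/
def kl : List (ℕ × ℕ) → ℕ → ℕ
  | [], v => v
  | p :: l, v => g2n p.1 p.2 (kl l v)

/-- A code to be used or not. -/
def pc (h : ℕ → ℕ) (b : Bool) (v : ℕ) : ℕ := if b then h v else v

/-- The pairs of vectors of the three generators and of the four conjugates. -/
def gl : Fin 6 → List (ℕ × ℕ)
  | 0 => [(16, 17)]
  | 1 => [(10, 32), (16, 17), (10, 32)]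
  | 2 => [(18, 56), (16, 17), (18, 56)]
  | 3 => [(10, 32), (18, 56), (16, 17), (10, 32), (18, 56)]
  | 4 => [(10, 32)]
  | 5 => [(18, 56)]

/-- The code of an element of the Sylow subgroup. -/
def word (n v : ℕ) : ℕ :=
  pc (kl (gl 0)) (n.testBit 0) (pc (kl (gl 1)) (n.testBit 1) (pc (kl (gl 2)) (n.testBit 2)
    (pc (kl (gl 3)) (n.testBit 3) (pc (kl (gl 4)) (n.testBit 4) (pc (kl (gl 5)) (n.testBit 5) v)))))

theorem word_nodup :
    ((List.range 64).map fun n => [1, 2, 4, 8, 16, 32].map (word n)).Nodup := by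
  decide +kernel

theorem gl_ok : ∀ i : Fin 6,
    ((gl i).all fun p => decide (p.1 < 64) && decide (p.2 < 64) && qn p.1 && qn p.2) = true := by
  decide +kernel

/-- Words to be squared, with a path to the Siegel map. -/
def sqData : List (List (ℕ × ℕ) × List (ℕ × ℕ)) :=
  [(gl 0, []), (gl 4, [(28, 48), (5, 7)]), (gl 5, [(13, 38), (5, 11)]),
   (gl 4 ++ gl 5, [(14, 34), (5, 7)]), (gl 0 ++ gl 1, [(10, 48)]), (gl 0 ++ gl 2, [(10, 40)]),
   (gl 0 ++ gl 3, [(10, 34)])]

theorem sqData_ok : (sqData.all fun d =>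
    (d.2.all fun p => decide (p.1 < 64) && decide (p.2 < 64) && qn p.1 && qn p.2) &&
      (List.range 64).all fun v => kl d.2 (kl d.1 v) == sgn 16 (kl d.2 v)) = true := by
  decide +kernel

variable {G₁ : Type*} [Group G₁] [Finite G₁] {G₂ : Type*} [Group G₂] [Finite G₂]
  {z₁ : G₁} {z₂ : G₂} {S₁ : Suz z₁} {S₂ : Suz z₂}

namespace Match

variable (ψ : Match S₁ S₂)

/-- The action of an element of the extension on codes. -/
def Acts (x : ψ.Ext) (h : ℕ → ℕ) : Prop :=
  ∀ v, v < 64 → h v < 64 ∧ (ψ.proj x).1 (dc v) = dc (h v)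

theorem acts_one : ψ.Acts 1 id := fun v hv => ⟨hv, by rw [_root_.map_one ψ.proj, oG_one_apply]; rfl⟩

theorem acts_mul {x y : ψ.Ext} {h k : ℕ → ℕ} (hx : ψ.Acts x h) (hy : ψ.Acts y k) :
    ψ.Acts (x * y) (fun v => h (k v)) := fun v hv => by
  obtain ⟨h1, e1⟩ := hy v hv
  obtain ⟨h2, e2⟩ := hx _ h1
  exact ⟨h2, by rw [_root_.map_mul ψ.proj, oG_mul_apply, e1, e2]⟩

theorem kl_append : ∀ (l l' : List (ℕ × ℕ)) (v : ℕ), kl (l ++ l') v = kl l (kl l' v)
  | [], _, _ => rfl
  | p :: l, l', v => by simp only [List.cons_append, kl, kl_append l l' v]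

theorem exists_acts : ∀ l : List (ℕ × ℕ),
    (l.all fun p => decide (p.1 < 64) && decide (p.2 < 64) && qn p.1 && qn p.2) = true →
    ∃ x, ψ.Acts x (kl l)
  | [], _ => ⟨1, ψ.acts_one⟩
  | p :: l, h => by
    simp only [List.all_cons, Bool.and_eq_true, decide_eq_true_eq] at h
    obtain ⟨⟨⟨⟨h1, h2⟩, h3⟩, h4⟩, h5⟩ := h
    obtain ⟨y, hy⟩ := exists_acts l h5
    obtain ⟨g, hg, hgact⟩ := exists_rr h1 h2 h3 h4
    obtain ⟨x, rfl⟩ := ψ.proj_surj hg
    have hx : ψ.Acts x (fun v => g2n p.1 p.2 v) := fun v hv => ⟨g2n_lt h1 h2 hv, hgact v hv⟩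
    have hxy := ψ.acts_mul hx hy
    exact ⟨x * y, hxy⟩

theorem sq_data {x : ψ.Ext} {d : List (ℕ × ℕ) × List (ℕ × ℕ)} (hd : d ∈ sqData)
    (hx : ψ.Acts x (kl d.1)) : x * x = 1 := by
  have h := List.all_eq_true.1 sqData_ok d hd
  rw [Bool.and_eq_true] at h
  obtain ⟨c, hc⟩ := ψ.exists_acts d.2 h.1
  have key : ∀ v : Fin 64, kl d.2 (kl d.1 v.val) = sgn 16 (kl d.2 v.val) := fun v =>
    beq_iff_eq.1 (List.all_eq_true.1 h.2 v.val (List.mem_range.2 v.isLt))
  have hy : c * x * c⁻¹ * (c * x * c⁻¹) = 1 := ψ.sq_sixteen fun u => by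
    obtain ⟨u', rfl⟩ := (ψ.proj c).1.surjective u
    rw [_root_.map_mul ψ.proj, _root_.map_mul ψ.proj, _root_.map_inv ψ.proj, oG_mul_apply,
      oG_mul_apply, oG_inv_apply]
    rw [← dc_cd u']
    obtain ⟨l1, e1⟩ := hx _ (cd u').isLt
    obtain ⟨l2, e2⟩ := hc _ l1
    obtain ⟨l3, e3⟩ := hc _ (cd u').isLt
    rw [e1, e2, e3, sg_dc (by norm_num) l3, key (cd u')]
  calc x * x = c⁻¹ * (c * x * c⁻¹ * (c * x * c⁻¹)) * c := by group
    _ = 1 := by rw [hy]; group

/-- A factor to be used or not. -/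
def pw {E : Type*} [Group E] (x : E) (b : Bool) : E := if b then x else 1

theorem acts_pw {x : ψ.Ext} {h : ℕ → ℕ} (hx : ψ.Acts x h) (b : Bool) : ψ.Acts (pw x b) (pc h b) := by
  rcases b with _ | _
  · exact ψ.acts_one
  · exact hx

theorem exists_sylow : ∃ P : Subgroup ψ.Ext, ψ.eps ∉ P ∧ Nat.card ↥P = 64 := by
  classical
  obtain ⟨s, hs⟩ := ψ.exists_acts (gl 0) (gl_ok 0)
  obtain ⟨t, ht⟩ := ψ.exists_acts (gl 4) (gl_ok 4)
  obtain ⟨u, hu⟩ := ψ.exists_acts (gl 5) (gl_ok 5)
  set s₁ := t * s * t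
  set s₂ := u * s * u
  set s₃ := t * u * s * (t * u)
  have happ : ∀ {x y : ψ.Ext} {l l' : List (ℕ × ℕ)}, ψ.Acts x (kl l) → ψ.Acts y (kl l') →
      ψ.Acts (x * y) (kl (l ++ l')) := fun hx hy v hv => by
    rw [kl_append]; exact ψ.acts_mul hx hy v hv
  have hs₁ : ψ.Acts s₁ (kl (gl 1)) := happ (happ ht hs) ht
  have hs₂ : ψ.Acts s₂ (kl (gl 2)) := happ (happ hu hs) hu
  have hs₃ : ψ.Acts s₃ (kl (gl 3)) := happ (happ (happ ht hu) hs) (happ ht hu)
  have ss : s * s = 1 := ψ.sq_data (d := (gl 0, [])) (by simp [sqData]) hs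
  have tt : t * t = 1 := ψ.sq_data (d := (gl 4, [(28, 48), (5, 7)])) (by simp [sqData]) ht
  have uu : u * u = 1 := ψ.sq_data (d := (gl 5, [(13, 38), (5, 11)])) (by simp [sqData]) hu
  have comm_of : ∀ {x y : ψ.Ext}, x * x = 1 → y * y = 1 → x * y * (x * y) = 1 → Commute x y := by
    intro x y hx hy hxy
    calc x * y = (x * y)⁻¹ := (inv_eq_of_mul_eq_one_right hxy).symm
      _ = y * x := by rw [mul_inv_rev, inv_eq_of_mul_eq_one_right hx, inv_eq_of_mul_eq_one_right hy]
  have ctu : Commute t u := comm_of tt uu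
    (ψ.sq_data (d := (gl 4 ++ gl 5, [(14, 34), (5, 7)])) (by simp [sqData]) (happ ht hu))
  have hcj : ∀ {x g : ψ.Ext}, g * g = 1 → x * x = 1 → g * x * g * (g * x * g) = 1 := by
    intro x g hg hx
    calc g * x * g * (g * x * g) = g * x * (g * g) * x * g := by group
      _ = g * (x * x) * g := by rw [hg]; group
      _ = 1 := by rw [hx, mul_one, hg]
  have htu2 : t * u * (t * u) = 1 := by
    calc t * u * (t * u) = t * (u * t) * u := by group
      _ = t * t * (u * u) := by rw [← ctu.eq]; group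
      _ = 1 := by rw [tt, uu, one_mul]
  have c1 : Commute s s₁ := comm_of ss (hcj tt ss)
    (ψ.sq_data (d := (gl 0 ++ gl 1, [(10, 48)])) (by simp [sqData]) (happ hs hs₁))
  have c2 : Commute s s₂ := comm_of ss (hcj uu ss)
    (ψ.sq_data (d := (gl 0 ++ gl 2, [(10, 40)])) (by simp [sqData]) (happ hs hs₂))
  have c3 : Commute s s₃ := comm_of ss (hcj htu2 ss)
    (ψ.sq_data (d := (gl 0 ++ gl 3, [(10, 34)])) (by simp [sqData]) (happ hs hs₃))
  -- conjugation by `t` and `u`
  have t0 : t * s = s₁ * t := by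
    show t * s = t * s * t * t
    rw [mul_assoc _ t t, tt, mul_one]
  have t1 : t * s₁ = s * t := by
    show t * (t * s * t) = s * t
    rw [← mul_assoc, ← mul_assoc, tt, one_mul]
  have t2 : t * s₂ = s₃ * t := by
    show t * (u * s * u) = t * u * s * (t * u) * t
    rw [mul_assoc _ (t * u) t, show t * u * t = u by rw [ctu.eq, mul_assoc, tt, mul_one]]
    group
  have t3 : t * s₃ = s₂ * t := by
    show t * (t * u * s * (t * u)) = u * s * u * t
    calc t * (t * u * s * (t * u)) = t * t * u * s * (t * u) := by group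
      _ = u * s * (u * t) := by rw [tt, one_mul, ctu.eq]
      _ = _ := by group
  have u0 : u * s = s₂ * u := by
    show u * s = u * s * u * u
    rw [mul_assoc _ u u, uu, mul_one]
  have u2 : u * s₂ = s * u := by
    show u * (u * s * u) = s * u
    rw [← mul_assoc, ← mul_assoc, uu, one_mul]
  have u1 : u * s₁ = s₃ * u := by
    show u * (t * s * t) = t * u * s * (t * u) * u
    rw [mul_assoc (t * u * s) (t * u) u, mul_assoc t u u, uu, mul_one, ← mul_assoc, ← mul_assoc, ← ctu.eq]
  have u3 : u * s₃ = s₁ * u := by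
    show u * (t * u * s * (t * u)) = t * s * t * u
    calc u * (t * u * s * (t * u)) = u * t * u * s * (t * u) := by group
      _ = t * s * (t * u) := by rw [← ctu.eq, mul_assoc t u u, uu, mul_one]
      _ = _ := by group
  have c12 : Commute s₁ s₂ := by
    have h1 : t * s₁ * t = s := by rw [t1, mul_assoc, tt, mul_one]
    have h2 : t * s₂ * t = s₃ := by rw [t2, mul_assoc, tt, mul_one]
    have hb : ∀ x, t * (t * x * t) * t = x := fun x => by
      calc t * (t * x * t) * t = t * t * x * (t * t) := by group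
        _ = x := by rw [tt, one_mul, mul_one]
    have e : t * s * t * (t * s₃ * t) = t * (s * s₃) * t := by
      calc t * s * t * (t * s₃ * t) = t * s * (t * t) * s₃ * t := by group
        _ = _ := by rw [tt]; group
    have e' : t * s₃ * t * (t * s * t) = t * (s₃ * s) * t := by
      calc t * s₃ * t * (t * s * t) = t * s₃ * (t * t) * s * t := by group
        _ = _ := by rw [tt]; group
    rw [← hb s₁, h1, ← hb s₂, h2]
    show _ = _
    rw [e, e', c3.eq]
  let f : Bool → Bool → Bool → Bool → Bool → Bool → ψ.Ext := fun a b c d e g =>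
    pw s a * (pw s₁ b * (pw s₂ c * (pw s₃ d * (pw t e * pw u g))))
  have hpw : ∀ {x y g : ψ.Ext}, g * x = y * g → ∀ (b : Bool) (r : ψ.Ext),
      g * (pw x b * r) = pw y b * (g * r) := by
    intro x y g h b r
    rcases b with _ | _
    · simp [pw]
    · simp only [pw, if_true]; rw [← mul_assoc, h, mul_assoc]
  have hflip : ∀ {x : ψ.Ext}, x * x = 1 → ∀ (b : Bool) (r : ψ.Ext),
      x * (pw x b * r) = pw x (!b) * r := by
    intro x h b r
    rcases b with _ | _
    · simp [pw]
    · simp [pw, ← mul_assoc, h]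
  have hflip' : ∀ {x : ψ.Ext}, x * x = 1 → ∀ (b : Bool), x * pw x b = pw x (!b) := by
    intro x h b
    rcases b with _ | _ <;> simp [pw, h]
  have hsw : ∀ {x y : ψ.Ext}, Commute x y → ∀ (b c : Bool) (r : ψ.Ext),
      pw x b * (pw y c * r) = pw y c * (pw x b * r) := by
    intro x y h b c r
    have : Commute (pw x b) (pw y c) := by
      rcases b with _ | _ <;> rcases c with _ | _ <;> simp [pw, h]
    rw [← mul_assoc, this.eq, mul_assoc]
  have c13 : Commute s₁ s₃ := by
    have h1 : u * s₁ * u = s₃ := by rw [u1, mul_assoc, uu, mul_one]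
    have h3 : u * s₃ * u = s₁ := by rw [u3, mul_assoc, uu, mul_one]
    have hb : ∀ x, t * u * (t * u * x * (t * u)) * (t * u) = x := fun x => by
      calc t * u * (t * u * x * (t * u)) * (t * u) = t * u * (t * u) * x * (t * u * (t * u)) := by group
        _ = x := by rw [htu2, one_mul, mul_one]
    have ea : s₁ = t * u * s₂ * (t * u) := by
      calc s₁ = t * (u * s₂ * u) * t := by rw [u2, mul_assoc s u u, uu, mul_one]
        _ = t * u * s₂ * (u * t) := by group
        _ = _ := by rw [ctu.eq]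
    rw [ea]
    show t * u * s₂ * (t * u) * (t * u * s * (t * u)) = t * u * s * (t * u) * (t * u * s₂ * (t * u))
    calc t * u * s₂ * (t * u) * (t * u * s * (t * u))
        = t * u * s₂ * (t * u * (t * u)) * s * (t * u) := by group
      _ = t * u * (s₂ * s) * (t * u) := by rw [htu2]; group
      _ = t * u * s * (t * u * (t * u)) * s₂ * (t * u) := by rw [← c2.eq, htu2]; group
      _ = _ := by group
  have c23 : Commute s₂ s₃ := by
    show u * s * u * (t * u * s * (t * u)) = t * u * s * (t * u) * (u * s * u)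
    have e1 : t * u * s * (t * u) = u * s₁ * u := by
      rw [u1, mul_assoc s₃ u u, uu, mul_one]
    rw [e1]
    calc u * s * u * (u * s₁ * u) = u * s * (u * u) * s₁ * u := by group
      _ = u * (s * s₁) * u := by rw [uu]; group
      _ = u * s₁ * (u * u) * s * u := by rw [c1.eq, uu]; group
      _ = _ := by group
  have hfs : ∀ a b c d e g, s * f a b c d e g = f (!a) b c d e g := fun a b c d e g => hflip ss a _
  have hft : ∀ a b c d e g, t * f a b c d e g = f b a d c (!e) g := fun a b c d e g => by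
    simp only [f]
    rw [hpw t0, hpw t1, hpw t2, hpw t3, hflip tt, hsw c1.symm a b, hsw c23.symm c d]
  have hfu : ∀ a b c d e g, u * f a b c d e g = f c d a b e (!g) := fun a b c d e g => by
    simp only [f]
    rw [hpw u0, hpw u1, hpw u2, hpw u3, hpw ctu.symm.eq, hflip' uu, hsw c3.symm b c,
      hsw c2.symm a c, hsw c13.symm b d, hsw c12.symm a d]
  let P : Subgroup ψ.Ext := Subgroup.closure {s, t, u}
  let fN : ℕ → ψ.Ext := fun n =>
    f (n.testBit 0) (n.testBit 1) (n.testBit 2) (n.testBit 3) (n.testBit 4) (n.testBit 5)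
  have hacts : ∀ n, ψ.Acts (fN n) (word n) := fun n => by
    have h := ψ.acts_mul (ψ.acts_pw hs (n.testBit 0)) (ψ.acts_mul (ψ.acts_pw hs₁ (n.testBit 1))
      (ψ.acts_mul (ψ.acts_pw hs₂ (n.testBit 2)) (ψ.acts_mul (ψ.acts_pw hs₃ (n.testBit 3))
      (ψ.acts_mul (ψ.acts_pw ht (n.testBit 4)) (ψ.acts_pw hu (n.testBit 5))))))
    exact h
  have hinj : ∀ m n : Fin 64, ψ.proj (fN m.val) = ψ.proj (fN n.val) → m = n := by
    intro m n h
    refine Fin.ext ?_
    have e : [1, 2, 4, 8, 16, 32].map (word m.val) = [1, 2, 4, 8, 16, 32].map (word n.val) := by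
      refine List.map_congr_left fun k hk => ?_
      have hk64 : k < 64 := by revert k; decide
      obtain ⟨l1, e1⟩ := hacts m.val k hk64
      obtain ⟨l2, e2⟩ := hacts n.val k hk64
      rw [h] at e1
      exact dc_inj l1 l2 (e1.symm.trans e2)
    exact List.inj_on_of_nodup_map word_nodup (List.mem_range.2 m.isLt) (List.mem_range.2 n.isLt) e
  have hf0 : fN 0 = 1 := by simp [fN, f, pw]
  have hsix : ∀ a b c d e g, ∃ n : Fin 64, f a b c d e g = fN n.val := fun a b c d e g => by
    obtain ⟨n, hn⟩ := six_code a b c d e g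
    simp only [show List.range 6 = [0, 1, 2, 3, 4, 5] from rfl, List.map_cons, List.map_nil,
      List.cons.injEq, and_true] at hn
    obtain ⟨rfl, rfl, rfl, rfl, rfl, rfl⟩ := hn
    exact ⟨n, rfl⟩
  have hcov : ∀ x ∈ P, ∃ n : Fin 64, x = fN n.val := by
    have hgen : ∀ g ∈ ({s, t, u} : Set ψ.Ext), g * g = 1 ∧ ∀ n : Fin 64, ∃ m : Fin 64, g * fN n.val = fN m.val := by
      rintro g (rfl | rfl | rfl)
      · exact ⟨ss, fun n => by rw [hfs]; exact hsix _ _ _ _ _ _⟩
      · exact ⟨tt, fun n => by rw [hft]; exact hsix _ _ _ _ _ _⟩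
      · exact ⟨uu, fun n => by rw [hfu]; exact hsix _ _ _ _ _ _⟩
    intro x hx
    induction hx using Subgroup.closure_induction_left with
    | one => exact ⟨0, hf0.symm⟩
    | mul_left g hg y _ ih =>
      obtain ⟨n, rfl⟩ := ih
      exact (hgen g hg).2 n
    | inv_mul_cancel g hg y _ ih =>
      obtain ⟨n, rfl⟩ := ih
      rw [inv_eq_of_mul_eq_one_right (hgen g hg).1]
      exact (hgen g hg).2 n
  have hmem : ∀ n, fN n ∈ P := by
    have hS : s ∈ P := Subgroup.subset_closure (by simp)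
    have hT : t ∈ P := Subgroup.subset_closure (by simp)
    have hU : u ∈ P := Subgroup.subset_closure (by simp)
    have hp : ∀ {x : ψ.Ext}, x ∈ P → ∀ b, pw x b ∈ P := fun hx b => by
      rcases b with _ | _
      · exact one_mem P
      · exact hx
    intro n
    exact mul_mem (hp hS _) (mul_mem (hp (mul_mem (mul_mem hT hS) hT) _)
      (mul_mem (hp (mul_mem (mul_mem hU hS) hU) _)
      (mul_mem (hp (mul_mem (mul_mem (mul_mem hT hU) hS) (mul_mem hT hU)) _)
      (mul_mem (hp hT _) (hp hU _)))))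
  refine ⟨P, fun h => ?_, ?_⟩
  · obtain ⟨n, hn⟩ := hcov _ h
    have h0 : n = 0 := hinj n 0 (by
      rw [← hn, ψ.proj_eps, show fN ((0 : Fin 64) : ℕ) = 1 from hf0, _root_.map_one ψ.proj])
    exact ψ.eps_ne (by rw [hn, h0]; exact hf0)
  · let F : Fin 64 → ↥P := fun n => ⟨fN n.val, hmem _⟩
    have hF : Function.Bijective F :=
      ⟨fun m n h => hinj m n (congrArg ψ.proj (congrArg Subtype.val h)), fun x => by
        obtain ⟨n, hn⟩ := hcov x.1 x.2
        exact ⟨n, Subtype.ext hn.symm⟩⟩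
    rw [← Nat.card_congr (Equiv.ofBijective F hF), Nat.card_fin]

theorem card_ext : Nat.card ψ.Ext = 2 * 64 * 405 := by
  classical
  have hker : Nat.card ↥ψ.proj.ker = 2 := by
    have hε : ψ.eps ∈ ψ.proj.ker := ψ.proj_eps
    rw [← Nat.card_congr (Equiv.ofBijective (fun b : Bool => (if b then ⟨ψ.eps, hε⟩ else 1 : ↥ψ.proj.ker))
      ⟨fun a b h => by
        have h' := congrArg Subtype.val h
        rcases a with _ | _ <;> rcases b with _ | _ <;> simp at h' ⊢
        · exact ψ.eps_ne h'.symm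
        · exact ψ.eps_ne h',
       fun x => by
        rcases ψ.proj_ker x.2 with e | e
        · exact ⟨false, Subtype.ext (by simp [e])⟩
        · exact ⟨true, Subtype.ext (by simp [e])⟩⟩), Nat.card_eq_fintype_card]
    rfl
  have hrange : Nat.card ↥ψ.proj.range = 25920 := by
    obtain ⟨-, hcardΩ, hmem⟩ := omega_facts
    rw [← qM_coe] at hcardΩ
    rw [← hcardΩ]
    refine Nat.card_congr ((oEquiv (qM 2)).toEquiv.subtypeEquiv fun g => ?_).symm
    rw [hmem]
    exact ⟨fun h => ψ.proj_surj h, fun ⟨x, hx⟩ => hx ▸ ψ.proj_even x⟩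
  have h := ψ.proj.ker.card_mul_index
  rw [Subgroup.index_ker, hker, hrange] at h
  rw [← h]

/-- The extension splits. -/
theorem exists_split : ∃ T : Subgroup ψ.Ext, ψ.eps ∉ T ∧ ∀ x, x ∈ T ∨ ψ.eps * x ∈ T := by
  obtain ⟨P, hP, hc⟩ := ψ.exists_sylow
  exact exists_compl ψ.eps ψ.eps_central ψ.eps_sq P hP (k := 405) ⟨202, rfl⟩ (by rw [hc, ψ.card_ext])

end Match

end Cfsg.Agent.SuzRecog
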