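import Cfsg.Agent.SuzRecog.ModelGen
import Cfsg.Agent.SuzRecog.Finish
import Cfsg.Agent.DCoset.Emit

/-!
The map out of the model from an enumeration certificate and a transfer of its relators.
-/

set_option autoImplicit false
set_option maxRecDepth 100000

namespace Cfsg.Agent.SuzRecog.MS

open Cfsg Cfsg.Agent.Compute Cfsg.Agent.StemCert Cfsg.Agent.LargeExtra
open Cfsg.Agent.SuzType (Suz)
open Cfsg.Agent.DCoset (Tab QModel Rules Steps Cover val valW pk16)

/-- A packed word: the length below `65536`, then one byte for a letter. -/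
noncomputable def unW (v : ℕ) : List ℕ :=
  forceN (Nat.mod v 65536) fun n => forceN (Nat.div v 65536) fun b =>
    Nat.rec (motive := fun _ => ℕ → List ℕ) (fun _ => [])
      (fun _ rec b => forceN (Nat.mod b 256) fun a => forceN (Nat.div b 256) fun b' => a :: rec b') n b

theorem valW_unW {M : Type*} [Monoid M] (lv : ℕ → M) : ∀ n b : ℕ,
    valW lv n b = ((Nat.rec (motive := fun _ => ℕ → List ℕ) (fun _ => [])
      (fun _ rec b => forceN (Nat.mod b 256) fun a => forceN (Nat.div b 256) fun b' => a :: rec b') n b).map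
        lv).prod
  | 0, b => rfl
  | n + 1, b => by
    show lv (b % 256) * valW lv n (b / 256) = _
    rw [valW_unW lv n]
    simp only [forceN_eq, List.map_cons, List.prod_cons]
    rfl

/-- The value of a packed word is the value of its letters. -/
theorem val_unW {M : Type*} [Monoid M] (lv : ℕ → M) (w : ℕ) : val lv w = ((unW w).map lv).prod := by
  rw [val, valW_unW, unW, forceN_eq, forceN_eq]
  rfl

/-- The word of a relator, in the letters of the model. -/
noncomputable def relMS (L : Rules) (r : ℕ) : List (List ℕ) :=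
  [] :: (List.range (L.relLen r)).map fun m => unW (L.relW r m)

/-- A product word with the swapper after each entry. -/
noncomputable def wordT (l : List (List ℕ)) : List ℕ := l.flatMap fun c => c ++ [Data.tL]

/-- Letters of the centraliser. -/
noncomputable def letB (n : ℕ) (w : ℕ) : Bool := allB (fun s => Nat.blt s n) (unW w)

/-- The shape of a rule. -/
noncomputable def ruleB (M : Tab) (L : Rules) (r : ℕ) : Bool :=
  M.okWord (L.rU r) && M.okWord (L.rV r) && letB Data.nC (L.rU r) && letB Data.nC (L.rV r) &&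
    Nat.beq (L.rD r) (L.rS r) &&
    ((Nat.beq (L.rS r) 1 &&
      eqW (Data.tL :: unW (L.rV r) ++ [Data.tL]) (unW (L.rU r)) &&
      eqW (unW (L.rV r) ++ [Data.wL]) (Data.wL :: unW (L.rV r))) ||
    (Nat.beq (L.rS r) 0 && Nat.beq (L.rU r) (L.rV r)))

/-- The shape and value of a relator. -/
noncomputable def relB (M : Tab) (L : Rules) (r : ℕ) : Bool :=
  Nat.beq (L.relHd r) 1 && M.okWord (L.relTl r) && letB Data.nC (L.relTl r) &&
    allBelow (L.relLen r) (fun m =>
      Nat.beq (L.relT r m) 1 && M.okWord (L.relW r m) && letB Data.nC (L.relW r m)) &&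
    eqW (wordT (relMS L r)) (unW (L.relTl r))

/-- The checks of a rule table in the model. -/
noncomputable def rulesB (M : Tab) (L : Rules) : Bool :=
  Nat.beq L.nT 2 && Nat.beq (L.invT 0) 0 && Nat.beq (L.invT 1) 1 &&
    allBelow 2 (fun a => allBelow 2 fun b =>
      Nat.beq (L.mulT a b) 0 || Nat.beq (L.mulT a b) (Nat.succ (Nat.mod (Nat.add a b) 2))) &&
    allBelow L.nRule (ruleB M L) && allBelow L.nRel (relB M L)

theorem mWord_map : ∀ l : List (List ℕ),
    mWord tE (l.map (evalW gen)) = evalW gen (wordT l)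
  | [] => rfl
  | c :: l => by
    simp only [List.map_cons, mWord, mWord_map l, wordT, List.flatMap_cons, evalW_append, ev_one]
    rfl

theorem cq_word [Finite Spor.Suz] {w : ℕ} (h : letB Data.nC w = true) :
    ((val (cq id) w : CM) : Spor.Suz) = evalW gen (unW w) := by
  rw [val_unW, SubmonoidClass.coe_list_prod, List.map_map]
  exact congrArg List.prod (List.map_congr_left fun s hs =>
    cq_coe (lm := id) (Nat.blt_eq.mp (allB_spec h s hs)))

theorem shape_of_check {M : Tab} {L : Rules} (h : rulesB M L = true) : Shape M L := by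
  simp only [rulesB, Bool.and_eq_true, Nat.beq_eq] at h
  obtain ⟨⟨⟨⟨⟨h2, h0⟩, h1⟩, hm⟩, hr⟩, hl⟩ := h
  refine ⟨h2, ⟨h0, h1⟩, fun a ha b hb => ?_, fun r hr' => ?_, fun r hr' => ?_⟩
  · have e := allBelow_eq_true.mp (allBelow_eq_true.mp hm a ha) b hb
    simp only [Bool.or_eq_true, Nat.beq_eq] at e
    exact e
  · have e := allBelow_eq_true.mp hr r hr'
    simp only [ruleB, Bool.and_eq_true, Bool.or_eq_true, Nat.beq_eq] at e
    exact ⟨e.1.1.1.1.1, e.1.1.1.1.2, e.1.2, e.2.imp (fun x => x.1.1) fun x => ⟨x.1, x.2⟩⟩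
  · have e := allBelow_eq_true.mp hl r hr'
    simp only [relB, Bool.and_eq_true, Nat.beq_eq] at e
    refine ⟨e.1.1.1.1, e.1.1.1.2, fun m hm' => ?_⟩
    have e' := allBelow_eq_true.mp e.1.2 m hm'
    simp only [Bool.and_eq_true, Nat.beq_eq] at e'
    exact ⟨e'.1.1, e'.1.2⟩

variable {M : Tab} {L : Rules}

theorem word_coe [Finite Spor.Suz] {P : QModel CM} (hq : P.q = cq id) (h : rulesB M L = true)
    {r : ℕ} (hr : r < L.nRel) :
    (((certData P L tE).word r).map Subtype.val) = (relMS L r).map (evalW gen) := by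
  simp only [rulesB, Bool.and_eq_true] at h
  have e := allBelow_eq_true.mp h.2 r hr
  simp only [relB, Bool.and_eq_true] at e
  simp only [certData, relMS, List.map_cons, List.map_map, OneMemClass.coe_one]
  refine congrArg₂ List.cons rfl (List.map_congr_left fun m hm => ?_)
  have e' := allBelow_eq_true.mp e.1.2 m (List.mem_range.1 hm)
  simp only [Bool.and_eq_true] at e'
  show ((P.el (L.relW r m) : CM) : Spor.Suz) = _
  rw [QModel.el, hq, cq_word e'.2]
  rfl

theorem tl_coe [Finite Spor.Suz] {P : QModel CM} (hq : P.q = cq id) (h : rulesB M L = true)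
    {r : ℕ} (hr : r < L.nRel) :
    (((certData P L tE).tl r : CM) : Spor.Suz) = evalW gen (unW (L.relTl r)) := by
  simp only [rulesB, Bool.and_eq_true] at h
  have e := allBelow_eq_true.mp h.2 r hr
  simp only [relB, Bool.and_eq_true] at e
  show ((P.el (L.relTl r) : CM) : Spor.Suz) = _
  rw [QModel.el, hq, cq_word e.1.1.2]

theorem valid_of_check [Finite Spor.Suz] {P : QModel CM} (hq : P.q = cq id)
    (h : rulesB M L = true) :
    (certData P L tE).Valid ∧
      ∀ l < (certData P L tE).nU, ((certData P L tE).u l : Spor.Suz) * wE = wE * (certData P L tE).u l := by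
  have h' := h
  simp only [rulesB, Bool.and_eq_true] at h'
  have htt : tE * tE = 1 := model_setting.2.2.2.1
  have key : ∀ l < L.nRule, L.rS l = 1 →
      tE * (P.el (L.rV l) : Spor.Suz) * tE = P.el (L.rU l) ∧
        (P.el (L.rV l) : Spor.Suz) * wE = wE * P.el (L.rV l) := by
    intro l hl hS
    have e := allBelow_eq_true.mp h'.1.2 l hl
    simp only [ruleB, Bool.and_eq_true, Bool.or_eq_true, Nat.beq_eq] at e
    obtain ⟨⟨⟨-, hU⟩, hV⟩, -⟩ := e.1
    have eU : ((P.el (L.rU l) : CM) : Spor.Suz) = evalW gen (unW (L.rU l)) := by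
      rw [QModel.el, hq, cq_word hU]
    have eV : ((P.el (L.rV l) : CM) : Spor.Suz) = evalW gen (unW (L.rV l)) := by
      rw [QModel.el, hq, cq_word hV]
    rcases e.2 with ⟨⟨-, e1⟩, e2⟩ | ⟨h0, -⟩
    · have a1 := eq_of_eqW e1
      rw [List.cons_append, evalW_cons, evalW_append, ev_one] at a1
      have a2 := eq_of_eqW e2
      rw [evalW_append, ev_one, evalW_cons] at a2
      rw [eU, eV]
      exact ⟨(mul_assoc _ _ _).trans a1, a2⟩
    · omega
  refine ⟨⟨⟨htt, fun l hl => ?_, fun r hr => ?_⟩, closure_CM_tE, ?_⟩, fun l hl => ?_⟩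
  · show tE * (((certData P L tE).u l : CM) : Spor.Suz) * tE = ((certData P L tE).v l : CM)
    by_cases hS : L.rS l = 1
    · simp only [certData, hS, if_true]
      exact (key l hl hS).1
    · simp only [certData, hS, if_false, OneMemClass.coe_one, mul_one]
      exact htt
  · rw [pWord_subtype, word_coe hq h hr]
    show _ = (((certData P L tE).tl r : CM) : Spor.Suz)
    rw [tl_coe hq h hr]
    show mWord tE _ = _
    rw [mWord_map]
    have e := allBelow_eq_true.mp h'.2 r hr
    simp only [relB, Bool.and_eq_true] at e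
    exact eq_of_eqW e.2
  · exact CosetCert.SuzOrder.order_and_simple.1
  · by_cases hS : L.rS l = 1
    · simp only [certData, hS, if_true]
      exact (key l hl hS).2
    · simp only [certData, hS, if_false, OneMemClass.coe_one, mul_one, one_mul]

universe u

/-- The relators of a rule table hold along every link. -/
def Transferred (L : Rules) : Prop :=
  ∀ {G : Type u} [Group G] [Finite G] {z : G} (S₁ : Suz zE) (_ : S₁.Fr wE) (S : Suz z)
    (E : Spor.Suz → G) (E' : G → Spor.Suz) (t₂ : G), Link S₁ S E E' wE tE t₂ →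
    ∀ r < L.nRel, gWord E t₂ ((relMS L r).map (evalW gen)) = E (evalW gen (unW (L.relTl r)))

/-- The map out of the model from a certificate. -/
theorem hasTheta_of {M : Tab} {L : Rules} {D : Steps} {K : Cover} (bs : List ℕ)
    (hlt : ∀ g p, M.act g p < 65536) (hbase : M.base = pk16 M.k fun l => bs.getD l 0)
    (hbs : allB (fun p => Nat.blt p 1782) bs = true) (hact : allBelow M.nL (actB M id) = true)
    (hn : 5 ≤ M.nL) (hprod : ((List.range M.k).map (K.chain 0).size).prod = 3317760)
    (hok : ∀ s, s < D.len → Steps.check D L M s = true)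
    (hsrc : ∀ j, 1 ≤ j → j < D.nNode → D.nodeSrc j < j)
    (hV : K.Valid D L M 3317760) (hsum : ((List.range K.nLive).map K.idx).sum = 135135)
    (hrules : rulesB M L = true) (hrel : Transferred.{u} L)
    (G : Type u) [Group G] : HasTheta G := by
  intro _ z S
  have := SuzOut.finite_suz
  obtain ⟨⟨S₁, F⟩, ht, htz, -, -, -⟩ := model_setting
  have hlt' : ∀ l, bs.getD l 0 < 1782 := fun l => by
    by_cases h : l < bs.length
    · rw [List.getD_eq_getElem _ _ h]
      exact Nat.blt_eq.mp (allB_spec hbs _ (List.getElem_mem h))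
    · rw [List.getD_eq_default _ _ (Nat.le_of_not_lt h)]
      norm_num
  let P := cModel (acts hact hlt hbase hlt') (K.chain 0) hprod
    (fun l a hl ha => hV.chain_gen 0 l a hV.live_zero.1 hl ha)
    (fun l m hl hm => hV.chain_pt 0 l m hV.live_zero.1 hl hm)
  have hq : P.q = cq id := rfl
  have hP : P.toTab = M := rfl
  have hgen : Subgroup.closure {x | ∃ g, g < P.nL ∧ x = P.q g} = ⊤ :=
    gen_top fun s hs => ⟨s, lt_of_lt_of_le hs hn, rfl⟩
  obtain ⟨hD, hu⟩ := valid_of_check hq hrules
  have hB : AData.Bound.{u} (certData P L tE) :=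
    bound_of_cert (hP ▸ shape_of_check hrules) card_CM hgen (fun s hs => hok s hs) hsrc hV hsum
      (by rw [SuzOut.card_suz])
  obtain ⟨θ, hinj, hz, hC⟩ := exists_theta hD hB S₁ F ht htz rfl hu S fun E E' t₂ Lk r hr => by
    rw [word_coe hq hrules hr, tl_coe hq hrules hr]
    exact hrel S₁ F S E E' t₂ Lk r hr
  exact ⟨zE, θ, hinj, hz, hC⟩

end Cfsg.Agent.SuzRecog.MS
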