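import Cfsg.Agent.SuzRecog.ThetaOf
import Cfsg.Agent.SuzRecog.Rels

/-!
Checked rows give the transfer of the relators of a rule table.
-/

set_option autoImplicit false

namespace Cfsg.Agent.SuzRecog.MS

open Cfsg Cfsg.Agent.Compute Cfsg.Agent.StemCert Cfsg.Agent.LargeExtra
open Cfsg.Agent.SuzType (Suz)
open Cfsg.Agent.DCoset (Rules)

/-- Two lists of letters are the same. -/
noncomputable def sameW : List ℕ → List ℕ → Bool
  | [], [] => true
  | a :: l, b :: l' => Nat.beq a b && sameW l l'
  | _, _ => false

theorem eq_of_sameW : ∀ {l l' : List ℕ}, sameW l l' = true → l = l'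
  | [], [], _ => rfl
  | [], _ :: _, h => Bool.noConfusion h
  | _ :: _, [], h => Bool.noConfusion h
  | a :: l, b :: l', h => by
    simp only [sameW, Bool.and_eq_true, Nat.beq_eq] at h
    rw [h.1, eq_of_sameW h.2]

/-- Two lists of words are the same. -/
noncomputable def sameL : List (List ℕ) → List (List ℕ) → Bool
  | [], [] => true
  | a :: l, b :: l' => sameW a b && sameL l l'
  | _, _ => false

theorem eq_of_sameL : ∀ {l l' : List (List ℕ)}, sameL l l' = true → l = l'
  | [], [], _ => rfl
  | [], _ :: _, h => Bool.noConfusion h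
  | _ :: _, [], h => Bool.noConfusion h
  | a :: l, b :: l', h => by
    simp only [sameL, Bool.and_eq_true] at h
    rw [eq_of_sameW h.1, eq_of_sameL h.2]

/-- The row of a number is the relator of that number. -/
noncomputable def sameRow (rows : List RelRow) (L : Rules) (r : ℕ) : Bool :=
  (fun row => Nat.blt r rows.length &&
    sameL (relMS L r) ([] :: (relFull row).dropLast) &&
      sameW (unW (L.relTl r)) (invW ((relFull row).getLastD [])))
    (rows.getD r ⟨0, [], 0, [], []⟩)

universe u

/-- The listed relations transfer the relators. -/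
theorem transferred_of_rows [Finite Spor.Suz] {L : Rules}
    (hsame : allBelow L.nRel (sameRow RelData.rows L) = true) : Transferred.{u} L := by
  intro G _ _ z S₁ F S E E' t₂ Lk r hr
  have h := allBelow_eq_true.mp hsame r hr
  simp only [sameRow, Bool.and_eq_true, Nat.blt_eq] at h
  rw [eq_of_sameL h.1.2, eq_of_sameW h.2, List.map_cons]
  exact row_rel F Lk (by rw [List.getD_eq_getElem _ _ h.1.1]; exact List.getElem_mem h.1.1)

end Cfsg.Agent.SuzRecog.MS
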