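import Cfsg.Agent.SuzRecog.SideGen

/-!
Relations between the centraliser and the swapper are transferred from the model: conjugation is
tracked on elements staying in the common centraliser, and a relation is then forced as soon as no
non-trivial element centralising the tracked ones is fixed by the word.
-/

set_option autoImplicit false

open Cfsg Cfsg.Agent.LargeExtra Cfsg.Agent.SuzType Cfsg.Agent.SuzType.Suz

namespace Cfsg.Agent.SuzRecog

variable {G₁ : Type*} [Group G₁] [Finite G₁] {G₂ : Type*} [Group G₂] [Finite G₂]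
  {z₁ w₁ : G₁} {z₂ : G₂} {S₁ : Suz z₁} {S₂ : Suz z₂}

/-- The data of the extension of the identification by a swapper. -/
structure Link (S₁ : Suz z₁) (S₂ : Suz z₂) (E : G₁ → G₂) (E' : G₂ → G₁) (w₁ t₁ : G₁) (t₂ : G₂) : Prop where
  comp : Comp S₁ S₂ E
  comp' : Comp S₂ S₁ E'
  left_inv : ∀ a, a * z₁ = z₁ * a → E' (E a) = a
  right_inv : ∀ b, b * z₂ = z₂ * b → E (E' b) = b
  map_zw : t₁ * z₁ * t₁⁻¹ = w₁
  map_wz : t₁ * w₁ * t₁⁻¹ = z₁
  conj : ∀ d, d * z₁ = z₁ * d → d * w₁ = w₁ * d → t₂ * E d * t₂⁻¹ = E (t₁ * d * t₁⁻¹)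
  sq : t₂ * t₂ = E (t₁ * t₁)

/-- The extension exists, with the square of the swapper as in the model. -/
theorem exists_link (S₁ : Suz z₁) (S₂ : Suz z₂) (F : S₁.Fr w₁) {t₁ : G₁} (ht₁ : t₁ ∈ oc (w₁ * z₁))
    (ht₁z : t₁ * z₁ * t₁⁻¹ = w₁) : ∃ E E' t₂, Link S₁ S₂ E E' w₁ t₁ t₂ := by
  obtain ⟨E, E', hE, hE', h1, h2⟩ := exists_comp S₁ S₂
  obtain ⟨t, htu, htz, htw, hconj⟩ := exists_swap_comp hE hE' h1 h2 F ht₁ ht₁z
  set w := E w₁
  set u := w * z₂ with hu
  have G2 : S₂.Fr w := hE.map_fr F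
  have F₂ : S₂.Fr u := Fr_mul_z G2
  have F₁ := Fr_mul_z F
  have hwc := S₁.comm F.mem
  have ht₁w : t₁ * w₁ * t₁⁻¹ = z₁ := swap_back S₁.zz hwc (comm_w F₁ ht₁) ht₁z
  have hEu : E (w₁ * z₁) = u := by rw [hE.map_mul _ _ hwc rfl, hE.map_z]
  obtain ⟨x, hx⟩ : ∃ e, E (t₁ * t₁) = zp u e := by
    rcases sq_cases F₁ ht₁ with e | e
    · exact ⟨0, by rw [e, hE.map_one, zp_zero]⟩
    · exact ⟨1, by rw [e, hEu, zp_one]⟩
  obtain ⟨y, hy⟩ : ∃ e, t * t = zp u e := by
    rcases sq_cases F₂ htu with e | e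
    · exact ⟨0, by rw [e, zp_zero]⟩
    · exact ⟨1, by rw [e, zp_one]⟩
  by_cases hxy : y = x
  · exact ⟨E, E', t, ⟨hE, hE', h1, h2, ht₁z, ht₁w, hconj, by rw [hy, hx, hxy]⟩⟩
  · have hyx : y + 1 = x := (by decide : ∀ a b : ZMod 2, a ≠ b → a + 1 = b) y x hxy
    refine ⟨E, E', t * z₂, ⟨hE, hE', h1, h2, ht₁z, ht₁w, fun d hd hdw => ?_, ?_⟩⟩
    · rw [← hconj d hd hdw]
      calc t * z₂ * E d * (t * z₂)⁻¹ = t * (z₂ * E d) * z₂⁻¹ * t⁻¹ := by group
        _ = t * E d * t⁻¹ := by rw [← hE.comm d hd]; group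
    · have hwu : Commute (t * t) w := by
        calc t * t * w = t * (t * w * t⁻¹) * t⁻¹ * (t * t) := by group
          _ = w * (t * t) := by rw [htw, htz]
      calc t * z₂ * (t * z₂) = (t * z₂ * t⁻¹) * (t * t) * z₂ := by group
        _ = t * t * (w * z₂) := by rw [htz, ← hwu.eq, mul_assoc]
        _ = E (t₁ * t₁) := by rw [hy, hx, ← hyx, zp_add (ww F₂), zp_one]

variable {E : G₁ → G₂} {E' : G₂ → G₁} {t₁ : G₁} {t₂ : G₂}

/-- The word of a list of centralising elements, each followed by the swapper. -/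
def mWord (t : G₁) : List G₁ → G₁
  | [] => 1
  | c :: l => c * t * mWord t l

/-- Its image. -/
def gWord (E : G₁ → G₂) (t : G₂) : List G₁ → G₂
  | [] => 1
  | c :: l => E c * t * gWord E t l

/-- The element stays in the common centraliser along the word. -/
def Tracked (z w t : G₁) : List G₁ → G₁ → Prop
  | [], x => x * z = z * x
  | _ :: l, x => Tracked z w t l x ∧
      mWord t l * x * (mWord t l)⁻¹ * z = z * (mWord t l * x * (mWord t l)⁻¹) ∧
      mWord t l * x * (mWord t l)⁻¹ * w = w * (mWord t l * x * (mWord t l)⁻¹)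

omit [Finite G₁] in
theorem mWord_append (t : G₁) : ∀ l l' : List G₁, mWord t (l ++ l') = mWord t l * mWord t l'
  | [], _ => (one_mul _).symm
  | c :: l, l' => by simp only [List.cons_append, mWord, mWord_append t l l', mul_assoc]

omit [Finite G₁] [Finite G₂] in
theorem gWord_append (E : G₁ → G₂) (t : G₂) :
    ∀ l l' : List G₁, gWord E t (l ++ l') = gWord E t l * gWord E t l'
  | [], _ => (one_mul _).symm
  | c :: l, l' => by simp only [List.cons_append, gWord, gWord_append E t l l', mul_assoc]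

omit [Finite G₁] in
theorem mWord_pow (t : G₁) (l : List G₁) :
    ∀ n : ℕ, mWord t (List.replicate n l).flatten = mWord t l ^ n
  | 0 => (pow_zero _).symm
  | n + 1 => by rw [List.replicate_succ, List.flatten_cons, mWord_append, mWord_pow t l n, pow_succ']

omit [Finite G₁] [Finite G₂] in
theorem gWord_pow (E : G₁ → G₂) (t : G₂) (l : List G₁) :
    ∀ n : ℕ, gWord E t (List.replicate n l).flatten = gWord E t l ^ n
  | 0 => (pow_zero _).symm
  | n + 1 => by rw [List.replicate_succ, List.flatten_cons, gWord_append, gWord_pow E t l n, pow_succ']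

/-- Tracked conjugation agrees with the model. -/
theorem track (L : Link S₁ S₂ E E' w₁ t₁ t₂) : ∀ (l : List G₁), (∀ c ∈ l, c * z₁ = z₁ * c) →
    ∀ x, Tracked z₁ w₁ t₁ l x →
      mWord t₁ l * x * (mWord t₁ l)⁻¹ * z₁ = z₁ * (mWord t₁ l * x * (mWord t₁ l)⁻¹) ∧
      gWord E t₂ l * E x * (gWord E t₂ l)⁻¹ = E (mWord t₁ l * x * (mWord t₁ l)⁻¹) := by
  intro l
  induction l with
  | nil =>
    intro _ x (hx : x * z₁ = z₁ * x)
    refine ⟨?_, ?_⟩
    · simpa [mWord] using hx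
    · simp [mWord, gWord]
  | cons c l ih =>
    intro hl x hx
    obtain ⟨hx', hyz, hyw⟩ := hx
    obtain ⟨-, he⟩ := ih (fun a ha => hl a (List.mem_cons_of_mem _ ha)) x hx'
    set y := mWord t₁ l * x * (mWord t₁ l)⁻¹
    have hc := hl c (by simp)
    obtain ⟨hty, -⟩ := conj_pair L.map_zw L.map_wz hyz hyw
    have em : mWord t₁ (c :: l) * x * (mWord t₁ (c :: l))⁻¹ = c * (t₁ * y * t₁⁻¹) * c⁻¹ := by
      show c * t₁ * mWord t₁ l * x * (c * t₁ * mWord t₁ l)⁻¹ = _
      simp only [y]; group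
    refine ⟨?_, ?_⟩
    · rw [em]
      exact ((Commute.mul_left hc hty).mul_left (Commute.inv_left hc)).eq
    · rw [em, L.comp.map_conj hc hty, ← L.conj y hyz hyw, ← he]
      show E c * t₂ * gWord E t₂ l * E x * (E c * t₂ * gWord E t₂ l)⁻¹ = _
      group

/-- A power of a word is trivial in the group when it is trivial in the model. -/
theorem rel_pow (L : Link S₁ S₂ E E' w₁ t₁ t₂) (l : List G₁) (hl : ∀ c ∈ l, c * z₁ = z₁ * c) (n : ℕ)
    (hn : mWord t₁ l ^ n = 1) (X : Set G₁) (hz : z₁ ∈ X)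
    (hX : ∀ x ∈ X, Tracked z₁ w₁ t₁ (List.replicate n l).flatten x)
    (hfix : ∀ k, k * z₁ = z₁ * k → (∀ x ∈ X, k * x = x * k) →
      Tracked z₁ w₁ t₁ l k ∧ (mWord t₁ l * k = k * mWord t₁ l → k = 1)) :
    gWord E t₂ l ^ n = 1 := by
  set R := gWord E t₂ l ^ n with hR
  have hflat : ∀ c ∈ (List.replicate n l).flatten, c * z₁ = z₁ * c := fun c hc => by
    obtain ⟨m, hm, hcm⟩ := List.mem_flatten.1 hc
    rw [List.eq_of_mem_replicate hm] at hcm
    exact hl c hcm
  have hXc : ∀ x ∈ X, x * z₁ = z₁ * x ∧ R * E x = E x * R := by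
    intro x hx
    obtain ⟨h1, h2⟩ := track L _ hflat x (hX x hx)
    rw [mWord_pow, hn, one_mul, inv_one, mul_one] at h1 h2
    rw [gWord_pow, ← hR] at h2
    exact ⟨h1, mul_inv_eq_iff_eq_mul.1 h2⟩
  have hRz : R * z₂ = z₂ * R := by
    rw [← L.comp.map_z]; exact (hXc z₁ hz).2
  set k := E' R
  have hk : k * z₁ = z₁ * k := L.comp'.comm R hRz
  have hEk : E k = R := L.right_inv R hRz
  obtain ⟨htk, hfx⟩ := hfix k hk fun x hx => by
    obtain ⟨hxz, hxR⟩ := hXc x hx
    have h1 := congrArg E' (L.comp.map_mul k x hk hxz ▸ hEk ▸ hxR :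
      E (k * x) = E x * E k)
    rw [← L.comp.map_mul x k hxz hk, L.left_inv _ (Commute.mul_left hk hxz).eq,
      L.left_inv _ (Commute.mul_left hxz hk).eq] at h1
    exact h1
  obtain ⟨h1, h2⟩ := track L l hl k htk
  rw [hEk] at h2
  have e : gWord E t₂ l * R * (gWord E t₂ l)⁻¹ = R := by
    rw [hR, ← pow_succ', pow_succ, mul_inv_cancel_right]
  rw [e] at h2
  have h3 := congrArg E' h2
  rw [L.left_inv _ h1] at h3
  rw [← hEk, hfx (mul_inv_eq_iff_eq_mul.1 h3.symm), L.comp.map_one]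

end Cfsg.Agent.SuzRecog
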