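import Cfsg.Agent.SuzType.Invol

/-!
An element over a non-singular Siegel map squares to the conjugate of `z` as soon as it makes
the commutators of the elements of `oc w` over that map.
-/

set_option autoImplicit false

open Cfsg Cfsg.Agent.ThreeTrans.OrthCohom Cfsg.Agent.Classical.Quad QuadraticMap Cfsg.Agent.LargeExtra
  Cfsg.Agent.SuzType Cfsg.Agent.SuzType.Suz

namespace Cfsg.Agent.SuzRecog

theorem zmod_add_self : ∀ a : ZMod 2, a + a = 0 := by decide

theorem bz_ne : ∀ a b : Bool, bz a = bz b ↔ a = b := by decide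

theorem Bn_symm : ∀ i j : Fin 64, Bn i.val j.val = Bn j.val i.val := by decide +kernel

theorem sg17 : ∀ v : Fin 64, sgn 17 v.val = sgn 16 v.val := by decide +kernel

theorem stab_inv : ∀ p : Fin 64, Bn p.val 1 = false →
    ([2, 8, 16, 32].all fun k => Bn (g2n 10 16 k) p.val == Bn k p.val &&
      Bn (g2n 10 18 k) p.val == Bn k p.val) = true → p.val ∈ [0, 1, 16, 17] := by decide +kernel

theorem perp_pair : ∀ i : Fin 64, Bn i.val 1 = false → i.val ≠ 0 → i.val ≠ 1 →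
    ∃ v : Fin 64, Bn v.val 1 = false ∧ Bn i.val v.val = true := by decide +kernel

theorem perp_code : ∀ v : Fin 64, Bn v.val 1 = false →
    v.val = (((v.val &&& 1) ^^^ (v.val &&& 2)) ^^^ ((v.val &&& 8) ^^^ (v.val &&& 16))) ^^^
      (v.val &&& 32) := by decide +kernel

theorem Bn_shift : ∀ p v : Fin 64, Bn v.val 1 = false → p.val ∈ [0, 1, 16, 17] →
    Bn v.val p.val = (if p.val ∈ [0, 1] then false else Bn v.val 16) := by decide +kernel

variable {G : Type*} [Group G] [Finite G] {z : G} {S : Suz z} {w : G}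

theorem comm_group {x a b : G} : x * (a * b) * x⁻¹ * (a * b)⁻¹ =
    x * a * x⁻¹ * a⁻¹ * (a * (x * b * x⁻¹ * b⁻¹) * a⁻¹) := by group

theorem zp_comm_of {u a : G} (h : a * u = u * a) (e : ZMod 2) : a * zp u e = zp u e * a := by
  rcases zmod_cases e with rfl | rfl <;> simp [zp_zero, zp_one, h]

theorem zp_wz (F : S.Fr w) (e : ZMod 2) : zp (w * z) e = zp w e * zp z e := by
  rcases zmod_cases e with rfl | rfl <;> simp [zp_zero, zp_one]

theorem dc1_ne_zero : dc 1 ≠ (0 : SuzType.V) := fun e => by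
  rw [← dc_zero] at e
  exact absurd (dc_inj (by norm_num) (by norm_num) e) (by norm_num)

variable {x : G}

/-- The commutator has the form `w ^ B * z ^ m`. -/
theorem com_form (F : S.Fr w) (hx : x ∈ oc w) (hxz : x * z = z * x)
    (hxv : ∀ y, (S.act x).1 y = sg (dc 16) y) {a : G} (ha : a ∈ oc z) (haw : a * w = w * a) :
    ∃ m, x * a * x⁻¹ * a⁻¹ = zp w (Bp (S.pr a) (dc 16)) * zp z m := by
  have h1 : x * a * x⁻¹ * a⁻¹ ∈ oc z := mul_mem (S.nrm hxz ha) (inv_mem ha)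
  have h2 : x * a * x⁻¹ * a⁻¹ ∈ oc w := by
    rw [show x * a * x⁻¹ * a⁻¹ = x * (a * x⁻¹ * a⁻¹) by group]
    exact mul_mem hx (nrm_w F haw (inv_mem hx))
  have h3 : S.pr (x * a * x⁻¹ * a⁻¹) = Bp (S.pr a) (dc 16) • dc 1 := by
    rw [S.pr_mul _ (S.nrm hxz ha) _ (inv_mem ha), S.act_spec x hxz a ha, S.pr_inv ha, hxv, sg,
      perp_of_comm F ha haw, zero_smul, add_zero, add_comm (S.pr a), add_assoc, v_add_self, add_zero]
  have hp : ∀ {e : ZMod 2}, e • dc 1 = (0 : SuzType.V) → e = 0 := fun {e} he => by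
    rcases zmod_cases e with rfl | rfl
    · rfl
    · rw [one_smul] at he; exact absurd he dc1_ne_zero
  have hq : ∀ {e : ZMod 2}, e • dc 1 = dc 1 → e = 1 := fun {e} he => by
    rcases zmod_cases e with rfl | rfl
    · rw [zero_smul] at he; exact absurd he.symm dc1_ne_zero
    · rfl
  rcases inter F h1 h2 with e | e | e | e <;> rw [e] at h3 ⊢
  · rw [S.pr_one] at h3
    exact ⟨0, by rw [hp h3.symm, zp_zero, zp_zero, one_mul]⟩
  · rw [S.pr_z] at h3
    exact ⟨1, by rw [hp h3.symm, zp_zero, zp_one, one_mul]⟩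
  · rw [F.pr_eq] at h3
    exact ⟨0, by rw [hq h3.symm, zp_zero, zp_one, mul_one]⟩
  · rw [(Fr_mul_z F).pr_eq] at h3
    exact ⟨1, by rw [hq h3.symm, zp_one, zp_one]⟩

/-- Some commutator is not a power of `w`. -/
theorem exists_off (F : S.Fr w) (hx : x ∈ oc w) (hxz : x * z = z * x)
    (hxv : ∀ y, (S.act x).1 y = sg (dc 16) y) :
    ∃ a, a ∈ oc z ∧ a * w = w * a ∧ x * a * x⁻¹ * a⁻¹ ≠ 1 ∧ x * a * x⁻¹ * a⁻¹ ≠ w := by
  obtain ⟨g, hg, hm, h0, -⟩ := transport F
  have hq : qn (cd (S.pr (g⁻¹ * z * g))).val = false := by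
    rw [← bz_eq_zero, ← q_dc (cd _).isLt, dc_cd]
    refine zp_inj S.zne ?_
    rw [← S.pr_sq _ hm, zp_zero]
    calc g⁻¹ * z * g * (g⁻¹ * z * g) = g⁻¹ * (z * z) * g := by group
      _ = 1 := by rw [S.zz]; group
  obtain ⟨a₀, ha₀, b₀, hb₀, hab⟩ := trans_e _
    (fun e => h0 (by rw [← dc_cd (S.pr (g⁻¹ * z * g)), e, dc_zero])) hq
  obtain ⟨r, hr, hract⟩ := exists_rr a₀.isLt b₀.isLt ha₀ hb₀
  obtain ⟨c, hc, rfl⟩ := S.act_surj r hr
  set h := g * c⁻¹ with hh
  have hcz : c⁻¹ * z * c = z := by rw [mul_assoc, ← hc, inv_mul_cancel_left]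
  have hcz' : c⁻¹ * z * c⁻¹⁻¹ = z := by rw [inv_inv]; exact hcz
  have hhz : h * z * h⁻¹ = w := by
    calc h * z * h⁻¹ = g * (c⁻¹ * z * c) * g⁻¹ := by rw [hh]; group
      _ = w := by rw [hcz, hg]
  set w' := h⁻¹ * z * h with hw'
  have hww : w' = c * (g⁻¹ * z * g) * c⁻¹ := by rw [hw', hh]; group
  have F' : S.Fr w' := by
    refine ⟨hww ▸ S.nrm hc hm, ⟨h⁻¹, by rw [hw']; group⟩, ?_⟩
    rw [hww, S.act_spec c hc _ hm, ← dc_cd (S.pr (g⁻¹ * z * g)), hract _ (cd _).isLt, hab]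
  set x' := h⁻¹ * x * h with hx'
  have hx'm : x' ∈ oc z := by
    have h1 := conj_mem_oc (g := h⁻¹) hx
    rwa [show h⁻¹ * w * h⁻¹⁻¹ = z by rw [← hhz]; group, inv_inv] at h1
  have hx'w : x' * w' = w' * x' := by
    calc x' * w' = h⁻¹ * (x * z) * h := by rw [hx', hw']; group
      _ = w' * x' := by rw [hxz, hx', hw']; group
  set i := cd (S.pr x') with hi
  have hi1 : Bn i.val 1 = false := by
    rw [← bz_eq_zero, ← Bp_dc i.isLt (by norm_num), hi, dc_cd]
    exact perp_of_comm F' hx'm hx'w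
  have hbig : i.val ≠ 0 ∧ i.val ≠ 1 := by
    rw [← not_or]
    intro hs
    have hxw' : x' ∈ oc w' := (lift_small F' hx'm (dc_cd _).symm hs).1
    have hxQ : x ∈ oc z := by
      have h1 := conj_mem_oc (g := h) hxw'
      rwa [show h * w' * h⁻¹ = z by rw [hw']; group, show h * x' * h⁻¹ = x by rw [hx']; group] at h1
    have e := hxv (dc 32)
    rw [S.act_inner hxQ, oG_one_apply, sg_dc (by norm_num) (by norm_num)] at e
    exact absurd (dc_inj (by norm_num) (sgn_lt (by norm_num) (by norm_num)) e) (by decide +kernel)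
  obtain ⟨v, hv, hiv⟩ := perp_pair i hi1 hbig.1 hbig.2
  have hv' : Bp (dc v.val) (dc 1) = 0 := by rw [Bp_dc v.isLt (by norm_num), hv]; rfl
  obtain ⟨a', ha', ha'z, ha'v⟩ := exists_sg F' hv'
  have hpr : S.pr (x' * a' * x'⁻¹ * a'⁻¹) = dc 1 := by
    rw [show x' * a' * x'⁻¹ * a'⁻¹ = x' * (a' * x'⁻¹ * a'⁻¹) by group,
      S.pr_mul _ hx'm _ (S.nrm ha'z (inv_mem hx'm)), S.act_spec a' ha'z _ (inv_mem hx'm),
      S.pr_inv hx'm, ha'v, sg, perp_of_comm F' hx'm hx'w, zero_smul, add_zero, ← add_assoc,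
      v_add_self, zero_add, show Bp (S.pr x') (dc v.val) = 1 by
        rw [← dc_cd (S.pr x'), ← hi, Bp_dc i.isLt v.isLt, hiv]; rfl, one_smul]
  refine ⟨h * a' * h⁻¹, ?_, ?_, fun e => ?_, fun e => ?_⟩
  · have h1 := conj_mem_oc (g := h) ha'
    rwa [show h * w' * h⁻¹ = z by rw [hw']; group] at h1
  · calc h * a' * h⁻¹ * w = h * (a' * z) * h⁻¹ := by rw [← hhz]; group
      _ = w * (h * a' * h⁻¹) := by rw [ha'z, ← hhz]; group
  · refine dc1_ne_zero ?_
    rw [← hpr, show x' * a' * x'⁻¹ * a'⁻¹ =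
      h⁻¹ * (x * (h * a' * h⁻¹) * x⁻¹ * (h * a' * h⁻¹)⁻¹) * h by rw [hx']; group, e]
    simp [S.pr_one]
  · refine dc1_ne_zero ?_
    rw [← hpr, show x' * a' * x'⁻¹ * a'⁻¹ =
      h⁻¹ * (x * (h * a' * h⁻¹) * x⁻¹ * (h * a' * h⁻¹)⁻¹) * h by rw [hx']; group, e,
      show h⁻¹ * w * h = z by rw [← hhz]; group, S.pr_z]

/-- The commutators of an element of `oc w` over the non-singular Siegel map. -/
theorem com_eq (F : S.Fr w) (hx : x ∈ oc w) (hxz : x * z = z * x)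
    (hxv : ∀ y, (S.act x).1 y = sg (dc 16) y) {a : G} (ha : a ∈ oc z)
    (hae : Bp (S.pr a) (dc 1) = 0) :
    x * a * x⁻¹ * a⁻¹ = zp (w * z) (Bp (S.pr a) (dc 16)) := by
  classical
  have hwc : ∀ {a : G}, a ∈ oc z → Bp (S.pr a) (dc 1) = 0 → a * w = w * a := fun ha h =>
    (S.commute_iff ha F.mem).2 (by rwa [F.pr_eq])
  choose! μ hμ using fun (a : G) (h : a ∈ oc z ∧ a * w = w * a) => com_form F hx hxz hxv h.1 h.2
  have huniq : ∀ {α m m' : ZMod 2}, zp w α * zp z m = zp w α * zp z m' → m = m' := fun e =>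
    zp_inj S.zne (mul_left_cancel e)
  have hone : μ 1 = 0 := by
    refine huniq ((hμ 1 ⟨one_mem _, by simp⟩).symm.trans ?_)
    rw [S.pr_one, show Bp 0 (dc 16) = 0 from polar_zero_left _ _, zp_zero, zp_zero]; group
  have hmul : ∀ a b, a ∈ oc z ∧ a * w = w * a → b ∈ oc z ∧ b * w = w * b →
      μ (a * b) = μ a + μ b := by
    intro a b hA hB
    have hab : a * b * w = w * (a * b) := Commute.mul_left hA.2 hB.2
    refine huniq ((hμ _ ⟨mul_mem hA.1 hB.1, hab⟩).symm.trans ?_)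
    rw [comm_group, hμ a hA, hμ b hB, ← mul_assoc a, zp_comm_of hA.2, mul_assoc _ a (zp z _),
      zp_comm_of (S.comm hA.1), S.pr_mul _ hA.1 _ hB.1, Bp_add_left, zp_add S.zz,
      zp_add (ww F)]
    have hc : ∀ α β : ZMod 2, zp z α * zp w β = zp w β * zp z α := fun α β =>
      zp_comm_of (zp_comm_of (wz F).symm β).symm α |>.symm
    calc zp w (Bp (S.pr a) (dc 16)) * zp z (μ a) *
          (zp w (Bp (S.pr b) (dc 16)) * (zp z (μ b) * a) * a⁻¹)
        = zp w (Bp (S.pr a) (dc 16)) * (zp z (μ a) * zp w (Bp (S.pr b) (dc 16))) * zp z (μ b) := by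
          group
      _ = _ := by rw [hc]; group
  have hzw : ∀ k ∈ oc z, k ∈ oc w → μ k = 0 := by
    intro k hk hk'
    refine huniq ((hμ k ⟨hk, comm_w F hk'⟩).symm.trans ?_)
    rw [show Bp (S.pr k) (dc 16) = 0 by
        rcases inter F hk hk' with e | e | e | e <;> rw [e]
        · rw [S.pr_one]; exact polar_zero_left _ _
        · rw [S.pr_z]; exact polar_zero_left _ _
        · rw [F.pr_eq, Bp_dc (by norm_num) (by norm_num)]; rfl
        · rw [(Fr_mul_z F).pr_eq, Bp_dc (by norm_num) (by norm_num)]; rfl,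
      zp_zero, zp_zero, inter_comm F hk hk' hxz (comm_w F hx)]
    group
  have hdep : ∀ a b, a ∈ oc z ∧ a * w = w * a → b ∈ oc z → S.pr a = S.pr b → μ b = μ a := by
    intro a b hA hb e
    rcases S.pr_eq hA.1 hb e with rfl | rfl
    · rfl
    · rw [hmul a z hA ⟨S.zmem, (wz F).symm⟩, hzw z S.zmem (zmem_oc F), add_zero]
  -- the functional is given by a vector
  choose lift hlift hpr using S.pr_surj
  let s : ℕ → Bool := fun k => decide (μ (lift (dc k)) = 1)
  obtain ⟨p, hp, p2, p8, p16, p32⟩ := functional (s 2) (s 8) (s 16) (s 32)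
  have hk : ∀ k ∈ [1, 2, 8, 16, 32], k < 64 ∧ Bn k 1 = false ∧
      μ (lift (dc k)) = bz (Bn k p.val) := by
    intro k hk
    simp only [List.mem_cons, List.not_mem_nil, or_false] at hk
    have hs : ∀ m, μ (lift (dc m)) = bz (s m) := fun m => by
      rcases zmod_cases (μ (lift (dc m))) with e | e <;> simp [s, e, bz]
    rcases hk with rfl | rfl | rfl | rfl | rfl
    · refine ⟨by norm_num, rfl, ?_⟩
      rw [show Bn 1 p.val = false by rw [← hp]; exact Bn_symm 1 p]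
      refine hzw _ (hlift _) ((lift_small F (hlift _) (hpr _) (Or.inr rfl)).1)
    · exact ⟨by norm_num, rfl, by rw [p2, hs]⟩
    · exact ⟨by norm_num, rfl, by rw [p8, hs]⟩
    · exact ⟨by norm_num, rfl, by rw [p16, hs]⟩
    · exact ⟨by norm_num, rfl, by rw [p32, hs]⟩
  have hlin : ∀ a, a ∈ oc z → Bp (S.pr a) (dc 1) = 0 → μ a = Bp (S.pr a) (dc p.val) := by
    intro a ha hae
    set v := cd (S.pr a) with hv
    have hv1 : Bn v.val 1 = false := by
      rw [← bz_eq_zero, ← Bp_dc v.isLt (by norm_num), hv, dc_cd]; exact hae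
    have hP : ∀ k ∈ [1, 2, 8, 16, 32], v.val &&& k < 64 ∧ ∃ t, (t ∈ oc z ∧ t * w = w * t) ∧
        S.pr t = dc (v.val &&& k) ∧ μ t = Bp (S.pr t) (dc p.val) := by
      intro k hkk
      obtain ⟨h64, hk1, hμk⟩ := hk k hkk
      refine ⟨lt_of_le_of_lt Nat.and_le_left v.isLt, ?_⟩
      have hk6 : k ∈ [1, 2, 4, 8, 16, 32] := by
        simp only [List.mem_cons, List.not_mem_nil, or_false] at hkk ⊢; omega
      rcases part_cases v k hk6 with e | e <;> rw [e]
      · exact ⟨1, ⟨one_mem _, by simp⟩, by rw [S.pr_one, dc_zero],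
          by rw [hone, S.pr_one]; exact (polar_zero_left _ _).symm⟩
      · refine ⟨lift (dc k), ⟨hlift _, hwc (hlift _) ?_⟩, hpr _, ?_⟩
        · rw [hpr, Bp_dc h64 (by norm_num), hk1]; rfl
        · rw [hμk, hpr, Bp_dc h64 p.isLt]
    have hadd : ∀ {t u : G}, t ∈ oc z ∧ t * w = w * t → u ∈ oc z ∧ u * w = w * u →
        μ t = Bp (S.pr t) (dc p.val) → μ u = Bp (S.pr u) (dc p.val) →
        μ (t * u) = Bp (S.pr (t * u)) (dc p.val) := fun hT hU e1 e2 => by
      rw [hmul _ _ hT hU, e1, e2, S.pr_mul _ hT.1 _ hU.1, Bp_add_left]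
    have hgm : ∀ {t u : G}, t ∈ oc z ∧ t * w = w * t → u ∈ oc z ∧ u * w = w * u →
        t * u ∈ oc z ∧ t * u * w = w * (t * u) := fun hT hU =>
      ⟨mul_mem hT.1 hU.1, Commute.mul_left hT.2 hU.2⟩
    obtain ⟨l1, t1, g1, q1, m1⟩ := hP 1 (by simp)
    obtain ⟨l2, t2, g2, q2, m2⟩ := hP 2 (by simp)
    obtain ⟨l8, t8, g8, q8, m8⟩ := hP 8 (by simp)
    obtain ⟨l16, t16, g16, q16, m16⟩ := hP 16 (by simp)
    obtain ⟨l32, t32, g32, q32, m32⟩ := hP 32 (by simp)
    have g12 := hgm g1 g2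
    have g816 := hgm g8 g16
    have g4 := hgm g12 g816
    have he : S.pr (t1 * t2 * (t8 * t16) * t32) = S.pr a := by
      rw [S.pr_mul _ g4.1 _ g32.1, S.pr_mul _ g12.1 _ g816.1, S.pr_mul _ g1.1 _ g2.1,
        S.pr_mul _ g8.1 _ g16.1, q1, q2, q8, q16, q32, ← dc_xor l1 l2, ← dc_xor l8 l16,
        ← dc_xor (xor_lt l1 l2) (xor_lt l8 l16),
        ← dc_xor (xor_lt (xor_lt l1 l2) (xor_lt l8 l16)) l32, ← perp_code v hv1, hv, dc_cd]
    rw [hdep _ _ (hgm g4 g32) ha he, hadd g4 g32 (hadd g12 g816 (hadd g1 g2 m1 m2)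
      (hadd g8 g16 m8 m16)) m32, he]
  have hinv : ∀ r : ℕ, r < 64 → qn r = true → g2n 10 r 1 = 1 → g2n 10 r 16 = 16 →
      ∀ k ∈ [2, 8, 16, 32], Bn (g2n 10 r k) p.val = Bn k p.val := by
    intro r hr hqr he1 he16 k hkk
    obtain ⟨g, hg, hgact⟩ := exists_rr (a := 10) (by norm_num) hr rfl hqr
    have hg1 : g.1 (dc 1) = dc 1 := by rw [hgact 1 (by norm_num), he1]
    have hg16 : g.1 (dc 16) = dc 16 := by rw [hgact 16 (by norm_num), he16]
    obtain ⟨c, hc, hcw, rfl⟩ := exists_stab F g hg hg1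
    have hci := (Commute.inv_left hc).eq
    obtain ⟨h64, hk1, hμk⟩ := hk k (by simp only [List.mem_cons] at hkk ⊢; exact Or.inr hkk)
    set t := lift (dc k)
    have htw : t * w = w * t := hwc (hlift _) (by rw [hpr, Bp_dc h64 (by norm_num), hk1]; rfl)
    set t' := c * t * c⁻¹ with ht'
    have ht'm : t' ∈ oc z := S.nrm hc (hlift _)
    have ht'w : t' * w = w * t' :=
      ((Commute.mul_left hcw htw).mul_left (Commute.inv_left hcw)).eq
    have hx' := nrm_w F hcw hx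
    have hx'z : c * x * c⁻¹ * z = z * (c * x * c⁻¹) :=
      ((Commute.mul_left hc hxz).mul_left (Commute.inv_left hc)).eq
    obtain ⟨j, hj, hj', hxj⟩ := same_act F hx hxz hx' hx'z fun y => by
      rw [S.act_mul (Commute.mul_left hc hxz).eq hci, S.act_mul hc hxz, S.act_inv hc, oG_mul_apply,
        oG_mul_apply, hxv, hxv, sg_equiv _ hg1, oG_apply_inv, hg16]
    have hjt : t' * j = j * t' := inter_comm F hj hj' (S.comm ht'm) ht'w
    have hpt : S.pr t' = dc (g2n 10 r k) := by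
      rw [ht', S.act_spec c hc _ (hlift _), hpr, hgact k h64]
    have hl := g2n_lt (a := 10) (by norm_num) hr h64
    have hperp : Bp (S.pr t') (dc 1) = 0 := perp_of_comm F ht'm ht'w
    have e : x * t' * x⁻¹ * t'⁻¹ = c * (x * t * x⁻¹ * t⁻¹) * c⁻¹ := by
      calc x * t' * x⁻¹ * t'⁻¹ = x * (t' * j * j⁻¹) * x⁻¹ * t'⁻¹ := by group
        _ = x * j * t' * (x * j)⁻¹ * t'⁻¹ := by rw [hjt]; group
        _ = c * (x * t * x⁻¹ * t⁻¹) * c⁻¹ := by rw [← hxj, ht']; group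
    have hct : c * (zp w (Bp (S.pr t) (dc 16)) * zp z (μ t)) * c⁻¹ =
        zp w (Bp (S.pr t) (dc 16)) * zp z (μ t) := by
      rw [← mul_assoc, zp_comm_of hcw, mul_assoc _ c, zp_comm_of hc]; group
    rw [hμ t' ⟨ht'm, ht'w⟩, hμ t ⟨hlift _, htw⟩, hct] at e
    have hB : Bp (S.pr t') (dc 16) = Bp (S.pr t) (dc 16) := by
      rw [ht', S.act_spec c hc _ (hlift _)]
      conv_lhs => rw [← hg16]
      exact polar_g _ _ _
    rw [hB] at e
    refine bz_inj _ _ ?_
    rw [← hμk, ← huniq e, hlin t' ht'm hperp, hpt, Bp_dc hl p.isLt]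
  have hp4 : p.val ∈ [0, 1, 16, 17] := by
    refine stab_inv p hp (List.all_eq_true.2 fun k hkk => ?_)
    rw [Bool.and_eq_true, beq_iff_eq, beq_iff_eq]
    exact ⟨hinv 16 (by norm_num) rfl rfl rfl k hkk, hinv 18 (by norm_num) rfl rfl rfl k hkk⟩
  have hBp : ∀ b, Bp (S.pr b) (dc 1) = 0 →
      Bp (S.pr b) (dc p.val) = bz (if p.val ∈ [0, 1] then false else Bn (cd (S.pr b)).val 16) := by
    intro b hb
    rw [← Bn_shift p _ (by rw [← bz_eq_zero, ← Bp_dc (cd _).isLt (by norm_num), dc_cd]; exact hb) hp4,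
      ← Bp_dc (cd _).isLt p.isLt, dc_cd]
  have hnz : p.val ∉ [0, 1] := by
    intro h01
    obtain ⟨b, hb, hbw, hb1, hb2⟩ := exists_off F hx hxz hxv
    have hbe := perp_of_comm F hb hbw
    have e := hμ b ⟨hb, hbw⟩
    rw [hlin b hb hbe, hBp b hbe, if_pos h01, show bz false = 0 from rfl, zp_zero, mul_one] at e
    rcases zmod_cases (Bp (S.pr b) (dc 16)) with e' | e' <;> rw [e'] at e
    · exact hb1 (e.trans (zp_zero w))
    · exact hb2 (e.trans (zp_one w))
  rw [hμ a ⟨ha, hwc ha hae⟩, hlin a ha hae, hBp a hae, if_neg hnz, zp_wz F,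
    ← Bp_dc (cd _).isLt (by norm_num), dc_cd]

/-- The square of an element with these commutators. -/
theorem sq_eq (F : S.Fr w) {y : G} (hyz : y * z = z * y)
    (hyv : ∀ u, (S.act y).1 u = sg (dc 16) u)
    (h : ∀ a ∈ oc z, Bp (S.pr a) (dc 1) = 0 →
      y * a * y⁻¹ * a⁻¹ = zp (w * z) (Bp (S.pr a) (dc 16))) : y * y = w := by
  have h16 : Bp (dc 16) (dc 1) = 0 := by rw [Bp_dc (by norm_num) (by norm_num)]; rfl
  obtain ⟨x, hx, hxz, hxv⟩ := exists_sg F h16
  have hr : x⁻¹ * y ∈ oc z := S.act_ker _ (Commute.mul_left (Commute.inv_left hxz) hyz).eq (by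
    rw [S.act_mul (Commute.inv_left hxz).eq hyz, S.act_inv hxz, ext_oG (g := S.act y) (h := S.act x)
      (fun u => by rw [hyv, hxv]), inv_mul_cancel])
  set r := x⁻¹ * y with hrd
  have hy : y = x * r := by rw [hrd]; group
  have hperp : ∀ v : Fin 64, Bn v.val 1 = false → Bn (cd (S.pr r)).val v.val = false := by
    intro v hv
    obtain ⟨a, ha, hav⟩ := S.pr_surj (dc v.val)
    have hae : Bp (S.pr a) (dc 1) = 0 := by rw [hav, Bp_dc v.isLt (by norm_num), hv]; rfl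
    have e1 := h a ha hae
    have e2 := com_eq F hx hxz hxv ha hae
    have e3 := S.commutator_eq hr ha
    have e4 : y * a * y⁻¹ * a⁻¹ = x * (r * a * r⁻¹ * a⁻¹) * x⁻¹ * (x * a * x⁻¹ * a⁻¹) := by
      rw [hy]; group
    rw [e1, e3, e2, S.comm_zp hxz, mul_inv_cancel_right] at e4
    have e5 := zp_inj S.zne (a := Bp (S.pr r) (S.pr a)) (b := 0)
      (by rw [zp_zero]; exact mul_eq_right.1 e4.symm)
    rw [hav, ← dc_cd (S.pr r), Bp_dc (cd _).isLt v.isLt, bz_eq_zero] at e5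
    exact e5
  have hsmall : (cd (S.pr r)).val = 0 ∨ (cd (S.pr r)).val = 1 :=
    (by decide +kernel : ∀ i : Fin 64, (∀ v : Fin 64, Bn v.val 1 = false → Bn i.val v.val = false) →
      i.val = 0 ∨ i.val = 1) _ hperp
  have hym : y ∈ oc w := hy ▸ mul_mem hx (lift_small F hr (dc_cd _).symm hsmall).1
  exact (sq_cases F hym).resolve_left (sq_nonsingular F hym hyz hyv)

end Cfsg.Agent.SuzRecog
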